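import Cfsg.Agent.SympType.Controlled

/-!
# Transitivity on the involutions of a group of symplectic type

No central square root of `-1` is needed.
-/

set_option autoImplicit false
set_option linter.unusedSectionVars false

namespace CfsgLib.SympType

open Matrix Cfsg.Geo

local notation:max "mat" => Units.val

variable {ι : Type} [Fintype ι] [DecidableEq ι] [Nonempty ι] {F : Type*} [Field F] {R : Subgroup (GL ι F)}
  (D : Data R)
include D

/-- A non-scalar element is distinguished by its bits. -/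
theorem Data.ns_of_bit {x y : GL ι F} (h : bit x y = 1) : x ∉ scalars ι F := fun hx => by
  rw [bit_eq_zero.2 (scalar_comm hx y)] at h
  exact zero_ne_one h

/-- An involution anticommuting with two classes. -/
theorem Data.exists_plus_anti (h8 : 8 ≤ Fintype.card ι) {a b : GL ι F} (ha : a ∈ R) (hb : b ∈ R)
    (hna : a ∉ scalars ι F) (hnb : b ∉ scalars ι F) (hab : a⁻¹ * b ∉ scalars ι F) :
    ∃ c ∈ R, c * c = 1 ∧ bit c a = 1 ∧ bit c b = 1 := by
  obtain ⟨ua, hua, ub, hub, h1, h2, h3, h4⟩ := D.exists_bits ha hb hna hnb hab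
  obtain ⟨o, ho, o', ho', e1, e2, e3, e4, e5⟩ := D.exists_orth_anti h8 ha hb hna hnb hab
  obtain ⟨c₀, hc₀, hca, hcb⟩ : ∃ c ∈ R, bit c a = 1 ∧ bit c b = 1 :=
    ⟨_, R.mul_mem hua hub, by rw [D.bit_mul hua hub ha, bit_comm ua, bit_comm ub, h1, h3, add_zero],
      by rw [D.bit_mul hua hub hb, bit_comm ua, bit_comm ub, h2, h4, zero_add]⟩
  by_contra hall
  push Not at hall
  have hroot : ∀ w ∈ R, bit w a = 0 → bit w b = 0 → (c₀ * w) * (c₀ * w) = -1 := fun w hw f1 f2 =>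
    (D.sq _ (R.mul_mem hc₀ hw)).resolve_left fun h =>
      hall _ (R.mul_mem hc₀ hw) h (by rw [D.bit_mul hc₀ hw ha, hca, f1, add_zero])
        (by rw [D.bit_mul hc₀ hw hb, hcb, f2, add_zero])
  have hc2 : c₀ * c₀ = -1 := by simpa using hroot 1 R.one_mem (bit_eq_zero.2 (by simp)) (bit_eq_zero.2 (by simp))
  have hci : c₀⁻¹ = -c₀ := inv_eq_of_mul_eq_one_right (by rw [mul_neg, hc2, neg_neg])
  have hmove : ∀ w ∈ R, bit w a = 0 → bit w b = 0 → c₀ * w * c₀⁻¹ = w⁻¹ := fun w hw f1 f2 => by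
    rw [hci]
    refine eq_inv_of_mul_eq_one_left ?_
    rw [mul_neg, neg_mul, mul_assoc, hroot w hw f1 f2, neg_neg]
  have k := hmove _ (R.mul_mem ho ho') (by rw [D.bit_mul ho ho' ha, e1, e3, add_zero])
    (by rw [D.bit_mul ho ho' hb, e2, e4, add_zero])
  rw [show c₀ * (o * o') * c₀⁻¹ = (c₀ * o * c₀⁻¹) * (c₀ * o' * c₀⁻¹) by group, hmove o ho e1 e2,
    hmove o' ho' e3 e4, _root_.mul_inv_rev] at k
  have k' : o' * o = o * o' := by simpa [mul_assoc] using congrArg (fun g : GL ι F => g⁻¹) k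
  rw [bit_eq_zero.2 k'.symm] at e5
  exact zero_ne_one e5

/-- A square root of `-1` commuting with an element. -/
theorem Data.exists_root_comm (h8 : 8 ≤ Fintype.card ι) {a : GL ι F} (ha : a ∈ R) (hna : a ∉ scalars ι F) :
    ∃ c ∈ R, c * c = -1 ∧ c ∉ scalars ι F ∧ c * a = a * c := by
  obtain ⟨b, hb, hab⟩ := D.exists_bit_one hna
  have hns : a⁻¹ * b ∉ scalars ι F := fun h => by
    have e := D.bit_mul (R.inv_mem ha) hb ha
    rw [bit_eq_zero.2 (scalar_comm h a), bit_eq_zero.2 (Commute.inv_left (Commute.refl a)).eq, zero_add, bit_comm,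
      hab] at e
    exact zero_ne_one e
  obtain ⟨o, ho, o', ho', e1, -, e3, -, e5⟩ :=
    D.exists_orth_anti h8 ha hb hna (D.ns_of_bit (by rwa [bit_comm] : bit b a = 1)) hns
  have hc : o * o' * a = a * (o * o') := bit_eq_zero.1 (by rw [D.bit_mul ho ho' ha, e1, e3, add_zero])
  rcases D.sq o ho with h | h
  · rcases D.sq o' ho' with h' | h'
    · refine ⟨o * o', R.mul_mem ho ho', ?_, D.ns_of_bit (y := o') (by rw [D.bit_mul ho ho' ho', e5, bit_self,
        add_zero]), hc⟩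
      rw [mul_assoc, ← mul_assoc o', show o' * o = -(o * o') by rw [(D.bit_eq_one ho ho').1 e5, neg_neg], neg_mul,
        mul_assoc o, h', mul_one, mul_neg, h]
    · exact ⟨o', ho', h', D.ns_of_bit (y := o) (by rwa [bit_comm]), bit_eq_zero.1 e3⟩
  · exact ⟨o, ho, h, D.ns_of_bit e5, bit_eq_zero.1 e1⟩

/-- A sign does not change `R`. -/
theorem Data.neg_mem {x : GL ι F} (hx : x ∈ R) : -x ∈ R := by
  rw [← neg_one_mul]; exact R.mul_mem D.neg hx

variable {X : Subgroup (GL ι F)} (A : Ambient X R) (h8 : 8 ≤ Fintype.card ι)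
include A h8

/-- Anticommuting involutions are conjugate up to sign. -/
theorem Data.trans_plus_anti {a b : GL ι F} (ha : a ∈ R) (hb : b ∈ R) (ha2 : a * a = 1) (hb2 : b * b = 1)
    (hab : bit a b = 1) : ∃ n ∈ subgroupNormalizer R ⊓ X, n * a * n⁻¹ = -b := by
  have hna : a ∉ scalars ι F := D.ns_of_bit hab
  have hab' : a * b = -(b * a) := (D.bit_eq_one ha hb).1 hab
  have hba' : b * a = -(a * b) := by rw [hab', neg_neg]
  obtain ⟨z, hz⟩ : ∃ z, z = a * b := ⟨_, rfl⟩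
  have hzR : z ∈ R := hz ▸ R.mul_mem ha hb
  have hz2 : z * z = -1 := by
    rw [hz, mul_assoc, ← mul_assoc b, hba', neg_mul, mul_assoc a, hb2, mul_one, mul_neg, ha2]
  have hzns : z ∉ scalars ι F := D.ns_of_bit (y := a) (by
    rw [hz, D.bit_mul ha hb ha, bit_self, bit_comm, hab, zero_add])
  obtain ⟨c, hc, hc2, hcns, hca⟩ := D.exists_root_comm h8 ha hna
  obtain ⟨m, hm, s, hs, hms⟩ := D.trans_root h8 A hzR hc hz2 hc2 hzns hcns
  obtain ⟨t, t', γ, ht, ht', hγ, k, hk, hγk⟩ :=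
    D.exists_pair A hzR hc hz2 hc2 hzns ⟨m, D.sign_of_conj hzR hc (hc2.trans hz2.symm) hs hms⟩
  have hanti : z * a = -(a * z) := by
    rw [hz, mul_assoc, hba', mul_neg, ← mul_assoc]
  refine ⟨γ, hγ, ?_⟩
  rw [hγk, show k * (t * t') * a * (k * (t * t'))⁻¹ = k * (t * (t' * a * t'⁻¹) * t⁻¹) * k⁻¹ by group,
    scalar_comm hk, mul_inv_cancel_right, tv_comm ht' hca, mul_inv_cancel_right, tv_anti ht hz2 hanti,
    mul_inv_cancel_right, hz, mul_assoc, hba', mul_neg, ← mul_assoc, ha2, one_mul]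

/-- Involutions are conjugate up to sign. -/
theorem Data.trans_plus {a b : GL ι F} (ha : a ∈ R) (hb : b ∈ R) (ha2 : a * a = 1) (hb2 : b * b = 1)
    (hna : a ∉ scalars ι F) (hnb : b ∉ scalars ι F) :
    ∃ n ∈ subgroupNormalizer R ⊓ X, n * a * n⁻¹ = b ∨ n * a * n⁻¹ = -b := by
  by_cases hs : a⁻¹ * b ∈ scalars ι F
  · refine ⟨1, one_mem _, D.sign_of_conj (n := 1) ha hb (hb2.trans ha2.symm) (s := (a⁻¹ * b)⁻¹) (inv_mem hs) ?_⟩
    rw [scalar_comm (inv_mem hs) b]
    group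
  rcases (by decide : ∀ c : ZMod 2, c = 0 ∨ c = 1) (bit a b) with h | h
  · obtain ⟨c, hc, hc2, hca, hcb⟩ := D.exists_plus_anti h8 ha hb hna hnb hs
    obtain ⟨n, hn, hn'⟩ := D.trans_plus_anti A h8 ha hc ha2 hc2 (by rwa [bit_comm])
    obtain ⟨m, hm, hm'⟩ := D.trans_plus_anti A h8 hc hb hc2 hb2 hcb
    refine ⟨m * n, mul_mem hm hn, Or.inl ?_⟩
    rw [show m * n * a * (m * n)⁻¹ = m * (n * a * n⁻¹) * m⁻¹ by group, hn', mul_neg, neg_mul, hm', neg_neg]
  · obtain ⟨n, hn, hn'⟩ := D.trans_plus_anti A h8 ha hb ha2 hb2 h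
    exact ⟨n, hn, Or.inr hn'⟩

end CfsgLib.SympType
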