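import Cfsg.Agent.SLEight.SymplecticType

/-!
# Normalisers of symplectic type `2`-groups are maximal in `SL_{2^k}(p)`

Induction on `k` by doubling, from the dimension four.
-/

set_option autoImplicit false
set_option linter.unusedSectionVars false

namespace CfsgLib.SympType

open Matrix Cfsg.Geo

local notation:max "mat" => Units.val

variable {κ : Type} [Fintype κ] [DecidableEq κ] [Nonempty κ] {F : Type*} [Field F] {R : Subgroup (GL κ F)} (D : Data R)
include D

/-- A non-scalar element. -/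
theorem Data.exists_nonscalar (h : 1 < Fintype.card κ) : ∃ x ∈ R, x ∉ scalars κ F := by
  by_contra hc
  push Not at hc
  have hle : Submodule.span F (matrixSet R) ≤ Submodule.span F {(1 : Matrix κ κ F)} := by
    rw [Submodule.span_le]
    rintro _ ⟨g, hg, rfl⟩
    obtain ⟨c, he⟩ := (mem_scalars_iff g).1 (hc g hg)
    show mat g ∈ _
    rw [he]
    exact Submodule.smul_mem _ _ (Submodule.mem_span_singleton_self _)
  rw [CfsgLib.Aschbacher.span_eq_top_of_absIrred D.abs, top_le_iff] at hle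
  have h1 : Module.finrank F ↥(Submodule.span F {(1 : Matrix κ κ F)}) = 1 := finrank_span_singleton one_ne_zero
  rw [hle, finrank_top, Module.finrank_matrix, Module.finrank_self, mul_one] at h1
  exact absurd (Nat.eq_one_of_mul_eq_one_right h1) (by omega)

/-- A centre of order four contains a scalar square root of `-1`. -/
theorem Data.exists_root (h4 : Nat.card (Subgroup.center R) = 4) : ∃ j ∈ R, j ∈ scalars κ F ∧ j * j = -1 := by
  classical
  by_contra h
  push Not at h
  have hsub : (fun z : Subgroup.center R => ((z : R) : GL κ F)) '' Set.univ ⊆ {1, -1} := by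
    rintro _ ⟨z, -, rfl⟩
    have hzs : ((z : R) : GL κ F) ∈ scalars κ F :=
      D.scalar_of_comm fun y hy => (congrArg Subtype.val (Subgroup.mem_center_iff.1 z.2 ⟨y, hy⟩)).symm
    obtain ⟨c, hc⟩ := (mem_scalars_iff _).1 hzs
    rcases D.sq _ (z : R).2 with e | e
    · have hc2 : (c : F) * c = 1 := by
        have := congrArg (fun u : GL κ F => mat u (Classical.arbitrary κ) (Classical.arbitrary κ)) e
        simpa [hc, smul_smul] using this
      rcases mul_self_eq_one_iff.1 hc2 with h' | h'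
      · exact Or.inl (Units.ext (by rw [hc, h']; simp))
      · exact Or.inr (Units.ext (by rw [hc, h']; simp))
    · exact absurd e (h _ (z : R).2 hzs)
  have hle := Set.ncard_le_ncard hsub (Set.toFinite _)
  rw [Set.ncard_image_of_injective _ (fun a b h => Subtype.ext (Subtype.ext h)), Set.ncard_univ, h4] at hle
  have := hle.trans (Set.ncard_insert_le _ _)
  simp at this

/-- Two anticommuting involutions. -/
theorem Data.exists_involutions (h : 1 < Fintype.card κ) {j : GL κ F} (hj : j ∈ R) (hjs : j ∈ scalars κ F)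
    (hj2 : j * j = -1) : ∃ x ∈ R, ∃ y ∈ R, x * x = 1 ∧ y * y = 1 ∧ x * y = -(y * x) := by
  obtain ⟨x, hx, hxns⟩ := D.exists_nonscalar h
  obtain ⟨y, hy, hxy⟩ := D.exists_anti hx hxns
  obtain ⟨-, a, ha, hxR, hx2⟩ := D.rootify hj hjs hj2 hx
  obtain ⟨-, b, hb, hyR, hy2⟩ := D.rootify hj hjs hj2 hy
  refine ⟨_, hxR, _, hyR, hx2, hy2, ?_⟩
  rw [show a * x * (b * y) = a * (x * b) * y by group, ← scalar_comm hb x, show b * y * (a * x) = b * (y * a) * x by
    group, ← scalar_comm ha y, show a * (b * x) * y = a * b * (x * y) by group, hxy, scalar_comm ha b, mul_neg]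
  group

/-- In dimensions divisible by four all elements have determinant one. -/
theorem Data.det_eq_one [Finite F] {j : GL κ F} (hj : j ∈ R) (hjs : j ∈ scalars κ F) (hj2 : j * j = -1)
    (h4 : 4 ∣ Fintype.card κ) {x : GL κ F} (hx : x ∈ R) : (mat x).det = 1 := by
  classical
  have hscal : ∀ z ∈ R, z ∈ scalars κ F → (mat z).det = 1 := fun z hz hzs => by
    obtain ⟨c, hc⟩ := (mem_scalars_iff z).1 hzs
    have hc4 : (c : F) ^ 4 = 1 := by
      rcases D.sq z hz with e | e <;>
      · have := congrArg (fun u : GL κ F => mat u (Classical.arbitrary κ) (Classical.arbitrary κ)) e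
        simp [hc] at this
        rw [show (c : F) ^ 4 = (c * c) * (c * c) by ring, this]
        ring
    obtain ⟨l, hl⟩ := h4
    rw [hc, det_smul, det_one, mul_one, hl, pow_mul, hc4, one_pow]
  have hinv : ∀ u ∈ R, u * u = 1 → u ∉ scalars κ F → (mat u).det = 1 := fun u hu hu2 huns => by
    obtain ⟨v, hv, huv⟩ := D.exists_anti hu huns
    obtain ⟨-, b, hb, hvR, hv2⟩ := D.rootify hj hjs hj2 hv
    have huv' : u * (b * v) = -(b * v * u) := by
      rw [← mul_assoc, ← scalar_comm hb u, mul_assoc, huv, mul_neg, mul_assoc b v u]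
    obtain ⟨l, hl⟩ := h4
    obtain ⟨M, N, hMN, hNM, hsg, -⟩ := exists_coords (ι := Fin (2 * l)) D.two
      ((Fintype.equivFin κ).trans ((finCongr (by omega)).trans (finSumFinEquiv (m := 2 * l) (n := 2 * l)).symm))
      hu2 hv2 huv'
    rw [← hsg, det_coordEquiv (hMN := hMN) (hNM := hNM), sg, det_bd, Units.val_one, det_one, one_mul, Units.val_neg,
      Units.val_one, det_neg, det_one, mul_one, Fintype.card_fin, pow_mul, neg_one_sq, one_pow]
  by_cases hxs : x ∈ scalars κ F
  · exact hscal x hx hxs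
  obtain ⟨-, a, ha, haR, ha2⟩ := D.rootify hj hjs hj2 hx
  have haR' : a ∈ R := by simpa using R.mul_mem haR (R.inv_mem hx)
  have hns : a * x ∉ scalars κ F := fun h => hxs (by simpa using mul_mem (inv_mem ha) h)
  have e := hinv _ haR ha2 hns
  rwa [Units.val_mul, det_mul, hscal a haR' ha, one_mul] at e

omit D κ R

/-- The small group of a split group. -/
theorem Split.small_root {ι : Type} [Fintype ι] [DecidableEq ι] [Nonempty ι] {R : Subgroup (GL (ι ⊕ ι) F)}
    (_S : Split R) {j : GL (ι ⊕ ι) F} (hj : j ∈ R) (hjs : j ∈ scalars (ι ⊕ ι) F) (hj2 : j * j = -1) :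
    ∃ j₀ ∈ small R, j₀ ∈ scalars ι F ∧ j₀ * j₀ = -1 := by
  obtain ⟨c, hc⟩ := (mem_scalars_iff j).1 hjs
  obtain ⟨j₀, hj₀⟩ : ∃ j₀ : GL ι F, mat j₀ = (c : F) • (1 : Matrix ι ι F) :=
    ⟨Units.map (Matrix.scalar ι : F →+* Matrix ι ι F).toMonoidHom c, by simp [Matrix.smul_one_eq_diagonal]⟩
  have e : bd (j₀, j₀) = j := Units.ext (by
    rw [bd_val, hj₀, hc, ← smul_zero (A := Matrix ι ι F) (c : F), ← fromBlocks_smul, fromBlocks_one])
  refine ⟨j₀, mem_small.2 (e ▸ hj), (mem_scalars_iff _).2 ⟨c, hj₀⟩, ?_⟩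
  have h := hj2
  rw [← e, bd_mul, ← map_one bd, ← Prod.mk_one_one, ← bd_neg, bd_inj] at h
  exact h.1

/-- Maximality in every dimension `2^k`, `k ≥ 2`, for data with a scalar square root of `-1`. -/
theorem isMaximalIn_sl_pow_of_data [Fintype F] (hp : (Fintype.card F).Prime) :
    ∀ k, 2 ≤ k → ∀ (R : Subgroup (GL (Fin (2 ^ k)) F)), Data R → Nat.card R = 2 ^ (2 + 2 * k) →
      (∃ j ∈ R, j ∈ scalars (Fin (2 ^ k)) F ∧ j * j = -1) →
      IsMaximalIn (specialLinear (Fin (2 ^ k)) F) (subgroupNormalizer R ⊓ specialLinear (Fin (2 ^ k)) F) := by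
  classical
  intro k hk
  induction k, hk using Nat.le_induction with
  | base =>
    intro R D hcard ⟨j, hj, hjs, hj2⟩
    obtain ⟨hsymp, hcen⟩ := D.symplecticType (by simp) hj hjs hj2
    have T : CfsgLib.SLFour.FourData (R : Subgroup (GL (Fin 4) F)) := ⟨D.two, hsymp, D.abs, hcen, 2, hcard⟩
    obtain ⟨ψ, Dec, hDec, hrange, hiff⟩ := CfsgLib.SLFour.exists_frame_of_symplecticType T
    exact CfsgLib.SLFour.isMaximalIn_of_hom ψ hrange hiff
      (CfsgLib.OrthMono.isMaximalIn_frame_six hDec (by simp) (by simp) hp D.two)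
  | succ k hk ih =>
    intro R D hcard ⟨j, hj, hjs, hj2⟩
    have h1 : 1 < Fintype.card (Fin (2 ^ (k + 1))) := by
      rw [Fintype.card_fin]; exact Nat.one_lt_two_pow (by omega)
    have h4 : 4 ∣ 2 ^ k := (pow_dvd_pow 2 hk : 2 ^ 2 ∣ 2 ^ k)
    obtain ⟨x, hx, y, hy, hx2, hy2, hxy⟩ := D.exists_involutions h1 hj hjs hj2
    obtain ⟨M, N, hMN, hNM, hsg, hsw⟩ := exists_coords (ι := Fin (2 ^ k)) D.two
      ((finCongr (by rw [pow_succ]; omega : 2 ^ (k + 1) = 2 ^ k + 2 ^ k)).trans finSumFinEquiv.symm) hx2 hy2 hxy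
    obtain ⟨R₂, hR₂⟩ : ∃ R₂ : Subgroup (GL (Fin (2 ^ k) ⊕ Fin (2 ^ k)) F),
      R₂ = R.comap (coordEquiv M N hMN hNM).toMonoidHom := ⟨_, rfl⟩
    have S : Split R₂ := by
      subst hR₂
      refine ⟨D.comap, ?_, ?_⟩
      · show coordEquiv M N hMN hNM sg ∈ R
        rw [hsg]; exact hx
      · show coordEquiv M N hMN hNM sw ∈ R
        rw [hsw]; exact hy
    obtain ⟨i, hi, hi2⟩ : ∃ i, i ∈ R₂ ∧ coordEquiv M N hMN hNM i = j :=
      ⟨(coordEquiv M N hMN hNM).symm j, by rw [hR₂, Subgroup.mem_comap]; simpa using hj, by simp⟩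
    have his : i ∈ scalars _ F := S.data.scalar_of_comm fun z hz => (coordEquiv M N hMN hNM).injective (by
      rw [map_mul, map_mul, hi2]; exact scalar_comm hjs _)
    have hii : i * i = -1 := (coordEquiv M N hMN hNM).injective (by
      rw [map_mul, hi2, hj2, neg_coordEquiv, map_one])
    obtain ⟨j₀, hj₀, hj₀s, hj₀2⟩ := S.small_root hi his hii
    have hsmall : Nat.card (small R₂) = 2 ^ (2 + 2 * k) := by
      have h : Nat.card R = 4 * Nat.card (small R₂) := by
        rw [← S.card_eq, hR₂]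
        exact (Nat.card_congr ((coordEquiv M N hMN hNM).toEquiv.subtypeEquiv fun g => Iff.rfl)).symm
      rw [hcard, show 2 + 2 * (k + 1) = 2 + (2 + 2 * k) by ring, pow_add] at h
      omega
    have L : LinData R₂ :=
      { split := S
        four := ⟨j₀, hj₀, hj₀s, hj₀2⟩
        dvd := by rwa [Fintype.card_fin]
        small_le := fun a ha => CfsgLib.Aschbacher.mem_specialLinear_iff.2
          (S.small_data.det_eq_one hj₀ hj₀s hj₀2 (by rwa [Fintype.card_fin]) ha) }
    refine isMaximalIn_of_comap (coordEquiv M N hMN hNM) ?_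
    rw [Subgroup.comap_inf, normalizer_comap, specialLinear_comap, ← hR₂]
    exact L.isMaximalIn (ih _ S.small_data hsmall ⟨j₀, hj₀, hj₀s, hj₀2⟩)

/-- The normaliser of `4 ∘ 2^{1+2k}` is maximal in `SL_{2^k}(p)`. -/
theorem isMaximalIn_sl_pow [Fintype F] {k : ℕ} (hk : 2 ≤ k) {p : ℕ} (hp : p.Prime) (hodd : Odd p)
    (hF : Fintype.card F = p) (R : Subgroup (GL (Fin (2 ^ k)) F)) (hsymp : IsSymplecticTypeGroup 2 R)
    (habs : ActsAbsolutelyIrreducibly (matrixSet R)) (hcard : Nat.card R = 2 ^ (2 + 2 * k))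
    (hcen : Nat.card (Subgroup.center R) = 4) :
    IsMaximalIn (specialLinear (Fin (2 ^ k)) F) (subgroupNormalizer R ⊓ specialLinear (Fin (2 ^ k)) F) := by
  have h2 : (2 : F) ≠ 0 := CfsgLib.MaxSub.two_ne_zero_of_odd (hF ▸ hodd)
  have D := Data.of_symplecticType h2 hsymp habs
  exact isMaximalIn_sl_pow_of_data (hF ▸ hp) k hk R D hcard (D.exists_root hcen)

end CfsgLib.SympType
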