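import Cfsg.Agent.SympType.Controlled

/-!
# Coordinates in which two anticommuting involutions are `diag (1, -1)` and the swap
-/

set_option autoImplicit false
set_option linter.unusedSectionVars false

namespace CfsgLib.SympType

open Matrix Cfsg.Geo

local notation:max "mat" => Units.val

variable {κ ι : Type} [Fintype κ] [DecidableEq κ] [Fintype ι] [DecidableEq ι] {F : Type*} [Field F]

/-- Change of coordinates. -/
def coordEquiv (M : Matrix κ ι F) (N : Matrix ι κ F) (hMN : M * N = 1) (hNM : N * M = 1) : GL ι F ≃* GL κ F :=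
  Units.mapEquiv
    { toFun := fun g => M * g * N
      invFun := fun g => N * g * M
      left_inv := fun g => by
        show N * (M * g * N) * M = g
        rw [show N * (M * g * N) * M = (N * M) * g * (N * M) by simp only [Matrix.mul_assoc], hNM, Matrix.one_mul,
          Matrix.mul_one]
      right_inv := fun g => by
        show M * (N * g * M) * N = g
        rw [show M * (N * g * M) * N = (M * N) * g * (M * N) by simp only [Matrix.mul_assoc], hMN, Matrix.one_mul,
          Matrix.mul_one]
      map_mul' := fun g h => by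
        rw [show M * g * N * (M * h * N) = M * g * (N * M) * h * N by simp only [Matrix.mul_assoc], hNM,
          Matrix.mul_one]
        simp only [Matrix.mul_assoc] }

theorem coordEquiv_val (M : Matrix κ ι F) (N : Matrix ι κ F) (hMN : M * N = 1) (hNM : N * M = 1) (g : GL ι F) :
    mat (coordEquiv M N hMN hNM g) = M * mat g * N := rfl

variable {M : Matrix κ ι F} {N : Matrix ι κ F} {hMN : M * N = 1} {hNM : N * M = 1}

theorem det_coordEquiv (g : GL ι F) : (mat (coordEquiv M N hMN hNM g)).det = (mat g).det := by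
  rw [coordEquiv_val, det_conj_of_mul_eq_one hMN hNM]

theorem specialLinear_comap :
    (specialLinear κ F).comap (coordEquiv M N hMN hNM).toMonoidHom = specialLinear ι F := by
  ext g
  rw [Subgroup.mem_comap, CfsgLib.Aschbacher.mem_specialLinear_iff, CfsgLib.Aschbacher.mem_specialLinear_iff]
  exact iff_of_eq (congrArg (· = 1) (det_coordEquiv (hMN := hMN) (hNM := hNM) g))

theorem neg_coordEquiv (g : GL ι F) : coordEquiv M N hMN hNM (-g) = -coordEquiv M N hMN hNM g :=
  Units.ext (by simp [coordEquiv_val])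

theorem absIrred_comap {R : Subgroup (GL κ F)} (h : ActsAbsolutelyIrreducibly (matrixSet R)) :
    ActsAbsolutelyIrreducibly (matrixSet (R.comap (coordEquiv M N hMN hNM).toMonoidHom)) := by
  have key : ∀ x ∈ R, ∃ z ∈ R.comap (coordEquiv M N hMN hNM).toMonoidHom, mat z = N * mat x * M := fun x hx =>
    ⟨(coordEquiv M N hMN hNM).symm x, by simpa using hx, rfl⟩
  refine ⟨fun U hU => ?_, fun A hA => ?_⟩
  · rcases h.1 (U.map (Matrix.toLin' M)) (by
      rintro _ ⟨x, hx, rfl⟩ _ ⟨_, ⟨v, hv, rfl⟩, rfl⟩
      obtain ⟨z, hz, e⟩ := key x hx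
      have hzv := hU _ ⟨z, hz, rfl⟩ ⟨v, hv, rfl⟩
      refine ⟨_, hzv, ?_⟩
      simp only [Matrix.toLin'_apply, mulVec_mulVec, e]
      rw [show M * (N * mat x * M) = (M * N) * (mat x * M) by simp only [Matrix.mul_assoc], hMN, Matrix.one_mul]) with
      h' | h'
    · left
      rw [eq_bot_iff]
      intro v hv
      have : Matrix.toLin' M v ∈ (⊥ : Submodule F (κ → F)) := h' ▸ ⟨v, hv, rfl⟩
      rw [Submodule.mem_bot, Matrix.toLin'_apply] at this
      have := congrArg (N *ᵥ ·) this
      simpa [mulVec_mulVec, hNM] using this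
    · right
      rw [eq_top_iff]
      intro v _
      have : Matrix.toLin' M v ∈ U.map (Matrix.toLin' M) := h' ▸ trivial
      obtain ⟨w, hw, e⟩ := this
      have e' := congrArg (N *ᵥ ·) e
      simp only [Matrix.toLin'_apply, mulVec_mulVec, hNM, one_mulVec] at e'
      exact e' ▸ hw
  · obtain ⟨c, hc⟩ := h.2 (M * A * N) (by
      rintro _ ⟨x, hx, rfl⟩
      obtain ⟨z, hz, e⟩ := key x hx
      have hh := congrArg (fun B => M * B * N) (hA _ ⟨z, hz, rfl⟩)
      simp only [e] at hh
      rw [show M * (A * (N * mat x * M)) * N = M * A * N * mat x * (M * N) by simp only [Matrix.mul_assoc],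
        show M * (N * mat x * M * A) * N = (M * N) * mat x * (M * A * N) by simp only [Matrix.mul_assoc], hMN,
        Matrix.mul_one, Matrix.one_mul] at hh
      exact hh)
    refine ⟨c, ?_⟩
    have := congrArg (fun B => N * B * M) hc
    rw [show N * (M * A * N) * M = (N * M) * A * (N * M) by simp only [Matrix.mul_assoc], hNM, Matrix.one_mul,
      Matrix.mul_one, Matrix.mul_smul, Matrix.smul_mul, Matrix.mul_one, hNM] at this
    exact this

theorem Data.comap {R : Subgroup (GL κ F)} (D : Data R) :
    Data (R.comap (coordEquiv M N hMN hNM).toMonoidHom) where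
  two := D.two
  abs := absIrred_comap D.abs
  neg := by
    show coordEquiv M N hMN hNM (-1) ∈ R
    rw [neg_coordEquiv, map_one]
    exact D.neg
  sq x hx := by
    rcases D.sq (coordEquiv M N hMN hNM x) hx with e | e
    · exact Or.inl ((coordEquiv M N hMN hNM).injective (by rw [map_mul, e, map_one]))
    · exact Or.inr ((coordEquiv M N hMN hNM).injective (by rw [map_mul, e, neg_coordEquiv, map_one]))
  comm x hx y hy := by
    rcases D.comm (coordEquiv M N hMN hNM x) hx (coordEquiv M N hMN hNM y) hy with e | e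
    · exact Or.inl ((coordEquiv M N hMN hNM).injective (by rw [map_mul, map_mul, e]))
    · exact Or.inr ((coordEquiv M N hMN hNM).injective (by rw [map_mul, neg_coordEquiv, map_mul, e]))

theorem normalizer_comap {R : Subgroup (GL κ F)} :
    (subgroupNormalizer R).comap (coordEquiv M N hMN hNM).toMonoidHom =
      subgroupNormalizer (R.comap (coordEquiv M N hMN hNM).toMonoidHom) := by
  ext g
  rw [Subgroup.mem_comap]
  show _ ∈ Subgroup.normalizer _ ↔ _ ∈ Subgroup.normalizer _
  simp only [Subgroup.mem_normalizer_iff, MulEquiv.coe_toMonoidHom, Subgroup.mem_comap, map_mul, map_inv]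
  refine ⟨fun h x => h _, fun h y => ?_⟩
  simpa using h ((coordEquiv M N hMN hNM).symm y)

theorem isMaximalIn_of_comap {G G' : Type*} [Group G] [Group G'] (e : G ≃* G') {K H : Subgroup G'}
    (h : IsMaximalIn (K.comap e.toMonoidHom) (H.comap e.toMonoidHom)) : IsMaximalIn K H := by
  have le_iff : ∀ {A B : Subgroup G'}, A.comap e.toMonoidHom ≤ B.comap e.toMonoidHom ↔ A ≤ B :=
    Subgroup.comap_le_comap_of_surjective e.surjective
  refine ⟨lt_of_le_not_ge (le_iff.1 h.1.le) fun hle => h.1.not_ge (le_iff.2 hle), fun M h1 h2 => ?_⟩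
  rcases h.2 (M.comap e.toMonoidHom) (le_iff.2 h1) (le_iff.2 h2) with e' | e'
  · exact Or.inl (le_antisymm (le_iff.1 e'.le) h1)
  · exact Or.inr (le_antisymm h2 (le_iff.1 e'.ge))

omit M N hMN hNM

/-- Two anticommuting involutions in coordinates. -/
theorem exists_coords (h2 : (2 : F) ≠ 0) (e : κ ≃ ι ⊕ ι) {x y : GL κ F} (hx : x * x = 1) (hy : y * y = 1)
    (hxy : x * y = -(y * x)) :
    ∃ (M : Matrix κ (ι ⊕ ι) F) (N : Matrix (ι ⊕ ι) κ F) (hMN : M * N = 1) (hNM : N * M = 1),
      coordEquiv M N hMN hNM sg = x ∧ coordEquiv M N hMN hNM sw = y := by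
  classical
  obtain ⟨A, hA⟩ : ∃ A, A = Matrix.toLin' (mat x) := ⟨_, rfl⟩
  obtain ⟨B, hB⟩ : ∃ B, B = Matrix.toLin' (mat y) := ⟨_, rfl⟩
  have hAA : ∀ v, A (A v) = v := fun v => by
    rw [hA, toLin'_apply, toLin'_apply, mulVec_mulVec, ← Units.val_mul, hx, Units.val_one, one_mulVec]
  have hBB : ∀ v, B (B v) = v := fun v => by
    rw [hB, toLin'_apply, toLin'_apply, mulVec_mulVec, ← Units.val_mul, hy, Units.val_one, one_mulVec]
  have hAB : ∀ v, A (B v) = -B (A v) := fun v => by
    rw [hA, hB, toLin'_apply, toLin'_apply, toLin'_apply, toLin'_apply, mulVec_mulVec, mulVec_mulVec, ← Units.val_mul,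
      hxy, Units.val_neg, neg_mulVec, Units.val_mul]
  obtain ⟨E, hE⟩ : ∃ E : Submodule F (κ → F), E = LinearMap.ker (A - LinearMap.id) := ⟨_, rfl⟩
  have memE : ∀ {v}, v ∈ E ↔ A v = v := fun {v} => by rw [hE]; simp [sub_eq_zero]
  have hsplit : ∀ v : κ → F, ∃ p ∈ E, ∃ q ∈ E, v = p + B q := fun v => by
    refine ⟨(2 : F)⁻¹ • (v + A v), memE.2 (by rw [map_smul, map_add, hAA, add_comm]),
      B ((2 : F)⁻¹ • (v - A v)), memE.2 ?_, ?_⟩
    · rw [hAB, map_smul, map_sub, hAA, ← map_neg, ← smul_neg, neg_sub]
    · rw [hBB, ← smul_add, add_add_sub_cancel, ← two_smul F v, smul_smul, inv_mul_cancel₀ h2, one_smul]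
  have hinj : ∀ p ∈ E, ∀ q ∈ E, p + B q = 0 → p = 0 ∧ q = 0 := fun p hp q hq h => by
    have h' := congrArg A h
    rw [map_add, memE.1 hp, hAB, memE.1 hq, map_zero] at h'
    have hp0 : p = 0 := by
      have h'' : (2 : F) • p = 0 := by
        rw [two_smul]
        calc p + p = (p + B q) + (p + -B q) := by abel
          _ = 0 := by rw [h, h', add_zero]
      exact (smul_eq_zero.1 h'').resolve_left h2
    refine ⟨hp0, ?_⟩
    rw [hp0, zero_add] at h
    rw [← hBB q, h, map_zero]
  let L : (E × E) →ₗ[F] (κ → F) := E.subtype.coprod (B.comp E.subtype)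
  have hL : Function.Bijective L := by
    refine ⟨(injective_iff_map_eq_zero L).2 fun ⟨p, q⟩ h => ?_, fun v => ?_⟩
    · obtain ⟨h1, h2'⟩ := hinj p p.2 q q.2 h
      exact Prod.ext (Subtype.ext h1) (Subtype.ext h2')
    · obtain ⟨p, hp, q, hq, rfl⟩ := hsplit v
      exact ⟨(⟨p, hp⟩, ⟨q, hq⟩), rfl⟩
  have hdim : Module.finrank F E = Fintype.card ι := by
    have h := (LinearEquiv.ofBijective L hL).finrank_eq
    rw [Module.finrank_prod, Module.finrank_fintype_fun_eq_card, Fintype.card_congr e, Fintype.card_sum] at h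
    omega
  let b : Module.Basis ι F E := (Module.finBasisOfFinrankEq F E hdim).reindex (Fintype.equivFin ι).symm
  let M : Matrix κ (ι ⊕ ι) F := Matrix.of fun k s => Sum.elim (fun i => (b i : κ → F)) (fun i => B (b i)) s k
  have hMl : ∀ i, M *ᵥ Pi.single (Sum.inl i) (1 : F) = (b i : κ → F) := fun i => by
    rw [mulVec_single_one]; rfl
  have hMr : ∀ i, M *ᵥ Pi.single (Sum.inr i) (1 : F) = B (b i) := fun i => by
    rw [mulVec_single_one]; rfl
  have hsurj : ∀ v : κ → F, ∃ w : ι ⊕ ι → F, M *ᵥ w = v := by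
    intro v
    obtain ⟨p, hp, q, hq, rfl⟩ := hsplit v
    refine ⟨∑ i, b.repr ⟨p, hp⟩ i • Pi.single (Sum.inl i) (1 : F) +
      ∑ i, b.repr ⟨q, hq⟩ i • Pi.single (Sum.inr i) (1 : F), ?_⟩
    rw [mulVec_add, mulVec_sum, mulVec_sum]
    have hcoe : ∀ u : E, ∑ i, b.repr u i • (b i : κ → F) = (u : κ → F) := fun u =>
      (Submodule.coe_sum E (fun i => b.repr u i • b i) Finset.univ).symm.trans (congrArg Subtype.val (b.sum_repr u))
    congr 1
    · simp only [mulVec_smul, hMl]
      exact hcoe ⟨p, hp⟩
    · simp only [mulVec_smul, hMr, ← map_smul, ← map_sum]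
      exact congrArg B (hcoe ⟨q, hq⟩)
  choose w hw using fun k : κ => hsurj (Pi.single k 1)
  let N : Matrix (ι ⊕ ι) κ F := Matrix.of fun s k => w k s
  have hMN : M * N = 1 := by
    refine Matrix.ext_iff_mulVec.2 fun v => ?_
    rw [one_mulVec, ← mulVec_mulVec]
    have : N *ᵥ v = ∑ k, v k • w k := by
      funext s
      simp [N, Matrix.mulVec, dotProduct, mul_comm]
    rw [this, mulVec_sum]
    simp only [mulVec_smul, hw]
    exact (pi_eq_sum_univ' v).symm
  have hNM : N * M = 1 := (Matrix.mul_eq_one_comm_of_equiv e).1 hMN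
  have key : ∀ (g : GL (ι ⊕ ι) F) (z : GL κ F), mat z * M = M * mat g → coordEquiv M N hMN hNM g = z :=
    fun g z h => Units.ext (by rw [coordEquiv_val, ← h, Matrix.mul_assoc, hMN, Matrix.mul_one])
  refine ⟨M, N, hMN, hNM, key _ _ ?_, key _ _ ?_⟩
  · refine Matrix.ext_of_mulVec_single fun s => ?_
    rw [← mulVec_mulVec, ← mulVec_mulVec]
    rcases s with i | i
    · rw [hMl, sg, bd_val, mulVec_single_one, ← toLin'_apply, ← hA, memE.1 (b i).2]
      conv_lhs => rw [← hMl i]
      congr 1
      funext s; rcases s with j | j <;> simp [Matrix.one_apply, Pi.single_apply]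
    · rw [hMr, sg, bd_val, mulVec_single_one, ← toLin'_apply (mat x), ← hA, hAB, memE.1 (b i).2, ← hMr, ← mulVec_neg]
      congr 1
      funext s; rcases s with j | j <;> simp [Matrix.one_apply, Pi.single_apply]
  · refine Matrix.ext_of_mulVec_single fun s => ?_
    rw [← mulVec_mulVec, ← mulVec_mulVec]
    rcases s with i | i
    · rw [hMl, ← toLin'_apply (mat y), ← hB, ← hMr]
      conv_rhs => rw [mulVec_single_one]
      congr 1
      funext s; rcases s with j | j <;> simp [sw, Matrix.one_apply, Pi.single_apply]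
    · rw [hMr, ← toLin'_apply (mat y), ← hB, hBB, ← hMl]
      conv_rhs => rw [mulVec_single_one]
      congr 1
      funext s; rcases s with j | j <;> simp [sw, Matrix.one_apply, Pi.single_apply]

variable [Nonempty ι] {R : Subgroup (GL ι F)}

/-- With a central square root of `-1` the data give symplectic type. -/
theorem Data.symplecticType [Finite F] (D : Data R) (h3 : 3 ≤ Fintype.card ι) {j : GL ι F} (hj : j ∈ R)
    (hjs : j ∈ scalars ι F) (hj2 : j * j = -1) :
    IsSymplecticTypeGroup 2 R ∧ Nat.card (Subgroup.center R) = 4 := by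
  classical
  have h4 : ∀ x ∈ R, x ^ 4 = 1 := fun x hx => by
    rcases D.sq x hx with e | e <;> simp [pow_succ, mul_assoc, e]
  have hne := ne_neg D.two (1 : GL ι F)
  refine ⟨⟨Nat.prime_two, ?_, ?_, ?_⟩, ?_⟩
  · intro x
    exact ⟨2, Subtype.ext (by simpa using h4 x x.2)⟩
  · intro A hA hAc
    have hscal : ∀ a ∈ A, (a : GL ι F) ∈ scalars ι F := by
      intro a ha
      by_contra hns
      obtain ⟨y, hy, hay⟩ := D.exists_anti a.2 hns
      obtain ⟨⟨s, hs, hc, hc2⟩, -⟩ := D.rootify hj hjs hj2 hy
      have hsy : s * y * (a : GL ι F) = -((a : GL ι F) * (s * y)) := by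
        rw [← mul_assoc (a : GL ι F), ← scalar_comm hs (a : GL ι F), mul_assoc s (a : GL ι F) y, hay, mul_neg, neg_neg,
          mul_assoc]
      obtain ⟨t, ht⟩ := D.exists_tv hc2
      have htn := D.tv_normalizer ht hc hc2
      let α : R ≃* R :=
        { toFun := fun x => ⟨t * x * t⁻¹, (Subgroup.mem_normalizer_iff.1 htn x).1 x.2⟩
          invFun := fun x => ⟨t⁻¹ * x * t, by
            have := (Subgroup.mem_normalizer_iff.1 ((subgroupNormalizer R).inv_mem htn) x).1 x.2
            rwa [inv_inv] at this⟩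
          left_inv := fun x => Subtype.ext (show t⁻¹ * (t * x * t⁻¹) * t = x by group)
          right_inv := fun x => Subtype.ext (show t * (t⁻¹ * x * t) * t⁻¹ = x by group)
          map_mul' := fun x y => Subtype.ext (by
            show t * ((x : GL ι F) * (y : GL ι F)) * t⁻¹ = t * x * t⁻¹ * (t * y * t⁻¹)
            group) }
      have hαa : α a ∈ A := by
        rw [← hA.fixed α] at ha
        exact ha
      have h := congrArg (fun z : A => ((z : R) : GL ι F)) (hAc.is_comm.comm ⟨a, ha⟩ ⟨α a, hαa⟩)
      change (a : GL ι F) * (t * a * t⁻¹) = t * a * t⁻¹ * a at h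
      rw [tv_anti ht hc2 hsy, mul_inv_cancel_right, ← mul_assoc (a : GL ι F) (s * y) (a : GL ι F),
        show (a : GL ι F) * (s * y) = -(s * y * a) by rw [hsy, neg_neg], neg_mul] at h
      exact ne_neg D.two _ h.symm
    let f : A →* F :=
      { toFun := fun a => mat ((a : R) : GL ι F) (Classical.arbitrary ι) (Classical.arbitrary ι)
        map_one' := by simp
        map_mul' := fun a b => by
          obtain ⟨c, hc⟩ := (mem_scalars_iff _).1 (hscal a a.2)
          obtain ⟨d, hd⟩ := (mem_scalars_iff _).1 (hscal b b.2)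
          simp [hc, hd, smul_smul, mul_comm] }
    refine isCyclic_of_subgroup_isDomain f fun a b h => ?_
    obtain ⟨c, hc⟩ := (mem_scalars_iff _).1 (hscal a a.2)
    obtain ⟨d, hd⟩ := (mem_scalars_iff _).1 (hscal b b.2)
    refine Subtype.ext (Subtype.ext (Units.ext ?_))
    have : (c : F) = d := by simpa [f, hc, hd] using h
    rw [hc, hd, this]
  · refine Nat.dvd_antisymm (Monoid.exponent_dvd_of_forall_pow_eq_one fun x => Subtype.ext (by simpa using h4 x x.2)) ?_
    have h : orderOf (⟨j, hj⟩ : R) = 4 := by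
      refine orderOf_eq_prime_pow (p := 2) (n := 1) ?_ (Subtype.ext (by simpa using h4 j hj))
      intro h
      have := congrArg Subtype.val h
      simp only [pow_one, SubgroupClass.coe_pow, pow_two, Subgroup.coe_mul, hj2, OneMemClass.coe_one] at this
      exact hne this.symm
    have := h ▸ Monoid.order_dvd_exponent (⟨j, hj⟩ : R)
    simpa using this
  · have hcen : ∀ z : R, z ∈ Subgroup.center R ↔ (z : GL ι F) ∈ scalars ι F := fun z => by
      rw [Subgroup.mem_center_iff]
      exact ⟨fun h => D.scalar_of_comm fun y hy => (congrArg Subtype.val (h ⟨y, hy⟩)).symm,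
        fun h g => Subtype.ext (scalar_comm h (g : GL ι F)).symm⟩
    obtain ⟨c, hc⟩ := (mem_scalars_iff j).1 hjs
    have himg : (fun z : Subgroup.center R => ((z : R) : GL ι F)) '' Set.univ = {1, -1, j, -j} := by
      ext z
      simp only [Set.image_univ, Set.mem_range, Set.mem_insert_iff, Set.mem_singleton_iff]
      constructor
      · rintro ⟨⟨⟨z, hz⟩, hzc⟩, rfl⟩
        obtain ⟨d, hd⟩ := (mem_scalars_iff z).1 ((hcen _).1 hzc)
        have val : ∀ {q : GL ι F} {e : F}, mat q = e • 1 → (d : F) = e → z = q :=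
          fun h2 h => Units.ext (by rw [hd, h2, h])
        rcases D.sq z hz with e | e
        · have hd2 : (d : F) * d = 1 := by
            have := congrArg (fun u : GL ι F => mat u (Classical.arbitrary ι) (Classical.arbitrary ι)) e
            simpa [hd, smul_smul] using this
          rcases mul_self_eq_one_iff.1 hd2 with h | h
          · exact Or.inl (val (by simp) h)
          · exact Or.inr (Or.inl (val (by simp) h))
        · have hd2 : (d : F) * d = -1 := by
            have := congrArg (fun u : GL ι F => mat u (Classical.arbitrary ι) (Classical.arbitrary ι)) e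
            simpa [hd, smul_smul] using this
          have hc2 : (c : F) * c = -1 := by
            have := congrArg (fun u : GL ι F => mat u (Classical.arbitrary ι) (Classical.arbitrary ι)) hj2
            simpa [hc, smul_smul] using this
          rcases mul_self_eq_mul_self_iff.1 (hd2.trans hc2.symm) with h | h
          · exact Or.inr (Or.inr (Or.inl (val hc h)))
          · exact Or.inr (Or.inr (Or.inr (val (e := -(c : F)) (by rw [Units.val_neg, hc, neg_smul]) h)))
      · have mk : ∀ z : GL ι F, z ∈ R → z ∈ scalars ι F →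
            ∃ y : Subgroup.center R, ((y : R) : GL ι F) = z := fun z hz hzs => ⟨⟨⟨z, hz⟩, (hcen _).2 hzs⟩, rfl⟩
        rintro (rfl | rfl | rfl | rfl)
        · exact mk _ R.one_mem (one_mem _)
        · exact mk _ D.neg neg_one_mem_scalars
        · exact mk _ hj hjs
        · exact mk _ (by rw [← neg_one_mul]; exact R.mul_mem D.neg hj) (neg_scalar hjs)
    have hinj : Function.Injective fun z : Subgroup.center R => ((z : R) : GL ι F) :=
      fun a b h => Subtype.ext (Subtype.ext h)
    rw [← Set.ncard_univ, ← Set.ncard_image_of_injective _ hinj, himg]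
    have hj1 : j ≠ 1 := fun h => hne (by rw [← hj2, h, one_mul])
    have hjn : j ≠ -1 := fun h => hne (by rw [← hj2, h, neg_mul_neg, one_mul])
    have hjj := ne_neg D.two j
    have a3 : (1 : GL ι F) ≠ -j := fun h => hjn (neg_eq_iff_eq_neg.1 h.symm)
    have a4 : (-1 : GL ι F) ≠ -j := fun h => hj1 (neg_inj.1 h).symm
    rw [Set.ncard_insert_of_notMem (by simp [hne, hj1.symm, a3]), Set.ncard_insert_of_notMem (by simp [hjn.symm, a4]),
      Set.ncard_pair hjj]

end CfsgLib.SympType
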