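import Cfsg.Agent.SympType.Controlled

/-!
# Elements conjugating `S` into its normaliser
-/

set_option autoImplicit false
set_option linter.unusedSectionVars false

namespace CfsgLib.SympType

open Matrix Cfsg.Geo

local notation:max "mat" => Units.val

/-- If `a` carries `S` into its normaliser and the transvections of `S` back into it, it normalises `S`. -/
theorem Data.normalizer_of_projection {ι : Type} [Fintype ι] [DecidableEq ι] [Nonempty ι] {F : Type*} [Field F]
    [Finite F] {S : Subgroup (GL ι F)} (D : Data S) {j : GL ι F} (hj : j ∈ S) (hjs : j ∈ scalars ι F)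
    (hj2 : j * j = -1) {a : GL ι F} (hc : ∀ y ∈ S, a * y * a⁻¹ ∈ subgroupNormalizer S)
    (hd : ∀ v ∈ S, v * v = -1 → v ∉ scalars ι F → ∀ t : GL ι F, mat t = 1 + mat v →
      a⁻¹ * t * a ∈ subgroupNormalizer S) : a ∈ subgroupNormalizer S := by
  classical
  suffices hto : ∀ y ∈ S, a * y * a⁻¹ ∈ S by
    have hle : S.map (MulAut.conj a).toMonoidHom ≤ S := by
      rintro _ ⟨x, hx, rfl⟩; exact hto x hx
    have heq : S.map (MulAut.conj a).toMonoidHom = S := Subgroup.eq_of_le_of_card_ge hle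
      (le_of_eq (Nat.card_congr (S.equivMapOfInjective _ (MulAut.conj a).injective).toEquiv))
    refine Subgroup.mem_normalizer_iff.2 fun x => ⟨hto x, fun hx => ?_⟩
    rw [← heq] at hx
    obtain ⟨y, hy, hye⟩ := hx
    simp at hye
    rwa [← hye]
  intro y hy
  obtain ⟨n, hn⟩ : ∃ n, n = a * y * a⁻¹ := ⟨_, rfl⟩
  rw [← hn]
  have hnN : n ∈ subgroupNormalizer S := hn ▸ hc y hy
  have hclass : ∀ v ∈ S, v * v = -1 → v ∉ scalars ι F → v⁻¹ * (n * v * n⁻¹) ∈ scalars ι F := by
    intro v hv hv2 hvns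
    by_contra hne'
    obtain ⟨t, ht⟩ := D.exists_tv hv2
    obtain ⟨v', hv'⟩ : ∃ v', v' = n * v * n⁻¹ := ⟨_, rfl⟩
    rw [← hv'] at hne'
    have hv'R : v' ∈ S := hv' ▸ (Subgroup.mem_normalizer_iff.1 hnN v).1 hv
    have hv'2 : v' * v' = -1 := by
      rw [hv', show n * v * n⁻¹ * (n * v * n⁻¹) = n * (v * v) * n⁻¹ by group, hv2]; simp
    obtain ⟨t', ht'⟩ := D.exists_tv hv'2
    -- the commutator lies in the conjugate group
    obtain ⟨z, hz, hnz⟩ : ∃ z ∈ S, t' * t⁻¹ = a * z * a⁻¹ := by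
      have hd' := hd v hv hv2 hvns t ht
      refine ⟨y * (a⁻¹ * t * a * y⁻¹ * (a⁻¹ * t * a)⁻¹),
        S.mul_mem hy ((Subgroup.mem_normalizer_iff.1 hd' y⁻¹).1 (S.inv_mem hy)), ?_⟩
      rw [← tv_conj ht hv'.symm ht', hn]
      group
    have hsq : t' * t⁻¹ * (t' * t⁻¹) ∈ scalars ι F := by
      rw [hnz, show a * z * a⁻¹ * (a * z * a⁻¹) = a * (z * z) * a⁻¹ by group]
      rcases D.sq z hz with e | e <;> rw [e]
      · simp [one_mem]
      · simpa using neg_one_mem_scalars
    rcases D.comm v hv v' hv'R with e | e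
    · -- commuting
      have htt : t' * t⁻¹ = t⁻¹ * t' := by
        have h1 : t * t' = t' * t := tv_comm ht (tv_comm ht' e.symm).symm
        exact (Commute.inv_left (h1 : Commute t t')).eq.symm
      obtain ⟨c, hc, hcv⟩ : ∃ c ∈ scalars ι F, t' * t' = c * (v' * v⁻¹ * (t * t)) := by
        refine ⟨1, one_mem _, Units.ext ?_⟩
        have h2 : mat v⁻¹ * mat v = 1 := by rw [← Units.val_mul, inv_mul_cancel, Units.val_one]
        simp only [Units.val_mul, Units.val_one, one_mul]
        rw [tv_sq ht' hv'2, tv_sq ht hv2, Matrix.mul_smul, Matrix.mul_assoc, h2, Matrix.mul_one]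
      rw [show t' * t⁻¹ * (t' * t⁻¹) = t' * (t⁻¹ * t') * t⁻¹ by group, ← htt,
        show t' * (t' * t⁻¹) * t⁻¹ = t' * t' * (t * t)⁻¹ by group, hcv, mul_assoc c, mul_inv_cancel_right] at hsq
      have h3 := mul_mem (inv_mem hc) hsq
      rw [inv_mul_cancel_left] at h3
      refine hne' ?_
      rw [show v⁻¹ * v' = v⁻¹ * (v' * v⁻¹) * v by group, ← scalar_comm h3 v⁻¹, inv_mul_cancel_right]
      exact h3
    · -- anticommuting
      have e' : v' * v = -(v * v') := by rw [e, neg_neg]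
      have hti : t⁻¹ * v' * t = -(v * v') := by
        have h1 : v * (-(v * v')) = -(-(v * v') * v) := by
          rw [mul_neg, neg_mul, neg_inj, mul_assoc, e', mul_neg, neg_neg]
        have k := tv_anti ht hv2 h1
        rw [mul_neg, mul_neg, ← mul_assoc v, hv2, neg_one_mul, neg_neg] at k
        rw [mul_assoc, ← k, mul_neg, inv_mul_cancel_left]
      have h2 : v' * (-(v * v')) = -(-(v * v') * v') := by
        rw [mul_neg, neg_mul, neg_inj, ← mul_assoc, e', neg_mul]
      have k1 : t' * t⁻¹ * v' * (t' * t⁻¹)⁻¹ = -v := by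
        rw [show t' * t⁻¹ * v' * (t' * t⁻¹)⁻¹ = t' * (t⁻¹ * v' * t) * t'⁻¹ by group, hti, tv_anti ht' hv'2 h2,
          mul_inv_cancel_right, mul_neg, ← mul_assoc, e', neg_mul, neg_neg, mul_assoc, hv'2, mul_neg, mul_one]
      have k2 : t' * t⁻¹ * v * (t' * t⁻¹)⁻¹ = v' * v := by
        rw [show t' * t⁻¹ * v * (t' * t⁻¹)⁻¹ = t' * (t⁻¹ * v * t) * t'⁻¹ by group, mul_assoc t⁻¹,
          ← tv_comm ht (rfl : v * v = v * v), inv_mul_cancel_left, tv_anti ht' hv'2 e', mul_inv_cancel_right]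
      have h4 := scalar_comm hsq v'
      have h5 : t' * t⁻¹ * (t' * t⁻¹) * v' * (t' * t⁻¹ * (t' * t⁻¹))⁻¹ = -(v' * v) := by
        rw [show t' * t⁻¹ * (t' * t⁻¹) * v' * (t' * t⁻¹ * (t' * t⁻¹))⁻¹ =
          t' * t⁻¹ * (t' * t⁻¹ * v' * (t' * t⁻¹)⁻¹) * (t' * t⁻¹)⁻¹ by group, k1, mul_neg, neg_mul, k2]
      rw [h4, mul_inv_cancel_right, ← mul_neg] at h5
      refine hvns ?_
      have h6 : -v = 1 := mul_eq_left.1 h5.symm
      rw [neg_eq_iff_eq_neg] at h6
      rw [h6]; exact neg_one_mem_scalars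
  obtain ⟨w, hw, hws⟩ := D.inner (n := n) fun x hx => by
    have hnx := (Subgroup.mem_normalizer_iff.1 hnN x).1 hx
    obtain ⟨c, hc, hcx⟩ : ∃ c ∈ scalars ι F, n * x * n⁻¹ = c * x := by
      by_cases hxs : x ∈ scalars ι F
      · exact ⟨1, one_mem _, by rw [one_mul, ← scalar_comm hxs n, mul_inv_cancel_right]⟩
      obtain ⟨⟨sx, hsx, hsxR, hsx2⟩, -⟩ := D.rootify hj hjs hj2 hx
      have h := hclass _ hsxR hsx2 (fun h => hxs (by
        have := mul_mem (inv_mem hsx) h
        rwa [inv_mul_cancel_left] at this))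
      rw [← mul_assoc n, ← scalar_comm hsx n, show sx * n * x * n⁻¹ = sx * (n * x * n⁻¹) by group, _root_.mul_inv_rev,
        show x⁻¹ * sx⁻¹ * (sx * (n * x * n⁻¹)) = x⁻¹ * (n * x * n⁻¹) by group] at h
      exact ⟨_, h, by rw [scalar_comm h x, mul_inv_cancel_left]⟩
    rcases D.sign_of_conj hx hx rfl hc hcx with e | e
    · exact Or.inl (mul_inv_eq_iff_eq_mul.1 e)
    · exact Or.inr (by rw [← neg_mul]; exact mul_inv_eq_iff_eq_mul.1 e)
  obtain ⟨c, hc, hnc⟩ : ∃ c ∈ scalars ι F, n = w * c := ⟨_, hws, by group⟩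
  obtain ⟨k, hk⟩ := (mem_scalars_iff c).1 hc
  obtain ⟨kj, hkj⟩ := (mem_scalars_iff j).1 hjs
  have hn2 : n * n = 1 ∨ n * n = -1 := by
    rw [hn, show a * y * a⁻¹ * (a * y * a⁻¹) = a * (y * y) * a⁻¹ by group]
    rcases D.sq y hy with e | e <;> rw [e] <;> simp
  have hcc : c * c = 1 ∨ c * c = -1 := by
    have e : n * n = w * w * (c * c) := by
      rw [hnc, show w * c * (w * c) = w * (c * w) * c by group, scalar_comm hc w]; group
    rcases D.sq w hw with e1 | e1 <;> rw [e1] at e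
    · rw [one_mul] at e; rwa [e] at hn2
    · rw [neg_one_mul] at e; rw [e] at hn2
      rcases hn2 with e2 | e2
      · exact Or.inr (neg_eq_iff_eq_neg.1 e2)
      · exact Or.inl (neg_inj.1 e2)
  have hcS : c ∈ S := by
    have val : ∀ {p q : GL ι F} {c d : F}, mat p = c • 1 → mat q = d • 1 → c = d → p = q :=
      fun h1 h2 h => Units.ext (by rw [h1, h2, h])
    rcases hcc with e | e
    · have hk2 : (k : F) * k = 1 := by
        have := congrArg (fun u : GL ι F => mat u (Classical.arbitrary ι) (Classical.arbitrary ι)) e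
        simpa [hk, smul_smul] using this
      rcases mul_self_eq_one_iff.1 hk2 with h | h
      · rw [val hk (q := 1) (by simp) h]; exact one_mem _
      · rw [val hk (q := -1) (by simp) h]; exact D.neg
    · have hk2 : (k : F) * k = -1 := by
        have := congrArg (fun u : GL ι F => mat u (Classical.arbitrary ι) (Classical.arbitrary ι)) e
        simpa [hk, smul_smul] using this
      have hj2' : (kj : F) * kj = -1 := by
        have := congrArg (fun u : GL ι F => mat u (Classical.arbitrary ι) (Classical.arbitrary ι)) hj2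
        simpa [hkj, smul_smul] using this
      rcases mul_self_eq_mul_self_iff.1 (hk2.trans hj2'.symm) with h | h
      · rw [val hk hkj h]; exact hj
      · rw [val hk (q := -j) (d := -(kj : F)) (by rw [Units.val_neg, hkj, neg_smul]) h, ← neg_one_mul]
        exact S.mul_mem D.neg hj
  rw [hnc]
  exact S.mul_mem hw hcS

end CfsgLib.SympType
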