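import Cfsg.Agent.SympType.Engine

/-!
# Strong closure of the involutions of `W`

`W` elementary abelian with an invariant non-degenerate alternating pairing and enough pairs of commuting
transvections in `N`: if the centralisers of the non-identity elements of `W` lie in `N` and elements fusing two
of them lie in `N`, no element outside `N` conjugates one of them into `N`.
-/

set_option autoImplicit false

namespace CfsgLib.SympType

variable {G : Type*} [Group G] [Finite G]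

/-- The hypotheses of the closure lemma. -/
structure Pairing (N W : Subgroup G) (β : G → G → ZMod 2) (Root : G → Prop) : Prop where
  le : W ≤ N
  normal : ∀ n ∈ N, ∀ w ∈ W, n * w * n⁻¹ ∈ W
  comm : ∀ v ∈ W, ∀ w ∈ W, v * w = w * v
  sq : ∀ w ∈ W, w * w = 1
  self : ∀ n ∈ N, (∀ w ∈ W, n * w = w * n) → n ∈ W
  cent : ∀ w ∈ W, w ≠ 1 → ∀ g : G, g * w = w * g → g ∈ N
  fuse : ∀ v ∈ W, v ≠ 1 → ∀ w ∈ W, ∀ g : G, g * v * g⁻¹ = w → g ∈ N
  add : ∀ a ∈ W, ∀ b ∈ W, ∀ c ∈ W, β (a * b) c = β a c + β b c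
  symm : ∀ a ∈ W, ∀ b ∈ W, β a b = β b a
  alt : ∀ a ∈ W, β a a = 0
  inv : ∀ n ∈ N, ∀ a ∈ W, ∀ b ∈ W, β (n * a * n⁻¹) (n * b * n⁻¹) = β a b
  nondeg : ∀ a ∈ W, (∀ b ∈ W, β a b = 0) → a = 1
  large : 64 ≤ Nat.card W
  root : ∀ P K : Subgroup G, P ≤ K → K ≤ W → (∀ a ∈ P, ∀ b ∈ P, β a b = 0) →
    (∀ a ∈ W, (∀ b ∈ P, β a b = 0) → a ∈ P) → 2 * Nat.card P < Nat.card K → ∃ v ∈ K, v ∉ P ∧ Root v
  pair : ∀ v ∈ W, Root v → ∀ n ∈ N, n * n = 1 → β v (n * v * n⁻¹) = 0 → n * v * n⁻¹ ≠ v →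
    ∃ γ ∈ N, γ * n = n * γ ∧ ∀ x ∈ W, γ * x * γ⁻¹ =
      x * (if β x v = 1 then v else 1) * (if β x (n * v * n⁻¹) = 1 then n * v * n⁻¹ else 1)

/-- The elements of `W` fixed by `u`. -/
def fix (W : Subgroup G) (u : G) : Subgroup G := W ⊓ Subgroup.centralizer {u}

omit [Finite G] in
theorem mem_fix {W : Subgroup G} {u x : G} : x ∈ fix W u ↔ x ∈ W ∧ u * x = x * u := by
  rw [fix, Subgroup.mem_inf, Subgroup.mem_centralizer_singleton_iff]
  exact and_congr_right fun _ => ⟨Eq.symm, Eq.symm⟩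

theorem zmod_two : ∀ a : ZMod 2, a = 0 ∨ a = 1 := by decide

theorem zmod_two_add_self : ∀ a : ZMod 2, a + a = 0 := by decide

/-- The sign of an element of `ZMod 2`. -/
noncomputable def sgn (a : ZMod 2) : ℂˣ := if a = 0 then 1 else -1

theorem sgn_add (a b : ZMod 2) : sgn (a + b) = sgn a * sgn b := by
  rcases zmod_two a with rfl | rfl <;> rcases zmod_two b with rfl | rfl <;>
    simp [sgn, show (1 : ZMod 2) + 1 = 0 from rfl]

theorem sgn_eq_one {a : ZMod 2} : sgn a = 1 ↔ a = 0 := by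
  rcases zmod_two a with rfl | rfl
  · simp [sgn]
  · simp [sgn, Units.ext_iff]
    norm_num

/-- Orthogonal subgroups for a non-degenerate pairing. -/
theorem card_mul_card_le {A : Type*} [CommGroup A] [Finite A] (D P : Subgroup A) (ψ : A →* A →* ℂˣ)
    (hinj : ∀ a, ψ a = 1 → a = 1) (h : ∀ d ∈ D, ∀ p ∈ P, ψ d p = 1) : Nat.card D * Nat.card P ≤ Nat.card A := by
  let F : D →* (A ⧸ P →* ℂˣ) := MonoidHom.mk'
    (fun d => QuotientGroup.lift P (ψ d) fun p hp => MonoidHom.mem_ker.2 (h d d.2 p hp)) fun a b => by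
      ext x
      simp
  have : Finite (A ⧸ P →* ℂˣ) := Nat.finite_of_card_ne_zero (by
    rw [CommGroup.card_monoidHom_of_hasEnoughRootsOfUnity]; exact Nat.card_pos.ne')
  have hF : Function.Injective F := (injective_iff_map_eq_one F).2 fun d hd => Subtype.ext
    (hinj d (MonoidHom.ext fun x => by simpa [F] using DFunLike.congr_fun hd (QuotientGroup.mk x)))
  have h1 := (Nat.card_le_card_of_injective F hF).trans_eq (CommGroup.card_monoidHom_of_hasEnoughRootsOfUnity _ ℂ)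
  rw [Subgroup.card_eq_card_quotient_mul_card_subgroup P]
  exact Nat.mul_le_mul_right _ h1

variable {N W : Subgroup G} {β : G → G → ZMod 2} {Root : G → Prop} (S : Pairing N W β Root)
include S

omit [Finite G] in
theorem Pairing.disp_mem {u : G} (hu : u ∈ N) {x : G} (hx : x ∈ W) : u * x * u⁻¹ * x⁻¹ ∈ W :=
  W.mul_mem (S.normal u hu x hx) (W.inv_mem hx)

omit [Finite G] in
theorem Pairing.disp_mul {u : G} (hu : u ∈ N) {x y : G} (hx : x ∈ W) (hy : y ∈ W) :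
    u * (x * y) * u⁻¹ * (x * y)⁻¹ = (u * x * u⁻¹ * x⁻¹) * (u * y * u⁻¹ * y⁻¹) := by
  have h := S.comm _ (S.disp_mem hu hy) x⁻¹ (W.inv_mem hx)
  calc u * (x * y) * u⁻¹ * (x * y)⁻¹ = (u * x * u⁻¹) * ((u * y * u⁻¹ * y⁻¹) * x⁻¹) := by group
    _ = (u * x * u⁻¹) * (x⁻¹ * (u * y * u⁻¹ * y⁻¹)) := by rw [h]
    _ = _ := by group

omit [Finite G] in
theorem Pairing.zero_left {c : G} (hc : c ∈ W) : β 1 c = 0 := by
  have h := S.add 1 W.one_mem 1 W.one_mem c hc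
  rw [one_mul] at h
  exact (left_eq_add.1 h)

omit [Finite G] in
theorem Pairing.inv_eq {a : G} (ha : a ∈ W) : a⁻¹ = a := inv_eq_of_mul_eq_one_right (S.sq a ha)

omit [Finite G] in
/-- An involution is self-adjoint for the pairing. -/
theorem Pairing.disp_symm {u : G} (hu : u ∈ N) (hu2 : u * u = 1) {x y : G} (hx : x ∈ W) (hy : y ∈ W) :
    β (u * x * u⁻¹ * x⁻¹) y = β x (u * y * u⁻¹ * y⁻¹) := by
  have hux := S.normal u hu x hx
  have huy := S.normal u hu y hy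
  have e : β (u * x * u⁻¹) y = β x (u * y * u⁻¹) := by
    conv_rhs => rw [← S.inv u hu x hx _ huy]
    congr 1
    rw [show u * (u * y * u⁻¹) * u⁻¹ = (u * u) * y * (u * u)⁻¹ by group, hu2]
    group
  rw [S.inv_eq hx, S.inv_eq hy, S.add _ hux _ hx _ hy, S.symm x hx (u * y * u⁻¹ * y), S.add _ huy _ hy _ hx,
    S.symm _ huy x hx, S.symm y hy x hx, e]
  exact W.mul_mem huy hy

omit [Finite G] in
/-- Fixed elements are orthogonal to displacements. -/
theorem Pairing.fix_perp {u : G} (hu : u ∈ N) (hu2 : u * u = 1) {x π : G} (hx : x ∈ W) (hπ : π ∈ fix W u) :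
    β (u * x * u⁻¹ * x⁻¹) π = 0 := by
  obtain ⟨hπW, hπu⟩ := mem_fix.1 hπ
  rw [S.disp_symm hu hu2 hx hπW, hπu, mul_inv_cancel_right, mul_inv_cancel, S.symm x hx 1 W.one_mem,
    S.zero_left hx]

omit [Finite G] in
theorem Pairing.disp_fix {u : G} (hu : u ∈ N) (hu2 : u * u = 1) {x : G} (hx : x ∈ W) :
    u * x * u⁻¹ * x⁻¹ ∈ fix W u := by
  refine mem_fix.2 ⟨S.disp_mem hu hx, ?_⟩
  have hui : u⁻¹ = u := inv_eq_of_mul_eq_one_right hu2
  have h := S.comm _ (S.normal u hu x hx) x hx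
  rw [hui] at h ⊢
  rw [S.inv_eq hx]
  calc u * (u * x * u * x) = (u * u) * x * u * x := by simp only [mul_assoc]
    _ = x * u * x * (u * u) := by rw [hu2, one_mul, mul_one]
    _ = x * (u * x * u) * u := by simp only [mul_assoc]
    _ = u * x * u * x * u := by rw [← h]

/-- An involution of `N` fixes at least the square root of `W`. -/
theorem Pairing.card_fix {u : G} (hu : u ∈ N) (hu2 : u * u = 1) : Nat.card W ≤ Nat.card (fix W u) ^ 2 := by
  let φ : W →* fix W u := MonoidHom.mk' (fun x => ⟨u * (x : G) * u⁻¹ * (x : G)⁻¹, S.disp_fix hu hu2 x.2⟩)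
    fun x y => Subtype.ext (S.disp_mul hu x.2 y.2)
  have hker : φ.ker ≤ (fix W u).subgroupOf W := fun x hx => by
    have h : u * (x : G) * u⁻¹ * (x : G)⁻¹ = 1 := congrArg Subtype.val (MonoidHom.mem_ker.1 hx)
    rw [mul_inv_eq_one] at h
    exact mem_fix.2 ⟨x.2, mul_inv_eq_iff_eq_mul.1 h⟩
  have h1 := Nat.le_of_dvd Nat.card_pos (Subgroup.card_dvd_of_le hker)
  have h2 : Nat.card ((fix W u).subgroupOf W) = Nat.card (fix W u) :=
    Nat.card_congr (Subgroup.subgroupOfEquivOfLe inf_le_left).toEquiv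
  have h3 := φ.ker.card_mul_index
  rw [Subgroup.index_ker] at h3
  have h4 : Nat.card φ.range ≤ Nat.card (fix W u) :=
    Nat.card_le_card_of_injective _ Subtype.val_injective
  rw [← h3, pow_two]
  exact Nat.mul_le_mul (h1.trans h2.le) h4

/-- A homomorphism to `ZMod 2` has kernel of index at most two. -/
theorem Pairing.card_le_two_mul {K : Subgroup G} (f : G → ZMod 2) (hf : ∀ a ∈ K, ∀ b ∈ K, f (a * b) = f a + f b) :
    ∃ K' : Subgroup G, K' ≤ K ∧ (∀ a, a ∈ K' ↔ a ∈ K ∧ f a = 0) ∧ Nat.card K ≤ 2 * Nat.card K' := by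
  let φ : K →* Multiplicative (ZMod 2) :=
    MonoidHom.mk' (fun a => Multiplicative.ofAdd (f a)) fun a b => by
      show Multiplicative.ofAdd (f ((a : G) * b)) = _
      rw [hf a a.2 b b.2, ofAdd_add]
  refine ⟨φ.ker.map K.subtype, Subgroup.map_subtype_le _, fun a => ?_, ?_⟩
  · rw [Subgroup.mem_map]
    constructor
    · rintro ⟨x, hx, rfl⟩
      exact ⟨x.2, Multiplicative.ofAdd.injective ((MonoidHom.mem_ker.1 hx).trans ofAdd_zero.symm)⟩
    · rintro ⟨ha, h⟩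
      exact ⟨⟨a, ha⟩, MonoidHom.mem_ker.2 (by show Multiplicative.ofAdd (f a) = 1; rw [h, ofAdd_zero]), rfl⟩
  · have h3 := φ.ker.card_mul_index
    rw [Subgroup.index_ker] at h3
    have h4 : Nat.card φ.range ≤ 2 := by
      refine (Nat.card_le_card_of_injective _ Subtype.val_injective).trans_eq ?_
      simp [Nat.card_eq_fintype_card]
    rw [Nat.card_congr (Subgroup.equivMapOfInjective φ.ker K.subtype (Subgroup.subtype_injective K)).toEquiv.symm,
      ← h3, mul_comm 2]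
    exact Nat.mul_le_mul le_rfl h4

set_option maxHeartbeats 1000000 in
/-- No element outside `N` conjugates an element of `W` into `N`. -/
theorem Pairing.closed {w₀ : G} (hw₀ : w₀ ∈ W) (hw₀1 : w₀ ≠ 1) {g : G} (hg : g * w₀ * g⁻¹ ∈ N) : g ∈ N := by
  classical
  by_contra hgN
  obtain ⟨w, hw⟩ : ∃ w, w = g * w₀ * g⁻¹ := ⟨_, rfl⟩
  rw [← hw] at hg
  have hw2 : w * w = 1 := by
    rw [hw, show g * w₀ * g⁻¹ * (g * w₀ * g⁻¹) = g * (w₀ * w₀) * g⁻¹ by group, S.sq w₀ hw₀, mul_one, mul_inv_cancel]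
  obtain ⟨Q0, hQ0⟩ : ∃ Q0 : Subgroup G, Q0 = W ⊓ N.comap (MulAut.conj g⁻¹).toMonoidHom := ⟨_, rfl⟩
  obtain ⟨P, hP⟩ : ∃ P : Subgroup G, P = W ⊓ N.comap (MulAut.conj g).toMonoidHom := ⟨_, rfl⟩
  have memQ : ∀ {x}, x ∈ Q0 ↔ x ∈ W ∧ g⁻¹ * x * g ∈ N := fun {x} => by
    rw [hQ0, Subgroup.mem_inf, Subgroup.mem_comap]
    simp [MulAut.conj_apply]
  have memP : ∀ {x}, x ∈ P ↔ x ∈ W ∧ g * x * g⁻¹ ∈ N := fun {x} => by
    rw [hP, Subgroup.mem_inf, Subgroup.mem_comap]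
    simp [MulAut.conj_apply]
  have hfixQ : fix W w ≤ Q0 := fun x hx => by
    obtain ⟨hxW, hxw⟩ := mem_fix.1 hx
    refine memQ.2 ⟨hxW, S.cent w₀ hw₀ hw₀1 _ ?_⟩
    have : w₀ = g⁻¹ * w * g := by rw [hw]; group
    rw [this, show g⁻¹ * x * g * (g⁻¹ * w * g) = g⁻¹ * (x * w) * g by group, ← hxw]
    group
  obtain ⟨U, hU⟩ : ∃ U : Subgroup G, U = Q0.map (MulAut.conj g⁻¹).toMonoidHom := ⟨_, rfl⟩
  have memU : ∀ {u}, u ∈ U ↔ g * u * g⁻¹ ∈ Q0 := fun {u} => by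
    rw [hU, Subgroup.mem_map]
    constructor
    · rintro ⟨x, hx, rfl⟩
      simpa [MulAut.conj_apply, mul_assoc] using hx
    · intro h
      exact ⟨_, h, by simp [MulAut.conj_apply, mul_assoc]⟩
  have hUN : U ≤ N := fun u hu => by
    have := (memQ.1 (memU.1 hu)).2
    rwa [show g⁻¹ * (g * u * g⁻¹) * g = u by group] at this
  have hU2 : ∀ u ∈ U, u * u = 1 := fun u hu => by
    have := S.sq _ (memQ.1 (memU.1 hu)).1
    rw [show g * u * g⁻¹ * (g * u * g⁻¹) = g * (u * u) * g⁻¹ by group, mul_inv_eq_one, mul_eq_left] at this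
    exact this
  have hUcomm : ∀ u ∈ U, ∀ u' ∈ U, u * u' = u' * u := fun u hu u' hu' => by
    have h := S.comm _ (memQ.1 (memU.1 hu)).1 _ (memQ.1 (memU.1 hu')).1
    rw [show g * u * g⁻¹ * (g * u' * g⁻¹) = g * (u * u') * g⁻¹ by group,
      show g * u' * g⁻¹ * (g * u * g⁻¹) = g * (u' * u) * g⁻¹ by group] at h
    exact mul_left_cancel (mul_right_cancel h)
  have hne : ∀ {u}, u ≠ 1 → g * u * g⁻¹ ≠ 1 := fun {u} hu1 h => hu1 (by
    rwa [mul_inv_eq_one, mul_eq_left] at h)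
  have hfixU : ∀ u ∈ U, u ≠ 1 → fix W u = P := fun u hu hu1 => by
    have hqW := (memQ.1 (memU.1 hu)).1
    refine le_antisymm (fun x hx => ?_) (fun p hp => ?_)
    · obtain ⟨hxW, hxu⟩ := mem_fix.1 hx
      refine memP.2 ⟨hxW, S.cent _ hqW (hne hu1) _ ?_⟩
      rw [show g * x * g⁻¹ * (g * u * g⁻¹) = g * (x * u) * g⁻¹ by group, ← hxu]
      group
    · obtain ⟨hpW, hpN⟩ := memP.1 hp
      refine mem_fix.2 ⟨hpW, ?_⟩
      have hd : u * p * u⁻¹ * p⁻¹ ∈ W := S.disp_mem (hUN hu) hpW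
      by_contra hne'
      refine hgN (S.fuse _ hd (fun h => hne' ?_) (g * (u * p * u⁻¹ * p⁻¹) * g⁻¹) ?_ g rfl)
      · rw [mul_inv_eq_one, mul_inv_eq_iff_eq_mul] at h
        exact h
      · rw [show g * (u * p * u⁻¹ * p⁻¹) * g⁻¹ =
          g * u * g⁻¹ * ((g * p * g⁻¹) * (g * u * g⁻¹)⁻¹ * (g * p * g⁻¹)⁻¹) by group]
        exact W.mul_mem hqW (S.normal _ hpN _ (W.inv_mem hqW))
  have hcardU : Nat.card U = Nat.card Q0 := by
    rw [hU]
    exact Nat.card_congr (Subgroup.equivMapOfInjective _ _ (MulAut.conj g⁻¹).injective).toEquiv.symm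
  have hbig : Nat.card W ≤ Nat.card U ^ 2 := by
    refine (S.card_fix hg hw2).trans (Nat.pow_le_pow_left ?_ 2)
    rw [hcardU]
    exact Nat.le_of_dvd Nat.card_pos (Subgroup.card_dvd_of_le hfixQ)
  have hU3 : 3 ≤ Nat.card U := by
    by_contra h
    have h' := Nat.pow_le_pow_left (by omega : Nat.card U ≤ 2) 2
    have := S.large
    omega
  obtain ⟨u₀, hu₀, hu₀1⟩ : ∃ u ∈ U, u ≠ 1 := by
    by_contra h
    push Not at h
    rw [(Subgroup.eq_bot_iff_forall U).2 h, Subgroup.card_bot] at hU3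
    omega
  have hu₀N := hUN hu₀
  have hu₀2 := hU2 u₀ hu₀
  have hP₀ := hfixU u₀ hu₀ hu₀1
  have hPW : P ≤ W := hP₀ ▸ inf_le_left
  have hdP : ∀ {u}, u ∈ U → ∀ {x}, x ∈ W → u * x * u⁻¹ * x⁻¹ ∈ P := fun {u} hu {x} hx => by
    rcases eq_or_ne u 1 with rfl | hu1
    · simp [P.one_mem]
    · exact hfixU u hu hu1 ▸ S.disp_fix (hUN hu) (hU2 u hu) hx
  have hperpP : ∀ {u}, u ∈ U → ∀ {x}, x ∈ W → ∀ {π}, π ∈ P → β (u * x * u⁻¹ * x⁻¹) π = 0 := by
    intro u hu x hx π hπ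
    rcases eq_or_ne u 1 with rfl | hu1
    · simp [S.zero_left (hPW hπ)]
    · exact S.fix_perp (hUN hu) (hU2 u hu) hx (hfixU u hu hu1 ▸ hπ)
  -- fixed elements and displacements
  have hmax : ∀ a ∈ W, (∀ b ∈ P, β a b = 0) → a ∈ P := fun a ha h => by
    rw [← hP₀, mem_fix]
    refine ⟨ha, mul_inv_eq_iff_eq_mul.1 (mul_inv_eq_one.1 (S.nondeg _ (S.disp_mem hu₀N ha) fun b hb => ?_))⟩
    rw [S.disp_symm hu₀N hu₀2 ha hb]
    exact h _ (hdP hu₀ hb)
  have hUW : ∀ u ∈ U, u ∈ W → u = 1 := fun u hu huW => by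
    by_contra hu1
    exact hgN (S.fuse u huW hu1 _ (memQ.1 (memU.1 hu)).1 g rfl)
  obtain ⟨x₀, hx₀, hx₀P⟩ : ∃ x ∈ W, x ∉ P := by
    by_contra h
    push Not at h
    exact hu₀1 (hUW u₀ hu₀ (S.self u₀ hu₀N fun a ha => (mem_fix.1 (hP₀ ▸ h a ha : a ∈ fix W u₀)).2))
  have hinjU : ∀ {y}, y ∈ W → y ∉ P → ∀ u u' : U,
      (u : G) * y * (u : G)⁻¹ * y⁻¹ = (u' : G) * y * (u' : G)⁻¹ * y⁻¹ → u = u' := by
    intro y hy hyP u u' he'
    by_contra hne'
    have hv : (u : G)⁻¹ * (u' : G) ≠ 1 := fun h => hne' (Subtype.ext (inv_mul_eq_one.1 h))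
    have hmem : y ∈ fix W ((u : G)⁻¹ * (u' : G)) := mem_fix.2 ⟨hy, mul_inv_eq_iff_eq_mul.1 (by
      rw [show (u : G)⁻¹ * (u' : G) * y * ((u : G)⁻¹ * (u' : G))⁻¹ =
        (u : G)⁻¹ * ((u' : G) * y * (u' : G)⁻¹) * (u : G) by group, ← mul_right_cancel he']
      group)⟩
    rw [hfixU _ (U.mul_mem (U.inv_mem u.2) u'.2) hv] at hmem
    exact hyP hmem
  -- equal sizes
  have hUP : Nat.card U ≤ Nat.card P :=
    Nat.card_le_card_of_injective (fun u : U => (⟨(u : G) * x₀ * (u : G)⁻¹ * x₀⁻¹, hdP u.2 hx₀⟩ : P))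
      fun u u' he => hinjU hx₀ hx₀P u u' (congrArg Subtype.val he)
  let D : Subgroup G :=
    { carrier := {a | a ∈ W ∧ ∀ b ∈ P, β a b = 0}
      one_mem' := ⟨W.one_mem, fun b hb => S.zero_left (hPW hb)⟩
      mul_mem' := fun {a b} ha hb => ⟨W.mul_mem ha.1 hb.1, fun c hc => by
        rw [S.add _ ha.1 _ hb.1 _ (hPW hc), ha.2 c hc, hb.2 c hc, add_zero]⟩
      inv_mem' := fun {a} ha => (by rw [S.inv_eq ha.1]; exact ha) }
  have hDW : D ≤ W := fun a ha => ha.1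
  have hDP : D ≤ P := fun a ha => hmax a ha.1 ha.2
  have hUD : Nat.card U ≤ Nat.card D := by
    refine Nat.card_le_card_of_injective
      (fun u : U => (⟨(u : G) * x₀ * (u : G)⁻¹ * x₀⁻¹, S.disp_mem (hUN u.2) hx₀,
        fun b hb => hperpP u.2 hx₀ hb⟩ : D)) fun u u' he => ?_
    exact hinjU hx₀ hx₀P u u' (congrArg Subtype.val he)
  have hDPW : Nat.card D * Nat.card P ≤ Nat.card W := by
    letI : CommGroup W := { (inferInstance : Group W) with mul_comm := fun a b => Subtype.ext (S.comm _ a.2 _ b.2) }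
    have h := card_mul_card_le (D.subgroupOf W) (P.subgroupOf W) (MonoidHom.mk' (fun a : W => MonoidHom.mk'
        (fun b : W => sgn (β (a : G) (b : G))) fun b c => by
          show sgn (β (a : G) ((b : G) * (c : G))) = _
          rw [S.symm _ a.2 _ (W.mul_mem b.2 c.2), S.add _ b.2 _ c.2 _ a.2, sgn_add,
            S.symm _ b.2 _ a.2, S.symm _ c.2 _ a.2])
        fun a b => MonoidHom.ext fun c => by
          show sgn (β ((a : G) * (b : G)) (c : G)) = _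
          rw [S.add _ a.2 _ b.2 _ c.2, sgn_add]
          rfl)
      (fun a ha => Subtype.ext (S.nondeg _ a.2 fun b hb => sgn_eq_one.1 (DFunLike.congr_fun ha ⟨b, hb⟩)))
      (fun d hd p hp => sgn_eq_one.2 (hd.2 _ hp))
    rwa [Nat.card_congr (Subgroup.subgroupOfEquivOfLe hDW).toEquiv,
      Nat.card_congr (Subgroup.subgroupOfEquivOfLe hPW).toEquiv] at h
  have hDcard : Nat.card D ≤ Nat.card P := Nat.le_of_dvd Nat.card_pos (Subgroup.card_dvd_of_le hDP)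
  have hPU : Nat.card P = Nat.card U ∧ Nat.card D = Nat.card P ∧ Nat.card W = Nat.card P * Nat.card P := by
    rw [pow_two] at hbig
    have h1 := Nat.mul_le_mul hUD hUP
    have h2 : Nat.card U * Nat.card U = Nat.card D * Nat.card P := le_antisymm h1 (hDPW.trans hbig)
    have h3 : Nat.card D = Nat.card U := by
      nlinarith
    have h4 : Nat.card P = Nat.card U := by
      rw [h3] at h2
      exact (Nat.eq_of_mul_eq_mul_left (by omega) h2).symm
    refine ⟨h4, h3.trans h4.symm, le_antisymm ?_ ?_⟩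
    · rw [h4]; exact hbig
    · rw [h3, h4] at hDPW; rw [h4]; exact hDPW
  have hDeq : D = P := Subgroup.eq_of_le_of_card_ge hDP hPU.2.1.ge
  have hPperp : ∀ a ∈ P, ∀ b ∈ P, β a b = 0 := fun a ha => (hDeq ▸ ha : a ∈ D).2
  have hP8 : 8 ≤ Nat.card P := by
    by_contra h
    have h' := Nat.mul_le_mul (by omega : Nat.card P ≤ 7) (by omega : Nat.card P ≤ 7)
    have := S.large
    omega
  -- a root fixed modulo the pairing
  obtain ⟨K, hKW, hK, hKc⟩ := S.card_le_two_mul (K := W) (fun a => β a (u₀ * a * u₀⁻¹ * a⁻¹)) (fun a ha b hb => by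
    have da := S.disp_mem hu₀N ha
    have db := S.disp_mem hu₀N hb
    have e1 : β a (u₀ * b * u₀⁻¹ * b⁻¹) = β b (u₀ * a * u₀⁻¹ * a⁻¹) := by
      rw [← S.disp_symm hu₀N hu₀2 ha hb, S.symm _ da b hb]
    have radd : ∀ c ∈ W, β c ((u₀ * a * u₀⁻¹ * a⁻¹) * (u₀ * b * u₀⁻¹ * b⁻¹)) =
        β c (u₀ * a * u₀⁻¹ * a⁻¹) + β c (u₀ * b * u₀⁻¹ * b⁻¹) := fun c hc => by
      rw [S.symm _ hc _ (W.mul_mem da db), S.add _ da _ db _ hc, S.symm _ da _ hc, S.symm _ db _ hc]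
    rw [S.disp_mul hu₀N ha hb, S.add _ ha _ hb _ (W.mul_mem da db), radd a ha, radd b hb, e1, add_assoc,
      ← add_assoc (β b (u₀ * a * u₀⁻¹ * a⁻¹)) (β b (u₀ * a * u₀⁻¹ * a⁻¹)), zmod_two_add_self, zero_add])
  obtain ⟨v, hvK, hvP, hvR⟩ := S.root P K (fun a ha => (hK a).2 ⟨hPW ha, hPperp _ ha _ (hdP hu₀ (hPW ha))⟩)
    hKW hPperp hmax (by
      have h' := Nat.mul_le_mul_right (Nat.card P) hP8
      rw [← hPU.2.2] at h'
      omega)
  obtain ⟨hvW, hvf⟩ := (hK v).1 hvK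
  obtain ⟨v', hv'⟩ : ∃ v', v' = u₀ * v * u₀⁻¹ := ⟨_, rfl⟩
  have hv'W : v' ∈ W := hv' ▸ S.normal u₀ hu₀N v hvW
  have hvv : v' ≠ v := fun h => hvP (by
    rw [← hP₀]
    exact mem_fix.2 ⟨hvW, mul_inv_eq_iff_eq_mul.1 (hv'.symm.trans h)⟩)
  have hv1 : v ≠ 1 := fun h => hvP (h ▸ P.one_mem)
  obtain ⟨γ, hγN, hγu, hγ⟩ := S.pair v hvW hvR u₀ hu₀N hu₀2 (by
      rw [show u₀ * v * u₀⁻¹ = (u₀ * v * u₀⁻¹ * v⁻¹) * v by group, S.symm v hvW _ (W.mul_mem
        (S.disp_mem hu₀N hvW) hvW), S.add _ (S.disp_mem hu₀N hvW) _ hvW _ hvW, S.alt v hvW, add_zero,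
        S.symm _ (S.disp_mem hu₀N hvW) _ hvW, hvf]) (hv' ▸ hvv)
  rw [← hv'] at hγ
  have hvP' : v' * v⁻¹ ∈ P := hv' ▸ hdP hu₀ hvW
  -- `γ` commutes with `U`
  have hγU : ∀ u ∈ U, γ * u = u * γ := fun u hu => by
    have hkN : g * γ * g⁻¹ ∈ N := S.cent _ (memQ.1 (memU.1 hu₀)).1 (hne hu₀1) _ (by
      rw [show g * γ * g⁻¹ * (g * u₀ * g⁻¹) = g * (γ * u₀) * g⁻¹ by group, hγu]
      group)
    have huN := hUN hu
    have hw' : γ * u * γ⁻¹ * u⁻¹ ∈ U := by
      refine U.mul_mem (memU.2 (memQ.2 ⟨?_, ?_⟩)) (U.inv_mem hu)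
      · rw [show g * (γ * u * γ⁻¹) * g⁻¹ = g * γ * g⁻¹ * (g * u * g⁻¹) * (g * γ * g⁻¹)⁻¹ by group]
        exact S.normal _ hkN _ (memQ.1 (memU.1 hu)).1
      · rw [show g⁻¹ * (g * (γ * u * γ⁻¹) * g⁻¹) * g = γ * u * γ⁻¹ by group]
        exact N.mul_mem (N.mul_mem hγN huN) (N.inv_mem hγN)
    by_contra hc
    have hw'1 : γ * u * γ⁻¹ * u⁻¹ ≠ 1 := fun h => hc (mul_inv_eq_iff_eq_mul.1 (mul_inv_eq_one.1 h))
    have huW := S.normal u huN v hvW
    have huP : u * v * u⁻¹ * v⁻¹ ∈ P := hdP hu hvW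
    obtain ⟨L₁, hL₁W, hL₁, hc₁⟩ := S.card_le_two_mul (K := W) (fun a => β a v) fun a ha b hb =>
      S.add a ha b hb v hvW
    obtain ⟨L₂, hL₂W, hL₂, hc₂⟩ := S.card_le_two_mul (K := L₁) (fun a => β a v') fun a ha b hb =>
      S.add a (hL₁W ha) b (hL₁W hb) v' hv'W
    obtain ⟨L₃, hL₃W, hL₃, hc₃⟩ := S.card_le_two_mul (K := L₂) (fun a => β a (u * v * u⁻¹)) fun a ha b hb =>
      S.add a (hL₁W (hL₂W ha)) b (hL₁W (hL₂W hb)) _ huW
    have hfix : ∀ x ∈ W, β x v = 0 → β x v' = 0 → γ * x = x * γ := fun x hx h1 h2 => by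
      have := hγ x hx
      rw [h1, h2, if_neg zero_ne_one, if_neg zero_ne_one, mul_one, mul_one] at this
      exact mul_inv_eq_iff_eq_mul.1 this
    have hL : L₃ ≤ P := fun x hx => by
      obtain ⟨hx2, h3⟩ := (hL₃ x).1 hx
      obtain ⟨hx1, h2⟩ := (hL₂ x).1 hx2
      obtain ⟨hxW, h1⟩ := (hL₁ x).1 hx1
      have hy : u⁻¹ * x * u ∈ W := by simpa using S.normal _ (N.inv_mem huN) x hxW
      have e : u * (u⁻¹ * x * u) * u⁻¹ = x := by group
      have k1 : β (u⁻¹ * x * u) v = 0 := by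
        rw [← S.inv u huN _ hy _ hvW, e, h3]
      have hy2 : β (u⁻¹ * x * u) v' = 0 := by
        rw [← S.inv u huN _ hy _ hv'W, e]
        have huv : u * (v' * v⁻¹) * u⁻¹ = v' * v⁻¹ := by
          rcases eq_or_ne u 1 with rfl | hu1
          · simp
          · exact mul_inv_eq_iff_eq_mul.2 (mem_fix.1 ((hfixU u hu hu1).ge hvP')).2
        rw [show u * v' * u⁻¹ = (u * (v' * v⁻¹) * u⁻¹) * (u * v * u⁻¹) by group, huv,
          S.symm _ hxW _ (W.mul_mem (hPW hvP') huW), S.add _ (hPW hvP') _ huW _ hxW, S.symm _ huW _ hxW, h3,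
          add_zero, S.symm _ (hPW hvP') _ hxW, S.inv_eq hvW, S.symm _ hxW _ (W.mul_mem hv'W hvW),
          S.add _ hv'W _ hvW _ hxW, S.symm _ hv'W _ hxW, S.symm _ hvW _ hxW, h1, h2, add_zero]
      rw [← hfixU _ hw' hw'1]
      refine mem_fix.2 ⟨hxW, ?_⟩
      have g1 := hfix x hxW h1 h2
      have g2 := hfix _ hy k1 hy2
      calc γ * u * γ⁻¹ * u⁻¹ * x = γ * u * γ⁻¹ * (u⁻¹ * x * u) * u⁻¹ := by group
        _ = γ * u * (γ⁻¹ * (u⁻¹ * x * u)) * u⁻¹ := by group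
        _ = γ * u * ((u⁻¹ * x * u) * γ⁻¹) * u⁻¹ := by
          rw [show γ⁻¹ * (u⁻¹ * x * u) = (u⁻¹ * x * u) * γ⁻¹ from (Commute.inv_left g2).eq]
        _ = γ * x * u * γ⁻¹ * u⁻¹ := by group
        _ = x * (γ * u * γ⁻¹ * u⁻¹) := by rw [g1]; group
    obtain ⟨p, hp, hpv⟩ : ∃ p ∈ P, β p v ≠ 0 := by
      by_contra h
      push Not at h
      exact hvP (hmax v hvW fun b hb => (S.symm v hvW b (hPW hb)).trans (h b hb))
    have hL' : L₃ ≠ P := fun h => hpv ((hL₁ p).1 (hL₂W (hL₃W (h ▸ hp)))).2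
    have hcard : 2 * Nat.card L₃ ≤ Nat.card P := by
      obtain ⟨c, hc'⟩ := Subgroup.card_dvd_of_le hL
      have hc2 : 2 ≤ c := by
        by_contra hlt
        interval_cases c
        · rw [mul_zero] at hc'; exact Nat.card_pos.ne' hc'
        · exact hL' (Subgroup.eq_of_le_of_card_ge hL (by rw [hc', mul_one]))
      rw [hc', mul_comm 2]
      exact Nat.mul_le_mul le_rfl hc2
    have h' := Nat.mul_le_mul_right (Nat.card P) hP8
    rw [← hPU.2.2] at h'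
    omega
  obtain ⟨x, hxW, hx1, hx2⟩ : ∃ x ∈ W, β x v = 1 ∧ β x v' = 0 := by
    obtain ⟨b, hb, hbv⟩ : ∃ b ∈ W, β b v = 1 := by
      by_contra h
      push Not at h
      exact hv1 (S.nondeg v hvW fun b hb => (S.symm v hvW b hb).trans
        ((zmod_two _).resolve_right (h b hb)))
    rcases zmod_two (β b v') with h | h
    · exact ⟨b, hb, hbv, h⟩
    obtain ⟨a, ha, hav⟩ : ∃ a ∈ W, β a v ≠ β a v' := by
      by_contra hall
      push Not at hall
      refine hvv (?_ : v' = v)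
      have hmem := W.mul_mem hv'W hvW
      have := S.nondeg _ hmem fun b hb => by
        rw [S.add _ hv'W _ hvW _ hb, S.symm _ hv'W _ hb, S.symm _ hvW _ hb, hall b hb, zmod_two_add_self]
      rw [← S.inv_eq hvW] at this
      exact mul_inv_eq_one.1 this
    rcases zmod_two (β a v) with h1 | h1 <;> rcases zmod_two (β a v') with h2 | h2
    · exact absurd (h1.trans h2.symm) hav
    · exact ⟨b * a, W.mul_mem hb ha, by rw [S.add _ hb _ ha _ hvW, hbv, h1, add_zero],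
        by rw [S.add _ hb _ ha _ hv'W, h, h2, zmod_two_add_self]⟩
    · exact ⟨a, ha, h1, h2⟩
    · exact absurd (h1.trans h2.symm) hav
  have himg : ∀ u ∈ U, u * v * u⁻¹ = v ∨ u * v * u⁻¹ = v' := fun u hu => by
    have huN := hUN hu
    have huW := S.normal u huN v hvW
    have e1 := hγ x hxW
    rw [hx1, hx2, if_pos rfl, if_neg zero_ne_one, mul_one] at e1
    have e2 : γ * (u * x * u⁻¹) * γ⁻¹ = u * x * u⁻¹ * (u * v * u⁻¹) := by
      calc γ * (u * x * u⁻¹) * γ⁻¹ = (γ * u) * x * (γ * u)⁻¹ := by group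
        _ = u * (γ * x * γ⁻¹) * u⁻¹ := by rw [hγU u hu]; group
        _ = _ := by rw [e1]; group
    rw [hγ _ (S.normal u huN x hxW), mul_assoc] at e2
    have e3 := (mul_left_cancel e2).symm
    have hcase : u * v * u⁻¹ = v' * v⁻¹ → False := fun h => by
      rcases eq_or_ne u 1 with rfl | hu1
      · exact hvP (by simpa using (h.symm ▸ hvP' : (1 : G) * v * 1⁻¹ ∈ P))
      have huv := (mem_fix.1 ((hfixU u hu hu1).ge hvP')).2
      refine hvP (?_ : v ∈ P)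
      rw [show v = u⁻¹ * (u * v * u⁻¹) * u by group, h, mul_assoc, ← huv, inv_mul_cancel_left]
      exact hvP'
    split_ifs at e3 with ha hb
    · refine (hcase ?_).elim
      rw [e3, S.comm v hvW v' hv'W, S.inv_eq hvW]
    · exact Or.inl (by rwa [mul_one] at e3)
    · exact Or.inr (by rwa [one_mul] at e3)
    · rw [one_mul, mul_inv_eq_one, mul_eq_left] at e3
      exact absurd e3 hv1
  have h2 : Nat.card U ≤ 2 := by
    refine (Nat.card_le_card_of_injective (fun u : U => decide ((u : G) * v * (u : G)⁻¹ = v)) fun u u' he => ?_).trans_eq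
      (by simp)
    refine hinjU hvW hvP u u' ?_
    replace he := decide_eq_decide.1 he
    have key : (u : G) * v * (u : G)⁻¹ = (u' : G) * v * (u' : G)⁻¹ := by
      rcases himg u u.2 with h | h
      · rw [h, he.1 h]
      · rcases himg u' u'.2 with h' | h'
        · exact (he.2 h').trans h'.symm
        · rw [h, h']
    rw [key]
  omega

end CfsgLib.SympType
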