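import Cfsg.Agent.SympType.Select
import Cfsg.Agent.SympType.Closed

/-!
# An overgroup with the same centralisers and fusion normalises `R`

`H` between the normaliser in `X` and `X`: if the centralisers in `H` of the non-scalar elements of `R` normalise
`R` and fusion of classes of `R` in `H` is realised in the normaliser, then `H` normalises `R`.
-/

set_option autoImplicit false
set_option linter.unusedSectionVars false

namespace CfsgLib.SympType

open Matrix Cfsg.Geo

local notation:max "mat" => Units.val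

variable {ι : Type} [Fintype ι] [DecidableEq ι] {F : Type*} [Field F]

instance scalars_subgroupOf_normal (H : Subgroup (GL ι F)) : ((scalars ι F).subgroupOf H).Normal :=
  ⟨fun s hs g => by
    rw [Subgroup.mem_subgroupOf] at hs ⊢
    simpa [← scalar_comm hs (g : GL ι F)] using hs⟩

/-- `H` modulo scalars. -/
abbrev Q (H : Subgroup (GL ι F)) : Type _ := ↥H ⧸ (scalars ι F).subgroupOf H

/-- The projection. -/
abbrev proj (H : Subgroup (GL ι F)) : ↥H →* Q H := QuotientGroup.mk' _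

/-- The image of the normaliser. -/
abbrev barN (H R : Subgroup (GL ι F)) : Subgroup (Q H) := ((subgroupNormalizer R).subgroupOf H).map (proj H)

/-- The image of `R`. -/
abbrev barW (H R : Subgroup (GL ι F)) : Subgroup (Q H) := (R.subgroupOf H).map (proj H)

/-- The commutation bit of two classes. -/
noncomputable def barBit (H : Subgroup (GL ι F)) (a b : Q H) : ZMod 2 :=
  bit ((a.out : ↥H) : GL ι F) ((b.out : ↥H) : GL ι F)

/-- A class has a square root of `-1` in `R`. -/
def barRoot (H R : Subgroup (GL ι F)) (a : Q H) : Prop :=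
  ∃ x : ↥H, (x : GL ι F) ∈ R ∧ (x : GL ι F) * (x : GL ι F) = -1 ∧ proj H x = a

theorem barBit_proj {H : Subgroup (GL ι F)} (x y : ↥H) :
    barBit H (proj H x) (proj H y) = bit (x : GL ι F) (y : GL ι F) := by
  obtain ⟨k, hk⟩ := QuotientGroup.mk_out_eq_mul ((scalars ι F).subgroupOf H) x
  obtain ⟨l, hl⟩ := QuotientGroup.mk_out_eq_mul ((scalars ι F).subgroupOf H) y
  show bit ((Quotient.out (QuotientGroup.mk x : Q H) : ↥H) : GL ι F)
    ((Quotient.out (QuotientGroup.mk y : Q H) : ↥H) : GL ι F) = _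
  rw [hk, hl]
  have hk' : ((k : ↥H) : GL ι F) ∈ scalars ι F := k.2
  have hl' : ((l : ↥H) : GL ι F) ∈ scalars ι F := l.2
  simp only [Subgroup.coe_mul]
  rw [← scalar_comm hk', ← scalar_comm hl', bit_scalar_left hk', bit_comm, bit_scalar_left hl', bit_comm]

theorem proj_eq_one {H : Subgroup (GL ι F)} {x : ↥H} : proj H x = 1 ↔ (x : GL ι F) ∈ scalars ι F := by
  rw [QuotientGroup.mk'_apply, QuotientGroup.eq_one_iff, Subgroup.mem_subgroupOf]

theorem proj_eq {H : Subgroup (GL ι F)} {x y : ↥H} :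
    proj H x = proj H y ↔ (x : GL ι F)⁻¹ * (y : GL ι F) ∈ scalars ι F := by
  rw [QuotientGroup.mk'_apply, QuotientGroup.mk'_apply, QuotientGroup.eq, Subgroup.mem_subgroupOf]
  simp

/-- The situation of an overgroup. -/
structure Over (X H R : Subgroup (GL ι F)) : Prop where
  data : Data R
  amb : Ambient X R
  low : subgroupNormalizer R ⊓ X ≤ H
  high : H ≤ X
  eight : 8 ≤ Fintype.card ι
  cent : ∀ g ∈ H, ∀ x ∈ R, x ∉ scalars ι F → g * x = x * g → g ∈ subgroupNormalizer R
  fuse : ∀ g ∈ H, ∀ v ∈ R, ∀ w ∈ R, v ∉ scalars ι F → ∀ s ∈ scalars ι F, g * v * g⁻¹ = s * w →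
    ∃ n ∈ subgroupNormalizer R ⊓ X, ∃ s' ∈ scalars ι F, n * w * n⁻¹ = s' * v

variable [Nonempty ι] {X H R : Subgroup (GL ι F)} (O : Over X H R)
include O

theorem Over.mem_H {x : GL ι F} (hx : x ∈ R) : x ∈ H := O.low ⟨Subgroup.le_normalizer hx, O.amb.le hx⟩

theorem Over.mem_barN {h : ↥H} : proj H h ∈ barN H R ↔ (h : GL ι F) ∈ subgroupNormalizer R := by
  refine ⟨fun hm => ?_, fun hm => ⟨h, hm, rfl⟩⟩
  obtain ⟨n, hn, hnh⟩ := hm
  have hs := proj_eq.1 hnh
  rw [show (h : GL ι F) = (n : GL ι F) * ((n : GL ι F)⁻¹ * (h : GL ι F)) by group]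
  exact mul_mem (Subgroup.mem_subgroupOf.1 hn) (scalar_mem_normalizer hs R)

theorem Over.mem_barW {a : Q H} :
    a ∈ barW H R ↔ ∃ x : ↥H, (x : GL ι F) ∈ R ∧ proj H x = a := by
  simp [barW, Subgroup.mem_map, Subgroup.mem_subgroupOf]

theorem Over.conj_mem {n x : GL ι F} (hn : n ∈ subgroupNormalizer R) (hx : x ∈ R) : n * x * n⁻¹ ∈ R :=
  (Subgroup.mem_normalizer_iff.1 hn x).1 hx

theorem Over.cent' {g : GL ι F} (hg : g ∈ H) {x s : GL ι F} (hx : x ∈ R) (hns : x ∉ scalars ι F)
    (hs : s ∈ scalars ι F) (h : g * x * g⁻¹ = s * x) : g ∈ subgroupNormalizer R := by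
  have D := O.data
  obtain ⟨y, hy, hxy⟩ := D.exists_anti hx hns
  rw [← neg_eq_iff_eq_neg] at hxy
  have e1 : (s * x) * (s * x) = x * x := by
    rw [← h, show g * x * g⁻¹ * (g * x * g⁻¹) = g * (x * x) * g⁻¹ by group]
    rcases D.sq x hx with e | e <;> rw [e] <;> simp
  have hss : s * s = 1 := by
    rw [show s * x * (s * x) = s * (x * s) * x by group, ← scalar_comm hs x,
      show s * (s * x) * x = (s * s) * (x * x) by group] at e1
    exact mul_eq_right.1 e1
  obtain ⟨c, hc⟩ := (mem_scalars_iff s).1 hs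
  have hc2 : (c : F) * c = 1 := by
    have := congrArg (fun u : GL ι F => mat u (Classical.arbitrary ι) (Classical.arbitrary ι)) hss
    simpa [hc, smul_smul] using this
  rcases mul_self_eq_one_iff.1 hc2 with hc' | hc'
  · have hs1 : s = 1 := Units.ext (by rw [hc, hc']; simp)
    rw [hs1, one_mul] at h
    exact O.cent g hg x hx hns (mul_inv_eq_iff_eq_mul.1 h)
  · have hs1 : s = -1 := Units.ext (by rw [hc, hc']; simp)
    rw [hs1, neg_one_mul, mul_inv_eq_iff_eq_mul, neg_mul] at h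
    have hyg : y * g * x = x * (y * g) := by
      rw [mul_assoc, h, mul_neg, ← mul_assoc, ← mul_assoc, ← hxy, neg_mul, neg_neg]
    have := O.cent _ (H.mul_mem (O.mem_H hy) hg) x hx hns hyg
    have hyN : y ∈ subgroupNormalizer R := Subgroup.le_normalizer hy
    simpa using mul_mem (inv_mem hyN) this

/-- The hypotheses of the closure lemma hold. -/
theorem Over.pairing [Finite F] : Pairing (barN H R) (barW H R) (barBit H) (barRoot H R) := by
  classical
  have D := O.data
  have hsurj : Function.Surjective (proj H) := QuotientGroup.mk'_surjective _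
  refine
    { le := Subgroup.map_mono fun x hx => Subgroup.mem_subgroupOf.2 (Subgroup.le_normalizer (Subgroup.mem_subgroupOf.1 hx))
      normal := ?_, comm := ?_, sq := ?_, self := ?_, cent := ?_, fuse := ?_, add := ?_, symm := ?_, alt := ?_,
      inv := ?_, nondeg := ?_, large := ?_, root := ?_, pair := ?_ }
  · rintro _ ⟨n, hn, rfl⟩ w hw
    obtain ⟨x, hx, rfl⟩ := O.mem_barW.1 hw
    rw [← map_inv, ← map_mul, ← map_mul]
    exact O.mem_barW.2 ⟨_, O.conj_mem (Subgroup.mem_subgroupOf.1 hn) hx, rfl⟩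
  · intro v hv w hw
    obtain ⟨x, hx, rfl⟩ := O.mem_barW.1 hv
    obtain ⟨y, hy, rfl⟩ := O.mem_barW.1 hw
    rw [← map_mul, ← map_mul, proj_eq, Subgroup.coe_mul, Subgroup.coe_mul]
    rcases D.comm _ hx _ hy with e | e
    · rw [e, inv_mul_cancel]; exact one_mem _
    · rw [e]
      simpa using neg_one_mem_scalars
  · intro w hw
    obtain ⟨x, hx, rfl⟩ := O.mem_barW.1 hw
    rw [← map_mul, proj_eq_one, Subgroup.coe_mul]
    rcases D.sq _ hx with e | e <;> rw [e]
    exacts [one_mem _, neg_one_mem_scalars]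
  · intro n hn hcomm
    obtain ⟨h, rfl⟩ := hsurj n
    have hh := O.mem_barN.1 hn
    obtain ⟨w, hw, hws⟩ := D.inner (n := (h : GL ι F)) fun x hx => by
      have e := hcomm (proj H ⟨x, O.mem_H hx⟩) (O.mem_barW.2 ⟨_, hx, rfl⟩)
      rw [← map_mul, ← map_mul, proj_eq, Subgroup.coe_mul, Subgroup.coe_mul] at e
      obtain ⟨s, hs, hse⟩ : ∃ s ∈ scalars ι F, x * (h : GL ι F) = (h : GL ι F) * x * s :=
        ⟨_, e, by group⟩
      have hy := O.conj_mem hh hx
      have e2 : (h : GL ι F) * x * (h : GL ι F)⁻¹ = x * s⁻¹ := by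
        rw [mul_inv_eq_iff_eq_mul, mul_assoc, scalar_comm (inv_mem hs), ← mul_assoc, hse, mul_inv_cancel_right]
      rcases D.comm _ hy x hx with e3 | e3
      · have hsq : x * s⁻¹ * (x * s⁻¹) = x * x := by
          rw [← e2, show (h : GL ι F) * x * (h : GL ι F)⁻¹ * ((h : GL ι F) * x * (h : GL ι F)⁻¹) =
            (h : GL ι F) * (x * x) * (h : GL ι F)⁻¹ by group]
          rcases D.sq x hx with e4 | e4 <;> rw [e4] <;> simp
        rw [mul_assoc, ← mul_assoc s⁻¹, scalar_comm (inv_mem hs) x, mul_assoc x, ← mul_assoc] at hsq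
        have hss : s * s = 1 := inv_eq_one.1 (by rw [_root_.mul_inv_rev]; exact mul_eq_left.1 hsq)
        obtain ⟨c, hc⟩ := (mem_scalars_iff s).1 hs
        have hc2 : (c : F) * c = 1 := by
          have := congrArg (fun u : GL ι F => mat u (Classical.arbitrary ι) (Classical.arbitrary ι)) hss
          simpa [hc, smul_smul] using this
        rcases mul_self_eq_one_iff.1 hc2 with hc' | hc'
        · exact Or.inl (by rw [hse, show s = 1 from Units.ext (by rw [hc, hc']; simp), mul_one])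
        · exact Or.inr (by rw [hse, show s = -1 from Units.ext (by rw [hc, hc']; simp), mul_neg, mul_one, neg_neg])
      · exfalso
        rw [e2, mul_assoc, scalar_comm (inv_mem hs)] at e3
        exact ne_neg D.two _ e3
    exact O.mem_barW.2 ⟨⟨w, O.mem_H hw⟩, hw, proj_eq.2 hws⟩
  · intro w hw hw1 g hg
    obtain ⟨x, hx, rfl⟩ := O.mem_barW.1 hw
    obtain ⟨h, rfl⟩ := hsurj g
    rw [← map_mul, ← map_mul, proj_eq, Subgroup.coe_mul, Subgroup.coe_mul] at hg
    refine O.mem_barN.2 (O.cent' h.2 hx (fun hs => hw1 (proj_eq_one.2 hs)) (inv_mem hg) ?_)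
    obtain ⟨e, he⟩ : ∃ e : GL ι F, e = ((h : GL ι F) * x)⁻¹ * ((x : GL ι F) * h) := ⟨_, rfl⟩
    rw [← he] at hg ⊢
    calc (h : GL ι F) * x * (h : GL ι F)⁻¹ = (x : GL ι F) * ((h : GL ι F) * e⁻¹) * (h : GL ι F)⁻¹ := by
          rw [he]; group
      _ = e⁻¹ * (x : GL ι F) := by
          rw [← scalar_comm (inv_mem hg) (h : GL ι F), ← mul_assoc, ← scalar_comm (inv_mem hg) (x : GL ι F),
            mul_inv_cancel_right]
  · intro v hv hv1 w hw g hg
    obtain ⟨x, hx, rfl⟩ := O.mem_barW.1 hv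
    obtain ⟨y, hy, rfl⟩ := O.mem_barW.1 hw
    obtain ⟨h, rfl⟩ := hsurj g
    rw [← map_inv, ← map_mul, ← map_mul, proj_eq] at hg
    simp only [Subgroup.coe_mul, Subgroup.coe_inv] at hg
    have hxns : (x : GL ι F) ∉ scalars ι F := fun hs => hv1 (proj_eq_one.2 hs)
    have hgs : (h : GL ι F) * x * (h : GL ι F)⁻¹ =
        (((h : GL ι F) * x * (h : GL ι F)⁻¹)⁻¹ * y)⁻¹ * y := by
      rw [scalar_comm (inv_mem hg) (y : GL ι F)]
      group
    obtain ⟨n, hn, s', hs', hns⟩ := O.fuse _ h.2 _ hx _ hy hxns _ (inv_mem hg) hgs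
    obtain ⟨d, hd, hde⟩ : ∃ d ∈ scalars ι F, (h : GL ι F) * x * (h : GL ι F)⁻¹ = d * y := ⟨_, inv_mem hg, hgs⟩
    have := O.cent' (H.mul_mem (O.low hn) h.2) hx hxns (mul_mem hd hs') (by
      rw [show n * (h : GL ι F) * x * (n * (h : GL ι F))⁻¹ = n * ((h : GL ι F) * x * (h : GL ι F)⁻¹) * n⁻¹ by group,
        hde, ← mul_assoc, ← scalar_comm hd n, mul_assoc d n, mul_assoc d, hns, mul_assoc])
    refine O.mem_barN.2 ?_
    simpa using mul_mem ((subgroupNormalizer R).inv_mem hn.1) this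
  · intro a ha b hb c hc
    obtain ⟨x, hx, rfl⟩ := O.mem_barW.1 ha
    obtain ⟨y, hy, rfl⟩ := O.mem_barW.1 hb
    obtain ⟨z, hz, rfl⟩ := O.mem_barW.1 hc
    rw [← map_mul, barBit_proj, barBit_proj, barBit_proj, Subgroup.coe_mul, D.bit_mul hx hy hz]
  · intro a _ b _
    exact bit_comm _ _
  · intro a _
    exact bit_self _
  · intro n _ a _ b _
    obtain ⟨m, rfl⟩ := hsurj n
    obtain ⟨x, rfl⟩ := hsurj a
    obtain ⟨y, rfl⟩ := hsurj b
    rw [← map_inv, ← map_mul, ← map_mul, ← map_mul, ← map_mul, barBit_proj, barBit_proj]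
    simp only [Subgroup.coe_mul, Subgroup.coe_inv, bit_conj]
  · intro a ha h
    obtain ⟨x, hx, rfl⟩ := O.mem_barW.1 ha
    refine proj_eq_one.2 (D.scalar_of_bit fun y hy => ?_)
    have := h (proj H ⟨y, O.mem_H hy⟩) (O.mem_barW.2 ⟨_, hy, rfl⟩)
    rwa [barBit_proj] at this
  · have hspan : Submodule.span F (matrixSet R) ≤
        Submodule.span F (Set.range fun a : barW H R => mat (((a : Q H).out : ↥H) : GL ι F)) := by
      rw [Submodule.span_le]
      rintro _ ⟨x, hx, rfl⟩
      obtain ⟨k, hk⟩ := QuotientGroup.mk_out_eq_mul ((scalars ι F).subgroupOf H) (⟨x, O.mem_H hx⟩ : ↥H)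
      obtain ⟨c, hc⟩ := (mem_scalars_iff _).1 (Subgroup.mem_subgroupOf.1 k.2)
      show mat x ∈ _
      have e : mat x = (c : F)⁻¹ • mat ((Quotient.out (proj H ⟨x, O.mem_H hx⟩) : ↥H) : GL ι F) := by
        rw [QuotientGroup.mk'_apply, hk, Subgroup.coe_mul, Units.val_mul, hc, Matrix.mul_smul, mul_one, smul_smul,
          inv_mul_cancel₀ c.ne_zero, one_smul]
      rw [e]
      exact Submodule.smul_mem _ _ (Submodule.subset_span ⟨⟨_, O.mem_barW.2 ⟨_, hx, rfl⟩⟩, rfl⟩)
    rw [CfsgLib.Aschbacher.span_eq_top_of_absIrred D.abs, top_le_iff] at hspan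
    haveI : Fintype (barW H R) := Fintype.ofFinite _
    have hle := finrank_range_le_card (R := F) fun a : barW H R => mat (((a : Q H).out : ↥H) : GL ι F)
    rw [Set.finrank, hspan, finrank_top, Module.finrank_matrix, Module.finrank_self, mul_one] at hle
    rw [Nat.card_eq_fintype_card]
    nlinarith [O.eight]
  · intro P K hPK hKW hiso hmax hcard
    by_contra hcon
    push Not at hcon
    obtain ⟨u, huK, huP⟩ : ∃ u ∈ K, u ∉ P := by
      by_contra h
      push Not at h
      have := Nat.le_of_dvd Nat.card_pos (Subgroup.card_dvd_of_le (show K ≤ P from h))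
      omega
    obtain ⟨u', hu'K, hu'P, huu⟩ : ∃ u' ∈ K, u' ∉ P ∧ u * u' ∉ P := by
      by_contra h
      push Not at h
      have hsub : (K : Set (Q H)) ⊆ (P : Set (Q H)) ∪ (fun p => u⁻¹ * p) '' (P : Set (Q H)) := fun k hk => by
        by_cases hkP : k ∈ P
        · exact Or.inl hkP
        · exact Or.inr ⟨u * k, h k hk hkP, inv_mul_cancel_left u k⟩
      have h1 := (Set.ncard_le_ncard hsub (Set.toFinite _)).trans (Set.ncard_union_le _ _)
      have h2 := Set.ncard_image_le (f := fun p => u⁻¹ * p) (Set.toFinite (P : Set (Q H)))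
      rw [← Nat.card_coe_set_eq] at h1
      simp only [← Nat.card_coe_set_eq] at h1 h2
      change Nat.card K ≤ Nat.card P + _ at h1
      change _ ≤ Nat.card P at h2
      omega
    have plus : ∀ k ∈ K, k ∉ P → ∀ x : ↥H, (x : GL ι F) ∈ R → proj H x = k →
        (x : GL ι F) * (x : GL ι F) = 1 := fun k hk hkP x hx hxk =>
      (D.sq _ hx).resolve_right fun e => hcon k hk hkP ⟨x, hx, e, hxk⟩
    obtain ⟨x, hx, hxu⟩ := O.mem_barW.1 (hKW huK)
    obtain ⟨x', hx', hxu'⟩ := O.mem_barW.1 (hKW hu'K)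
    refine huP (hmax u (hKW huK) fun p hp => ?_)
    obtain ⟨q, hq, hqp⟩ := O.mem_barW.1 (hKW (hPK hp))
    rw [← hxu, ← hqp, barBit_proj]
    refine bit_eq_zero.2 ?_
    -- every element outside `P` inverts `q`
    have inv' : ∀ k ∈ K, k ∉ P → ∀ z : ↥H, (z : GL ι F) ∈ R → proj H z = k →
        (z : GL ι F) * (q : GL ι F) * (z : GL ι F)⁻¹ = (q : GL ι F)⁻¹ := fun k hk hkP z hz hzk => by
      have hkp : k * p ∈ K := K.mul_mem hk (hPK hp)
      have hkpP : k * p ∉ P := fun h => hkP (by simpa using P.mul_mem h (P.inv_mem hp))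
      have e := plus _ hkp hkpP (z * q) (R.mul_mem hz hq) (by rw [map_mul, hzk, hqp])
      rw [inv_eq_of_mul_eq_one_right (plus k hk hkP z hz hzk)]
      exact eq_inv_of_mul_eq_one_left (by simpa [mul_assoc] using e)
    have e1 := inv' u huK huP x hx hxu
    have e2 := inv' u' hu'K hu'P x' hx' hxu'
    have e3 := inv' (u * u') (K.mul_mem huK hu'K) huu (x * x') (R.mul_mem hx hx') (by rw [map_mul, hxu, hxu'])
    rw [Subgroup.coe_mul, show (x : GL ι F) * (x' : GL ι F) * (q : GL ι F) * ((x : GL ι F) * (x' : GL ι F))⁻¹ =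
      (x : GL ι F) * ((x' : GL ι F) * (q : GL ι F) * (x' : GL ι F)⁻¹) * (x : GL ι F)⁻¹ by group, e2] at e3
    have e4 : (x : GL ι F) * (q : GL ι F)⁻¹ * (x : GL ι F)⁻¹ = ((q : GL ι F)⁻¹)⁻¹ :=
      (show (x : GL ι F) * (q : GL ι F)⁻¹ * (x : GL ι F)⁻¹ = ((x : GL ι F) * (q : GL ι F) * (x : GL ι F)⁻¹)⁻¹ by
        group).trans (congrArg (fun g : GL ι F => g⁻¹) e1)
    rw [e4, inv_inv] at e3
    rw [← e3] at e1
    exact mul_inv_eq_iff_eq_mul.1 e1
  · intro v hv hroot n hn hn2 hbit hne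
    obtain ⟨x, hx, hx2, rfl⟩ := hroot
    obtain ⟨m, rfl⟩ := hsurj n
    have hm := O.mem_barN.1 hn
    rw [← map_inv, ← map_mul, ← map_mul] at hbit hne ⊢
    rw [barBit_proj] at hbit
    simp only [Subgroup.coe_mul, Subgroup.coe_inv] at hbit
    obtain ⟨x', hx'e⟩ : ∃ x' : ↥H, x' = m * x * m⁻¹ := ⟨_, rfl⟩
    rw [← hx'e] at hne ⊢
    have hx'R : (x' : GL ι F) ∈ R := by rw [hx'e]; exact O.conj_mem hm hx
    have hx'c : (m : GL ι F) * x * (m : GL ι F)⁻¹ = x' := by rw [hx'e]; simp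
    have hx'2 : (x' : GL ι F) * (x' : GL ι F) = -1 := by
      rw [← hx'c, show (m : GL ι F) * x * (m : GL ι F)⁻¹ * ((m : GL ι F) * x * (m : GL ι F)⁻¹) =
        (m : GL ι F) * ((x : GL ι F) * x) * (m : GL ι F)⁻¹ by group, hx2]
      simp
    have hxns : (x : GL ι F) ∉ scalars ι F := fun hs => hne (by
      rw [proj_eq_one.2 hs, hx'e, map_mul, map_mul, proj_eq_one.2 hs, mul_one, map_inv, mul_inv_cancel])
    obtain ⟨t, t', γ, ht, ht', hγ, s, hs, hγs⟩ :=
      D.exists_pair O.amb hx hx'R hx2 hx'2 hxns ⟨m, Or.inl hx'c⟩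
    have hxx' : (x : GL ι F) * x' = x' * x := by rw [← hx'c]; exact bit_eq_zero.1 hbit
    have htt : t * t' = t' * t := by
      refine tv_comm ht (Eq.symm ?_)
      exact tv_comm ht' hxx'.symm
    have hmx' : (m : GL ι F) * x' * (m : GL ι F)⁻¹ = x := by
      have hmm : (m : GL ι F) * m ∈ scalars ι F := by
        rw [← map_mul, proj_eq_one] at hn2
        simpa using hn2
      rw [← hx'c, show (m : GL ι F) * ((m : GL ι F) * x * (m : GL ι F)⁻¹) * (m : GL ι F)⁻¹ =
        (m : GL ι F) * m * x * ((m : GL ι F) * m)⁻¹ by group, scalar_comm hmm, mul_inv_cancel_right]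
    have hγm : (m : GL ι F) * γ * (m : GL ι F)⁻¹ = γ := by
      rw [hγs, show (m : GL ι F) * (s * (t * t')) * (m : GL ι F)⁻¹ = ((m : GL ι F) * s) *
        ((t * t') * (m : GL ι F)⁻¹) by group, ← scalar_comm hs, mul_assoc s,
        show (m : GL ι F) * (t * t' * (m : GL ι F)⁻¹) = ((m : GL ι F) * t * (m : GL ι F)⁻¹) *
          ((m : GL ι F) * t' * (m : GL ι F)⁻¹) by group, tv_conj ht hx'c ht', tv_conj ht' hmx' ht, htt]
    refine ⟨proj H ⟨γ, O.low hγ⟩, O.mem_barN.2 hγ.1, ?_, ?_⟩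
    · rw [← map_mul, ← map_mul]
      exact congrArg _ (Subtype.ext (mul_inv_eq_iff_eq_mul.1 hγm).symm)
    intro a ha
    obtain ⟨y, hy, rfl⟩ := O.mem_barW.1 ha
    have hbx : barBit H (proj H y) (proj H x) = bit (y : GL ι F) x := barBit_proj y x
    have hbx' : barBit H (proj H y) (proj H x') = bit (y : GL ι F) x' := barBit_proj y x'
    rw [hbx, hbx', ← map_inv, ← map_mul, ← map_mul]
    have key : γ * (y : GL ι F) * γ⁻¹ = t * (t' * (y : GL ι F) * t'⁻¹) * t⁻¹ := by
      rw [hγs, show s * (t * t') * (y : GL ι F) * (s * (t * t'))⁻¹ =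
        s * (t * (t' * (y : GL ι F) * t'⁻¹) * t⁻¹) * s⁻¹ by group, scalar_comm hs, mul_inv_cancel_right]
    have c1 : ∀ {z : GL ι F}, z ∈ R → bit z x = 0 → t * z * t⁻¹ = z := fun {z} _ h => by
      rw [tv_comm ht (bit_eq_zero.1 h).symm, mul_inv_cancel_right]
    have a1 : ∀ {z : GL ι F}, z ∈ R → bit z x = 1 → t * z * t⁻¹ = x * z := fun {z} hz h => by
      rw [tv_anti ht hx2 ((D.bit_eq_one hx hz).1 (by rwa [bit_comm])), mul_inv_cancel_right]
    have c2 : bit (y : GL ι F) x' = 0 → t' * (y : GL ι F) * t'⁻¹ = y := fun h => by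
      rw [tv_comm ht' (bit_eq_zero.1 h).symm, mul_inv_cancel_right]
    have a2 : bit (y : GL ι F) x' = 1 → t' * (y : GL ι F) * t'⁻¹ = x' * y := fun h => by
      rw [tv_anti ht' hx'2 ((D.bit_eq_one hx'R hy).1 (by rwa [bit_comm])), mul_inv_cancel_right]
    have hb' : bit ((x' : GL ι F) * (y : GL ι F)) x = bit (y : GL ι F) x := by
      rw [D.bit_mul hx'R hy hx, bit_comm (x' : GL ι F), bit_eq_zero.2 hxx', zero_add]
    have hcW : ∀ a b : ↥H, (a : GL ι F) ∈ R → (b : GL ι F) ∈ R → proj H (a * b) = proj H (b * a) := by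
      intro a b ha hb
      rw [proj_eq, Subgroup.coe_mul, Subgroup.coe_mul]
      rcases D.comm _ ha _ hb with e | e <;> rw [e]
      · rw [inv_mul_cancel]; exact one_mem _
      · simpa using neg_one_mem_scalars
    rcases zmod_two (bit (y : GL ι F) x) with h1 | h1 <;> rcases zmod_two (bit (y : GL ι F) x') with h2 | h2
    · rw [h1, h2, if_neg zero_ne_one, if_neg zero_ne_one, mul_one, mul_one]
      exact congrArg _ (Subtype.ext (by simpa [key, c2 h2] using c1 hy h1))
    · rw [h1, h2, if_neg zero_ne_one, if_pos rfl, mul_one, ← map_mul, hcW y x' hy hx'R]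
      exact congrArg _ (Subtype.ext (by simpa [key, a2 h2] using c1 (R.mul_mem hx'R hy) (hb'.trans h1)))
    · rw [h1, h2, if_pos rfl, if_neg zero_ne_one, mul_one, ← map_mul, hcW y x hy hx]
      exact congrArg _ (Subtype.ext (by simpa [key, c2 h2] using a1 hy h1))
    · rw [h1, h2, if_pos rfl, if_pos rfl, ← map_mul, ← map_mul]
      refine (congrArg (proj H) (Subtype.ext (?_ : ((⟨γ, O.low hγ⟩ : ↥H) * y * (⟨γ, O.low hγ⟩ : ↥H)⁻¹ : ↥H).1
        = ((x * (x' * y) : ↥H) : GL ι F)))).trans ?_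
      · simpa [key, a2 h2] using a1 (R.mul_mem hx'R hy) (hb'.trans h1)
      · rw [map_mul, map_mul, map_mul, map_mul]
        have k1 : proj H x' * proj H y = proj H y * proj H x' := by
          rw [← map_mul, ← map_mul]; exact hcW x' y hx'R hy
        have k2 : proj H x * proj H y = proj H y * proj H x := by
          rw [← map_mul, ← map_mul]; exact hcW x y hx hy
        rw [k1, ← mul_assoc, k2]

set_option maxHeartbeats 1000000 in
/-- `H` normalises `R`. -/
theorem Over.le_normalizer [Finite F] : H ≤ subgroupNormalizer R := by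
  classical
  have D := O.data
  have P := O.pairing
  have S : Setup (barN H R) (barW H R) :=
    ⟨P.le, P.normal, P.comm, P.sq, P.self, P.cent, fun w hw hw1 g hg => P.closed hw hw1 hg⟩
  -- two commuting square roots of `-1`
  obtain ⟨a, ha, ha2, hna⟩ : ∃ a ∈ R, a * a = -1 ∧ a ∉ scalars ι F := by
    obtain ⟨x, hx, y, hy, hxns, hxy⟩ : ∃ x ∈ R, ∃ y ∈ R, x ∉ scalars ι F ∧ x * y = -(y * x) := by
      obtain ⟨x, hx, hxns⟩ : ∃ x ∈ R, x ∉ scalars ι F := by
        by_contra h
        push Not at h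
        have hle : Submodule.span F (matrixSet R) ≤ Submodule.span F {(1 : Matrix ι ι F)} := by
          rw [Submodule.span_le]
          rintro _ ⟨g, hg, rfl⟩
          obtain ⟨c, hc⟩ := (mem_scalars_iff g).1 (h g hg)
          show mat g ∈ _
          rw [hc]
          exact Submodule.smul_mem _ _ (Submodule.mem_span_singleton_self _)
        rw [CfsgLib.Aschbacher.span_eq_top_of_absIrred D.abs, top_le_iff] at hle
        have h1 : Module.finrank F ↥(Submodule.span F {(1 : Matrix ι ι F)}) = 1 :=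
          finrank_span_singleton one_ne_zero
        rw [hle, finrank_top, Module.finrank_matrix, Module.finrank_self, mul_one] at h1
        nlinarith [O.eight]
      obtain ⟨y, hy, h⟩ := D.exists_anti hx hxns
      exact ⟨x, hx, y, hy, hxns, h⟩
    rcases D.sq x hx with h1 | h1
    rotate_left
    · exact ⟨x, hx, h1, hxns⟩
    have hyns : y ∉ scalars ι F := fun h => ne_neg D.two _ ((scalar_comm h x).trans hxy)
    rcases D.sq y hy with h2 | h2
    rotate_left
    · exact ⟨y, hy, h2, hyns⟩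
    refine ⟨x * y, R.mul_mem hx hy, ?_, fun h => ?_⟩
    · rw [mul_assoc, ← mul_assoc y, ← neg_eq_iff_eq_neg.2 hxy, neg_mul, mul_assoc x y y, h2, mul_one, mul_neg, h1]
    · have e := scalar_comm h x
      rw [mul_assoc, ← neg_eq_iff_eq_neg.2 hxy, mul_neg, ← mul_assoc] at e
      exact ne_neg D.two _ e.symm
  obtain ⟨b, hb, hb2, hab, hnb, hab'⟩ : ∃ b ∈ R, b * b = -1 ∧ a * b = b * a ∧ b ∉ scalars ι F ∧
      a⁻¹ * b ∉ scalars ι F := by
    obtain ⟨w, hw, haw⟩ := D.exists_bit_one hna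
    have hawns : w ∉ scalars ι F := fun h => by
      rw [bit_comm, bit_eq_zero.2 (scalar_comm h a)] at haw
      exact zero_ne_one haw
    obtain ⟨o, ho, o', ho', e1, e2, e3, e4, e5⟩ := D.exists_orth_anti O.eight ha hw hna hawns (fun h => by
      have : bit (a⁻¹ * w) a = 0 := bit_eq_zero.2 (scalar_comm h a)
      rw [D.bit_mul (R.inv_mem ha) hw ha, bit_eq_zero.2 (Commute.inv_left (Commute.refl a)).eq, zero_add, bit_comm,
        haw] at this
      exact one_ne_zero this)
    have hns : ∀ z : GL ι F, bit z o' = 1 → z ∉ scalars ι F := fun z hz h => by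
      rw [bit_eq_zero.2 (scalar_comm h o')] at hz
      exact zero_ne_one hz
    have hao : a * o = o * a := (bit_eq_zero.1 e1).symm
    rcases D.sq o ho with h2 | h2
    · refine ⟨a * o, R.mul_mem ha ho, ?_, ?_, hns _ ?_, ?_⟩
      · rw [mul_assoc, ← mul_assoc o, ← hao, mul_assoc a o o, h2, mul_one, ha2]
      · rw [mul_assoc, ← hao]
      · rw [D.bit_mul ha ho ho', bit_comm a, e3, e5, zero_add]
      · rw [inv_mul_cancel_left]; exact hns o e5
    · refine ⟨o, ho, h2, hao, hns o e5, hns _ ?_⟩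
      rw [D.bit_mul (R.inv_mem ha) ho ho', e5]
      have hcomm : a * o' = o' * a := (bit_eq_zero.1 e3).symm
      rw [bit_eq_zero.2 (Commute.inv_left (hcomm : Commute a o')).eq, zero_add]
  obtain ⟨r, hr, -, hra, hrb⟩ := D.exists_root_anti O.eight ha hb hna hnb hab'
  obtain ⟨o, ho, o', ho', e1, e2, e3, e4, e5⟩ := D.exists_orth_anti O.eight ha hb hna hnb hab'
  obtain ⟨g, hg, c, hc, hgc⟩ := D.trans_root O.eight O.amb ha hb ha2 hb2 hna hnb
  have hconj : ∃ g : GL ι F, g * a * g⁻¹ = b ∨ g * a * g⁻¹ = -b := by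
    refine ⟨g, ?_⟩
    have hcc : c * c = 1 := by
      have h1 : g * a * g⁻¹ * (g * a * g⁻¹) = g * (a * a) * g⁻¹ := by group
      rw [hgc, ha2, mul_assoc, ← mul_assoc b, ← scalar_comm hc b, mul_assoc c b b, hb2, mul_neg, mul_one] at h1
      simpa using h1
    obtain ⟨k, hk⟩ := (mem_scalars_iff c).1 hc
    have hk2 : (k : F) * k = 1 := by
      have := congrArg (fun u : GL ι F => mat u (Classical.arbitrary ι) (Classical.arbitrary ι)) hcc
      simpa [hk, smul_smul] using this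
    rcases mul_self_eq_one_iff.1 hk2 with hk' | hk'
    · exact Or.inl (by rw [hgc, show c = 1 from Units.ext (by rw [hk, hk']; simp), one_mul])
    · exact Or.inr (by rw [hgc, show c = -1 from Units.ext (by rw [hk, hk']; simp), neg_one_mul])
  obtain ⟨t, t', γ, ht, ht', hγ, s, hs, hγs⟩ := D.exists_pair O.amb ha hb ha2 hb2 hna hconj
  have hrN : r ∈ subgroupNormalizer R ⊓ X := ⟨Subgroup.le_normalizer hr, O.amb.le hr⟩
  obtain ⟨σ, hσ, hσH⟩ : ∃ σ : GL ι F, σ = γ * r ∧ σ ∈ subgroupNormalizer R ⊓ X := ⟨_, rfl, mul_mem hγ hrN⟩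
  have htt : t * t' = t' * t := tv_comm ht (tv_comm ht' hab.symm).symm
  -- the action of `σ` on classes
  have hγconj : ∀ {w : GL ι F}, γ * w * γ⁻¹ = t * (t' * w * t'⁻¹) * t⁻¹ := fun {w} => by
    rw [hγs, show s * (t * t') * w * (s * (t * t'))⁻¹ = s * (t * (t' * w * t'⁻¹) * t⁻¹) * s⁻¹ by group,
      scalar_comm hs, mul_inv_cancel_right]
  have hσo : σ * o * σ⁻¹ = r * o * r⁻¹ := by
    have hro : r * o * r⁻¹ = o ∨ r * o * r⁻¹ = -o := by
      rcases D.comm r hr o ho with e | e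
      · exact Or.inl (by rw [e, mul_inv_cancel_right])
      · exact Or.inr (by rw [e, neg_mul, mul_inv_cancel_right])
    have hfix : γ * o * γ⁻¹ = o := by
      rw [hγconj, tv_comm ht' (bit_eq_zero.1 e2).symm, mul_inv_cancel_right, tv_comm ht (bit_eq_zero.1 e1).symm,
        mul_inv_cancel_right]
    rw [hσ, show γ * r * o * (γ * r)⁻¹ = γ * (r * o * r⁻¹) * γ⁻¹ by group]
    rcases hro with e | e <;> rw [e]
    · exact hfix
    · rw [mul_neg, neg_mul, hfix]
  have hdisp : ∀ w ∈ R, bit (σ * w * σ⁻¹ * w⁻¹) o' = 0 := by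
    intro w hw
    have hσw := O.conj_mem hσH.1 hw
    have hy : r * w * r⁻¹ ∈ R := R.mul_mem (R.mul_mem hr hw) (R.inv_mem hr)
    have hby : bit (r * w * r⁻¹) o' = bit w o' := by
      rcases D.comm r hr w hw with e | e
      · rw [e, mul_inv_cancel_right]
      · rw [e, neg_mul, mul_inv_cancel_right, ← neg_one_mul, bit_scalar_left neg_one_mem_scalars]
    have step : ∀ {z u : GL ι F}, u * u = -1 → u ∈ R → z ∈ R → bit u o' = 0 → ∀ {v : GL ι F},
        mat v = 1 + mat u → bit (v * z * v⁻¹) o' = bit z o' ∧ v * z * v⁻¹ ∈ R := by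
      intro z u hu2 huR hz hu v hv
      rcases D.comm u huR z hz with e | e
      · rw [tv_comm hv e, mul_inv_cancel_right]; exact ⟨rfl, hz⟩
      · rw [tv_anti hv hu2 e, mul_inv_cancel_right, D.bit_mul huR hz ho', hu, zero_add]
        exact ⟨rfl, R.mul_mem huR hz⟩
    obtain ⟨k1, k1'⟩ := step hb2 hb hy (by rw [bit_comm]; exact e4) ht'
    obtain ⟨k2, -⟩ := step ha2 ha k1' (by rw [bit_comm]; exact e3) ht
    have e : σ * w * σ⁻¹ = t * (t' * (r * w * r⁻¹) * t'⁻¹) * t⁻¹ := by rw [← hγconj, hσ]; group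
    rw [D.bit_mul hσw (R.inv_mem hw) ho', e, k2, k1, hby, ← D.bit_mul hw (R.inv_mem hw) ho', mul_inv_cancel,
      bit_eq_zero.2 (by simp)]
  have hσ2 : σ * σ ∈ scalars ι F := by
    have hA : ∀ {u v : GL ι F}, u ∈ R → u * u = -1 → bit r u = 1 → mat v = 1 + mat u →
        ∃ d ∈ scalars ι F, v * (r * v * r⁻¹) = d := by
      intro u v hu hu2 hru hv
      refine ⟨_, (mem_scalars_iff _).2 ⟨Units.mk0 2 D.two, ?_⟩, rfl⟩
      have e : r * u * r⁻¹ = -u := by
        rw [(D.bit_eq_one hr hu).1 hru, neg_mul, mul_inv_cancel_right]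
      have e' := congrArg mat e
      have hu2' := congrArg mat hu2
      simp only [Units.val_mul, Units.val_neg, Units.val_one] at e' hu2'
      simp only [Units.val_mul, hv, mul_add, add_mul, mul_one, one_mul, Units.mul_inv, e', mul_neg, Units.val_mk0]
      rw [hu2', two_smul]
      abel
    obtain ⟨d1, hd1, h1⟩ := hA ha ha2 hra ht
    obtain ⟨d2, hd2, h2⟩ := hA hb hb2 hrb ht'
    have hrr : r * r ∈ scalars ι F := by
      rcases D.sq r hr with e | e <;> rw [e]
      exacts [one_mem _, neg_one_mem_scalars]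
    have e : σ * σ = s * s * (d1 * d2) * (r * r) := by
      rw [hσ, hγs, ← h1, ← h2]
      have c1 : t' * (r * t * r⁻¹) = (r * t * r⁻¹) * t' := by
        refine tv_comm ht' ?_
        have e1' : r * a * r⁻¹ = -a := by rw [(D.bit_eq_one hr ha).1 hra, neg_mul, mul_inv_cancel_right]
        have : mat (r * t * r⁻¹) = 1 + mat (-a) := by
          rw [← e1']
          simp only [Units.val_mul, ht, mul_add, add_mul, mul_one, Units.mul_inv]
        refine (tv_comm this ?_).symm
        rw [neg_mul, mul_neg, hab]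
      calc s * (t * t') * r * (s * (t * t') * r)
          = s * ((t * t' * r) * s) * (t * t' * r) := by group
        _ = s * (s * (t * t' * r)) * (t * t' * r) := by rw [← scalar_comm hs (t * t' * r)]
        _ = s * s * (t * (t' * (r * t * r⁻¹)) * (r * t' * r⁻¹) * (r * r)) := by group
        _ = _ := by rw [c1]; group
    rw [e]
    exact mul_mem (mul_mem (mul_mem hs hs) (mul_mem hd1 hd2)) hrr
  intro g hgH
  have key : proj H ⟨g, hgH⟩ ∈ barN H R := by
    refine S.mem (s := proj H ⟨σ, O.low hσH⟩) (x := proj H ⟨o, O.mem_H ho⟩) (O.mem_barN.2 hσH.1) ?_ ?_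
      (O.mem_barW.2 ⟨_, ho, rfl⟩) ?_ ?_ ?_ _
    · rw [← map_mul]; exact proj_eq_one.2 hσ2
    · intro hW
      obtain ⟨w, hw, hwe⟩ := O.mem_barW.1 hW
      obtain ⟨z, hz, hza, hzb⟩ : ∃ z ∈ R, bit a z = 1 ∧ bit b z = 0 := by
        obtain ⟨ua, hua, -, -, h1, h2, -, -⟩ := D.exists_bits ha hb hna hnb hab'
        exact ⟨ua, hua, h1, h2⟩
      have e := proj_eq.1 hwe
      obtain ⟨k, hk, hσw⟩ : ∃ k ∈ scalars ι F, σ = (w : GL ι F) * k :=
        ⟨_, e, by simp⟩
      have e6 : σ * z * σ⁻¹ = z ∨ σ * z * σ⁻¹ = -z := by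
        rw [hσw, show (w : GL ι F) * k * z * ((w : GL ι F) * k)⁻¹ = (w : GL ι F) * (k * z * k⁻¹) * (w : GL ι F)⁻¹ by
          group, scalar_comm hk, mul_inv_cancel_right]
        rcases D.comm _ hw z hz with e' | e'
        · exact Or.inl (by rw [e', mul_inv_cancel_right])
        · exact Or.inr (by rw [e', neg_mul, mul_inv_cancel_right])
      have e7 : σ * z * σ⁻¹ = a * z ∨ σ * z * σ⁻¹ = -(a * z) := by
        have hγz : γ * z * γ⁻¹ = a * z := by
          rw [hγconj, tv_comm ht' (bit_eq_zero.1 hzb), mul_inv_cancel_right,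
            tv_anti ht ha2 ((D.bit_eq_one ha hz).1 hza), mul_inv_cancel_right]
        rw [hσ, show γ * r * z * (γ * r)⁻¹ = γ * (r * z * r⁻¹) * γ⁻¹ by group]
        rcases D.comm r hr z hz with e' | e'
        · exact Or.inl (by rw [e', mul_inv_cancel_right, hγz])
        · exact Or.inr (by rw [e', neg_mul, mul_inv_cancel_right, mul_neg, neg_mul, hγz])
      refine hna ?_
      rcases e6 with h6 | h6 <;> rcases e7 with h7 | h7 <;> rw [h7] at h6
      · rw [mul_eq_right] at h6; rw [h6]; exact one_mem _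
      · rw [← neg_mul, mul_eq_right, neg_eq_iff_eq_neg] at h6; rw [h6]; exact neg_one_mem_scalars
      · rw [← neg_one_mul z, mul_left_inj] at h6; rw [h6]; exact neg_one_mem_scalars
      · rw [neg_inj, mul_eq_right] at h6; rw [h6]; exact one_mem _
    · rw [← map_mul, ← map_mul, proj_eq]
      simp only [Subgroup.coe_mul]
      obtain ⟨d, hd, hdd⟩ : ∃ d ∈ scalars ι F, σ * o = d * (o * σ) := by
        rcases D.comm r hr o ho with e | e
        · refine ⟨1, one_mem _, ?_⟩
          rw [one_mul, ← mul_inv_eq_iff_eq_mul, hσo, e, mul_inv_cancel_right]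
        · refine ⟨-1, neg_one_mem_scalars, ?_⟩
          rw [neg_one_mul, ← neg_mul, ← mul_inv_eq_iff_eq_mul, hσo, e, neg_mul, mul_inv_cancel_right]
      rw [hdd, scalar_comm hd, inv_mul_cancel_left]
      exact hd
    · rintro ⟨w, hw, he⟩
      obtain ⟨y, hy, rfl⟩ := O.mem_barW.1 hw
      rw [← map_inv, ← map_inv, ← map_mul, ← map_mul, ← map_mul] at he
      have := barBit_proj (H := H) ⟨o, O.mem_H ho⟩ ⟨o', O.mem_H ho'⟩
      rw [he, barBit_proj] at this
      simp only [Subgroup.coe_mul, Subgroup.coe_inv] at this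
      rw [hdisp _ hy, e5] at this
      exact zero_ne_one this
    · intro h
      have h' := proj_eq_one.1 h
      rw [bit_eq_zero.2 (scalar_comm h' o')] at e5
      exact zero_ne_one e5
  exact O.mem_barN.1 key

end CfsgLib.SympType
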