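import Cfsg.Agent.SympType.Double

/-!
# Doubling in the special linear groups
-/

set_option autoImplicit false
set_option linter.unusedSectionVars false

namespace CfsgLib.SympType

open Matrix Cfsg.Geo

local notation:max "mat" => Units.val

variable {ι : Type} [Fintype ι] [DecidableEq ι] {F : Type*} [Field F] [Nonempty ι] {R : Subgroup (GL (ι ⊕ ι) F)}

/-- The data for doubling. -/
structure LinData (R : Subgroup (GL (ι ⊕ ι) F)) : Prop where
  split : Split R
  four : ∃ j ∈ small R, j ∈ scalars ι F ∧ j * j = -1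
  dvd : 4 ∣ Fintype.card ι
  small_le : small R ≤ specialLinear ι F

variable (L : LinData R)
include L

theorem LinData.doubling [Fintype F] : Doubling R (⊤ : Subgroup (GL ι F)) (⊤ : Subgroup (GL (ι ⊕ ι) F)) := by
  have h3 : 3 ≤ Fintype.card ι := by have := Nat.le_of_dvd Fintype.card_pos L.dvd; omega
  have D := L.split.data
  refine
    { split := L.split, four := L.four, dvd := L.dvd, small_le := fun a ha => ⟨trivial, L.small_le ha⟩,
      mem_bd := fun a b => ⟨fun _ => ⟨trivial, trivial⟩, fun _ => trivial⟩, sw_mem := trivial,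
      scaled := fun _ _ _ _ _ _ _ _ _ _ _ _ => trivial, simple := ?_, diag := ?_, blocks := ?_ }
  · intro K hn r hr hrS hns
    rw [top_inf_eq] at hn hrS ⊢
    exact specialLinear_le_of_normalized h3 hn hr hrS hns
  · intro r _ hrns hr2 a _
    obtain ⟨v₀, hv₀⟩ : ∃ w : ι → F, w + mat r *ᵥ w ≠ 0 := by
      by_contra h
      push Not at h
      refine hrns ((mem_scalars_iff r).2 ⟨-1, ?_⟩)
      refine Matrix.ext_iff_mulVec.2 fun w => ?_
      rw [Units.val_neg, Units.val_one, neg_smul, one_smul, neg_mulVec, one_mulVec]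
      exact eq_neg_of_add_eq_zero_right (h w)
    obtain ⟨v, hv⟩ : ∃ v, v = v₀ + mat r *ᵥ v₀ := ⟨_, rfl⟩
    have hrv : mat r *ᵥ v = v := by
      rw [hv, mulVec_add, mulVec_mulVec, ← Units.val_mul, hr2, Units.val_one, one_mulVec, add_comm]
    obtain ⟨i₀, hi₀⟩ : ∃ i, v i ≠ 0 := Function.ne_iff.1 (hv ▸ hv₀)
    obtain ⟨ψ, hψv⟩ : ∃ ψ : ι → F, ψ ⬝ᵥ v = 1 :=
      ⟨Pi.single i₀ (v i₀)⁻¹, by rw [single_dotProduct, inv_mul_cancel₀ hi₀]⟩
    obtain ⟨φ, hφ⟩ : ∃ φ : ι → F, φ = (2 : F)⁻¹ • (ψ + ψ ᵥ* mat r) := ⟨_, rfl⟩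
    have hφv : φ ⬝ᵥ v = 1 := by
      rw [hφ, smul_dotProduct, add_dotProduct, ← dotProduct_mulVec, hrv, hψv, smul_eq_mul, one_add_one_eq_two,
        inv_mul_cancel₀ D.two]
    have hφr : φ ᵥ* mat r = φ := by
      rw [hφ, smul_vecMul, add_vecMul, vecMul_vecMul, ← Units.val_mul, hr2, Units.val_one, vecMul_one, add_comm]
    have hA : ∀ d : F, d ≠ 0 → ∃ A : GL ι F, mat A = 1 + vecMulVec ((d - 1) • v) φ ∧ (mat A).det = d := by
      intro d hd
      have hdet : (1 + vecMulVec ((d - 1) • v) φ).det = d := by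
        rw [Matrix.vecMulVec_eq Unit, Matrix.det_one_add_replicateCol_mul_replicateRow, dotProduct_smul, hφv, smul_eq_mul,
          mul_one]
        ring
      exact ⟨Matrix.GeneralLinearGroup.mkOfDetNeZero _ (by rw [hdet]; exact hd), rfl, hdet⟩
    have hd0 : (mat a).det ≠ 0 := ((Matrix.isUnit_iff_isUnit_det _).1 a.isUnit).ne_zero
    obtain ⟨A, hA1, hA2⟩ := hA (mat a).det hd0
    obtain ⟨B, hB1, hB2⟩ := hA (mat a).det⁻¹ (inv_ne_zero hd0)
    refine ⟨A, trivial, B, trivial, hA2, by rw [hA2, hB2, mul_inv_cancel₀ hd0], Units.ext ?_, Units.ext ?_, ?_, ?_⟩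
    · rw [Units.val_mul, Units.val_mul, hA1, add_mul, mul_add, one_mul, mul_one, mul_vecMulVec, vecMulVec_mul,
        mulVec_smul, hrv, hφr]
    · rw [Units.val_mul, Units.val_mul, hB1, add_mul, mul_add, one_mul, mul_one, mul_vecMulVec, vecMulVec_mul,
        mulVec_smul, hrv, hφr]
    · rw [hA1, add_sub_cancel_left, Matrix.sub_mul, Matrix.one_mul, mul_vecMulVec, mulVec_smul, hrv, sub_self]
    · rw [hB1, add_sub_cancel_left, Matrix.sub_mul, Matrix.one_mul, mul_vecMulVec, mulVec_smul, hrv, sub_self]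
  · intro H hH hbd hsw g hg h1 h2
    rw [top_inf_eq] at hH hbd ⊢
    exact specialLinear_le_of_blocks h3 D.two hH hbd hsw hg h1 h2

/-- Maximality by doubling. -/
theorem LinData.isMaximalIn [Fintype F]
    (base : IsMaximalIn (specialLinear ι F) (subgroupNormalizer (small R) ⊓ specialLinear ι F)) :
    IsMaximalIn (specialLinear (ι ⊕ ι) F) (subgroupNormalizer R ⊓ specialLinear (ι ⊕ ι) F) := by
  have h := L.doubling.isMaximalIn (by simpa only [top_inf_eq] using base)
  simpa only [top_inf_eq] using h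

theorem LinData.le_sl [Fintype F] : R ≤ specialLinear (ι ⊕ ι) F := fun _ hx => (L.doubling.le_X hx).2

end CfsgLib.SympType
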