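import Cfsg.Prelude.Def_GeometricClasses
import Cfsg.Agent.Aschbacher.Basic
import Cfsg.Agent.SympFour.Data
import Mathlib

/-!
# Absolutely irreducible `2`-groups with squares and commutators `±1`

The commutation bit, and the elements `1 + z` for `z² = -1` acting as transvections.
-/

set_option autoImplicit false
set_option linter.unusedSectionVars false

namespace CfsgLib.SympType

open Matrix Cfsg.Geo
local notation:max "mat" => Units.val
open scoped commutatorElement

variable {ι : Type} [Fintype ι] [DecidableEq ι] {F : Type*} [Field F]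

/-- `R` is absolutely irreducible with squares and commutators `±1`. -/
structure Data (R : Subgroup (GL ι F)) : Prop where
  two : (2 : F) ≠ 0
  abs : ActsAbsolutelyIrreducibly (matrixSet R)
  neg : -1 ∈ R
  sq : ∀ x ∈ R, x * x = 1 ∨ x * x = -1
  comm : ∀ x ∈ R, ∀ y ∈ R, x * y = y * x ∨ x * y = -(y * x)

theorem ne_neg [Nonempty ι] (h2 : (2 : F) ≠ 0) (x : GL ι F) : x ≠ -x := fun e => by
  have h : (1 : Matrix ι ι F) = -1 := by
    simpa using congrArg (fun y : GL ι F => mat y * mat x⁻¹) e
  have h' := congrFun (congrFun h (Classical.arbitrary ι)) (Classical.arbitrary ι)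
  simp only [Matrix.one_apply_eq, Matrix.neg_apply] at h'
  exact h2 (by linear_combination h')

theorem scalar_comm {s : GL ι F} (hs : s ∈ scalars ι F) (g : GL ι F) : s * g = g * s := by
  obtain ⟨c, hc⟩ := (mem_scalars_iff s).1 hs
  exact Units.ext (by rw [Units.val_mul, Units.val_mul, hc, Matrix.smul_mul, Matrix.mul_smul, one_mul, mul_one])

theorem scalar_mem_normalizer {s : GL ι F} (hs : s ∈ scalars ι F) (R : Subgroup (GL ι F)) :
    s ∈ subgroupNormalizer R := by
  refine Subgroup.mem_normalizer_iff.2 fun x => ?_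
  rw [scalar_comm hs x, mul_inv_cancel_right]

theorem neg_one_mem_scalars : (-1 : GL ι F) ∈ scalars ι F :=
  (mem_scalars_iff _).2 ⟨-1, by simp⟩

/-- Squares and commutators of a group of symplectic type and exponent four are signs. -/
theorem Data.of_symplecticType [Nonempty ι] [Finite F] (h2 : (2 : F) ≠ 0) {R : Subgroup (GL ι F)}
    (hR : IsSymplecticTypeGroup 2 R) (habs : ActsAbsolutelyIrreducibly (matrixSet R)) : Data R := by
  have he : ∀ x : R, x ^ 4 = 1 := fun x => by
    have h := Monoid.pow_exponent_eq_one x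
    rwa [hR.exponent_eq] at h
  obtain ⟨hsqc, hcomc⟩ := CfsgLib.SympFour.sq_comm_central hR.pGroup hR.cyclic_of_characteristic he
  have hscal : ∀ z : R, z ∈ Subgroup.center R → ∃ c : F, mat (z : GL ι F) = c • 1 := fun z hz =>
    CfsgLib.SympFour.scalar_of_commute habs fun y hy =>
      congrArg (fun w : R => mat (w : GL ι F)) (Subgroup.mem_center_iff.1 hz ⟨y, hy⟩).symm
  have hinj : ∀ {a b : F}, a • (1 : Matrix ι ι F) = b • 1 → a = b := fun {a b} h => by
    simpa using congrFun (congrFun h (Classical.arbitrary ι)) (Classical.arbitrary ι)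
  have hsign : ∀ {c : F} {z : GL ι F}, mat z = c • 1 → c * c = 1 → z = 1 ∨ z = -1 := fun {c z} hz hc => by
    rcases mul_self_eq_one_iff.1 hc with rfl | rfl
    · exact Or.inl (Units.ext (by simpa using hz))
    · exact Or.inr (Units.ext (by simpa using hz))
  have hsq : ∀ x ∈ R, x * x = 1 ∨ x * x = -1 := fun x hx => by
    obtain ⟨c, hc⟩ := hscal _ (hsqc ⟨x, hx⟩)
    rw [SubgroupClass.coe_pow, pow_two] at hc
    refine hsign hc (hinj ?_)
    have h := congrArg (fun w : R => mat (w : GL ι F)) (he ⟨x, hx⟩)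
    simp only [SubgroupClass.coe_pow, OneMemClass.coe_one, Units.val_one] at h
    rw [show (x : GL ι F) ^ 4 = (x * x) * (x * x) by simp [pow_succ, mul_assoc], Units.val_mul, hc, Matrix.smul_mul, one_mul, smul_smul] at h
    rw [h, one_smul]
  have hcomm : ∀ x ∈ R, ∀ y ∈ R, x * y = y * x ∨ x * y = -(y * x) := fun x hx y hy => by
    obtain ⟨c, hc⟩ := hscal _ (hcomc ⟨x, hx⟩ ⟨y, hy⟩)
    obtain ⟨z, hz⟩ : ∃ z, z = x * y * x⁻¹ * y⁻¹ := ⟨_, rfl⟩
    replace hc : mat z = c • 1 := by rw [hz]; simpa [commutatorElement_def] using hc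
    have e : x * y = z * (y * x) := by rw [hz]; group
    have hzs : z ∈ scalars ι F := by
      refine (mem_scalars_iff z).2 ⟨Units.mk0 c ?_, hc⟩
      rintro rfl
      exact z.ne_zero (by rw [hc, zero_smul])
    have hzz : z * z = 1 := by
      obtain ⟨s, hs, hs'⟩ : ∃ s, s ∈ scalars ι F ∧ x * x = s := ⟨_, by
        rcases hsq x hx with h | h <;> rw [h]
        exacts [one_mem _, neg_one_mem_scalars], rfl⟩
      have e1 : x * x * y = z * z * (y * (x * x)) := by
        calc x * x * y = x * (x * y) := mul_assoc _ _ _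
          _ = (x * z) * (y * x) := by rw [e, mul_assoc]
          _ = (z * x) * (y * x) := by rw [scalar_comm hzs x]
          _ = z * ((x * y) * x) := by group
          _ = _ := by rw [e]; group
      rw [hs', scalar_comm hs y] at e1
      exact (mul_eq_right.1 e1.symm)
    have h := congrArg mat hzz
    simp only [Units.val_mul, hc, Units.val_one, Matrix.smul_mul, one_mul, smul_smul] at h
    rcases hsign hc (hinj (h.trans (one_smul _ _).symm)) with h' | h'
    · exact Or.inl (by rw [e, h', one_mul])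
    · exact Or.inr (by rw [e, h', neg_one_mul])
  refine ⟨h2, habs, ?_, hsq, hcomm⟩
  by_contra hneg
  have hexp : Monoid.exponent R ∣ 2 := Monoid.exponent_dvd_of_forall_pow_eq_one fun x => by
    refine Subtype.ext ?_
    rw [SubgroupClass.coe_pow, pow_two, OneMemClass.coe_one]
    exact (hsq _ x.2).resolve_right fun h => hneg (h ▸ R.mul_mem x.2 x.2)
  rw [hR.exponent_eq] at hexp
  exact absurd (Nat.le_of_dvd (by norm_num) hexp) (by norm_num)

open scoped Classical in
/-- The commutation bit. -/
noncomputable def bit (x y : GL ι F) : ZMod 2 := if x * y = y * x then 0 else 1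

theorem bit_eq_zero {x y : GL ι F} : bit x y = 0 ↔ x * y = y * x := by
  classical
  by_cases h : x * y = y * x <;> simp [bit, h]

theorem bit_self (x : GL ι F) : bit x x = 0 := bit_eq_zero.2 rfl

theorem bit_comm (x y : GL ι F) : bit x y = bit y x := by
  classical
  simp only [bit, eq_comm]

theorem bit_scalar_left {s : GL ι F} (hs : s ∈ scalars ι F) (x y : GL ι F) : bit (s * x) y = bit x y := by
  classical
  have : s * x * y = y * (s * x) ↔ x * y = y * x := by
    rw [mul_assoc, ← mul_assoc y s x, ← scalar_comm hs y, mul_assoc, mul_left_cancel_iff]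
  simp only [bit, this]

theorem bit_conj (n x y : GL ι F) : bit (n * x * n⁻¹) (n * y * n⁻¹) = bit x y := by
  classical
  have : n * x * n⁻¹ * (n * y * n⁻¹) = n * y * n⁻¹ * (n * x * n⁻¹) ↔ x * y = y * x := by
    rw [show n * x * n⁻¹ * (n * y * n⁻¹) = n * (x * y) * n⁻¹ by group,
      show n * y * n⁻¹ * (n * x * n⁻¹) = n * (y * x) * n⁻¹ by group, mul_left_inj, mul_right_inj]
  simp only [bit, this]

variable [Nonempty ι] {R : Subgroup (GL ι F)} (D : Data R)
include D

theorem Data.bit_eq_one {x y : GL ι F} (hx : x ∈ R) (hy : y ∈ R) : bit x y = 1 ↔ x * y = -(y * x) := by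
  classical
  rcases D.comm x hx y hy with h | h
  · rw [bit, if_pos h]
    exact iff_of_false (by decide) fun h' => ne_neg D.two _ (h.symm.trans h')
  · rw [bit, if_neg fun h' => ne_neg D.two _ (h'.symm.trans h)]
    exact iff_of_true rfl h

theorem Data.bit_mul {x y z : GL ι F} (hx : x ∈ R) (hy : y ∈ R) (hz : z ∈ R) :
    bit (x * y) z = bit x z + bit y z := by
  have hxy := R.mul_mem hx hy
  rcases D.comm x hx z hz with h1 | h1 <;> rcases D.comm y hy z hz with h2 | h2
  · rw [bit_eq_zero.2 h1, bit_eq_zero.2 h2, bit_eq_zero.2 (by rw [mul_assoc, h2, ← mul_assoc, h1, mul_assoc]),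
      add_zero]
  · rw [bit_eq_zero.2 h1, (D.bit_eq_one hy hz).2 h2,
      (D.bit_eq_one hxy hz).2 (by rw [mul_assoc, h2, mul_neg, ← mul_assoc, h1, mul_assoc]), zero_add]
  · rw [(D.bit_eq_one hx hz).2 h1, bit_eq_zero.2 h2,
      (D.bit_eq_one hxy hz).2 (by rw [mul_assoc, h2, ← mul_assoc, h1, neg_mul, mul_assoc]), add_zero]
  · rw [(D.bit_eq_one hx hz).2 h1, (D.bit_eq_one hy hz).2 h2,
      bit_eq_zero.2 (by rw [mul_assoc, h2, mul_neg, ← mul_assoc, h1, neg_mul, neg_neg, mul_assoc])]
    rfl

theorem Data.scalar_of_bit {x : GL ι F} (h : ∀ y ∈ R, bit x y = 0) : x ∈ scalars ι F := by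
  obtain ⟨c, hc⟩ := CfsgLib.SympFour.scalar_of_commute D.abs (M := mat x) fun y hy => by
    rw [← Units.val_mul, ← Units.val_mul, bit_eq_zero.1 (h y hy)]
  refine (mem_scalars_iff x).2 ⟨Units.mk0 c ?_, hc⟩
  rintro rfl
  exact x.ne_zero (by rw [show (x : Matrix ι ι F) = _ from hc, zero_smul])

theorem Data.scalar_of_comm {x : GL ι F} (h : ∀ y ∈ R, x * y = y * x) : x ∈ scalars ι F :=
  D.scalar_of_bit fun y hy => bit_eq_zero.2 (h y hy)

theorem Data.exists_anti {x : GL ι F} (hx : x ∈ R) (hns : x ∉ scalars ι F) : ∃ y ∈ R, x * y = -(y * x) := by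
  by_contra h
  push Not at h
  exact hns (D.scalar_of_comm fun y hy => (D.comm x hx y hy).resolve_right (h y hy))

/-- An element of the normaliser acting on the classes trivially is in a class. -/
theorem Data.inner {n : GL ι F} (h : ∀ x ∈ R, n * x = x * n ∨ n * x = -(x * n)) :
    ∃ w ∈ R, w⁻¹ * n ∈ scalars ι F := by
  classical
  obtain ⟨w, hw, htr⟩ : ∃ w ∈ R, (mat w⁻¹ * mat n).trace ≠ 0 := by
    by_contra hall
    push Not at hall
    have hall' : ∀ M ∈ matrixSet R, (M * mat n).trace = 0 := by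
      rintro _ ⟨y, hy, rfl⟩
      simpa using hall y⁻¹ (R.inv_mem hy)
    refine n.ne_zero (Matrix.ext fun i j => ?_)
    have hmem : Matrix.single j i (1 : F) ∈ Submodule.span F (matrixSet R) := by
      rw [CfsgLib.Aschbacher.span_eq_top_of_absIrred D.abs]
      trivial
    have key : ∀ M ∈ Submodule.span F (matrixSet R), (M * mat n).trace = 0 := fun M hM => by
      induction hM using Submodule.span_induction with
      | mem x hx => exact hall' x hx
      | zero => simp
      | add a b _ _ ha hb => rw [Matrix.add_mul, trace_add, ha, hb, add_zero]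
      | smul c a _ ha => rw [Matrix.smul_mul, trace_smul, ha, smul_zero]
    simpa [Matrix.trace, Matrix.mul_apply, Matrix.single, Finset.sum_ite_eq, ite_and] using key _ hmem
  refine ⟨w, hw, D.scalar_of_comm fun y hy => ?_⟩
  have hor : w⁻¹ * n * y = y * (w⁻¹ * n) ∨ w⁻¹ * n * y = -(y * (w⁻¹ * n)) := by
    rcases D.comm _ (R.inv_mem hw) y hy with h1 | h1 <;> rcases h y hy with h2 | h2
    · exact Or.inl (by rw [mul_assoc, h2, ← mul_assoc, h1, mul_assoc])
    · exact Or.inr (by rw [mul_assoc, h2, mul_neg, ← mul_assoc, h1, mul_assoc])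
    · exact Or.inr (by rw [mul_assoc, h2, ← mul_assoc, h1, neg_mul, mul_assoc])
    · exact Or.inl (by rw [mul_assoc, h2, mul_neg, ← mul_assoc, h1, neg_mul, neg_neg, mul_assoc])
  refine hor.resolve_right fun h' => htr ?_
  have h3 : y⁻¹ * (w⁻¹ * n) * y = -(w⁻¹ * n) := by rw [mul_assoc, h', mul_neg, ← mul_assoc, inv_mul_cancel, one_mul]
  have h4 := congrArg (fun g : GL ι F => (mat g).trace) h3
  simp only [Units.val_mul, Units.val_neg, trace_neg] at h4
  rw [Matrix.trace_units_conj'] at h4
  exact (mul_eq_zero.1 (by linear_combination h4 : (2 : F) * _ = 0)).resolve_left D.two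

omit D

variable {z t : GL ι F} (ht : mat t = 1 + mat z)
include ht

theorem tv_comm {x : GL ι F} (h : z * x = x * z) : t * x = x * t := Units.ext (by
  have h' := congrArg mat h
  simp only [Units.val_mul] at h'
  rw [Units.val_mul, Units.val_mul, ht, add_mul, mul_add, one_mul, mul_one, h'])

theorem tv_anti (hz : z * z = -1) {x : GL ι F} (h : z * x = -(x * z)) : t * x = z * x * t := Units.ext (by
  have h' := congrArg mat h
  have hz' := congrArg mat hz
  simp only [Units.val_mul, Units.val_neg, Units.val_one] at h' hz'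
  rw [Units.val_mul, Units.val_mul, Units.val_mul, ht, add_mul, mul_add, one_mul, mul_one]
  have : mat z * mat x * mat z = mat x := by
    rw [h', neg_mul, mul_assoc, hz', mul_neg, mul_one, neg_neg]
  rw [this, add_comm])

theorem tv_sq (hz : z * z = -1) : mat t * mat t = (2 : F) • mat z := by
  have hz' := congrArg mat hz
  simp only [Units.val_mul, Units.val_neg, Units.val_one] at hz'
  rw [ht, add_mul, mul_add, mul_add, one_mul, mul_one, one_mul, hz', two_smul]
  abel

theorem tv_conj {g z' t' : GL ι F} (hg : g * z * g⁻¹ = z') (ht' : mat t' = 1 + mat z') : g * t * g⁻¹ = t' :=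
  Units.ext (by
    rw [ht', ← hg]
    simp only [Units.val_mul, ht, mul_add, add_mul, mul_one, Units.mul_inv])

omit ht
include D

theorem Data.tv_normalizer (ht : mat t = 1 + mat z) (hz : z ∈ R) (hz2 : z * z = -1) : t ∈ subgroupNormalizer R := by
  have h : ∀ x ∈ R, t * x * t⁻¹ ∈ R := fun x hx => by
    rcases D.comm z hz x hx with h | h
    · rw [tv_comm ht h, mul_inv_cancel_right]; exact hx
    · rw [tv_anti ht hz2 h, mul_inv_cancel_right]; exact R.mul_mem hz hx
  refine Subgroup.mem_normalizer_iff.2 fun x => ⟨h x, fun hx => ?_⟩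
  obtain ⟨y, hy⟩ : ∃ y, y = t * x * t⁻¹ := ⟨_, rfl⟩
  rw [← hy] at hx
  rw [show x = t⁻¹ * y * t by rw [hy]; group]
  rcases D.comm z hz y hx with h' | h'
  · rw [mul_assoc, ← tv_comm ht h', inv_mul_cancel_left]; exact hx
  · have h'' : z * (z⁻¹ * y) = -(z⁻¹ * y * z) := by
      rw [mul_inv_cancel_left, mul_assoc, ← neg_eq_iff_eq_neg.2 h', mul_neg, inv_mul_cancel_left, neg_neg]
    rw [mul_assoc, show y * t = t * (z⁻¹ * y) by rw [tv_anti ht hz2 h'', mul_inv_cancel_left], inv_mul_cancel_left]
    exact R.mul_mem (R.inv_mem hz) hx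

theorem Data.exists_tv (hz : z * z = -1) : ∃ t : GL ι F, mat t = 1 + mat z := by
  have hz' := congrArg mat hz
  simp only [Units.val_mul, Units.val_neg, Units.val_one] at hz'
  refine ⟨⟨1 + mat z, (2 : F)⁻¹ • (1 - mat z), ?_, ?_⟩, rfl⟩ <;>
  · simp only [Matrix.mul_smul, Matrix.smul_mul, add_mul, mul_add, sub_mul, mul_sub, one_mul, mul_one, hz']
    match_scalars <;> field_simp [D.two] <;> ring

theorem Data.det_tv (ht : mat t = 1 + mat z) (hz : z ∈ R) (hns : z ∉ scalars ι F)
    {z' t' : GL ι F} (hc : ∃ g : GL ι F, g * z * g⁻¹ = z' ∨ g * z * g⁻¹ = -z') (ht' : mat t' = 1 + mat z') :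
    (mat t').det = (mat t).det := by
  obtain ⟨g, hg | hg⟩ := hc
  · rw [← tv_conj ht hg ht', Units.val_mul, Units.val_mul, det_units_conj]
  · obtain ⟨y, hy, hy'⟩ := D.exists_anti hz hns
    rw [← neg_eq_iff_eq_neg] at hy'
    refine (congrArg (fun u : GL ι F => (mat u).det) (tv_conj ht (g := g * y) ?_ ht')).symm.trans ?_
    · rw [_root_.mul_inv_rev, show g * y * z * (y⁻¹ * g⁻¹) = g * (y * z * y⁻¹) * g⁻¹ by group, ← hy', neg_mul,
        mul_inv_cancel_right, mul_neg, neg_mul, hg, neg_neg]
    · rw [Units.val_mul, Units.val_mul (g * y) t, det_units_conj]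

end CfsgLib.SympType
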