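import Cfsg.Agent.SympType.Blocks
import Cfsg.Agent.MaxSub.LinearDecomposition

/-!
# Overgroups of the two-block stabiliser in `SL (ι ⊕ ι)`
-/

set_option autoImplicit false
set_option linter.unusedSectionVars false

namespace CfsgLib.SympType

open Matrix Cfsg.Geo

local notation:max "mat" => Units.val

variable {ι : Type} [Fintype ι] [DecidableEq ι] {F : Type*} [Field F] [Fintype F]

theorem specialLinear_le_of_blocks (h3 : 3 ≤ Fintype.card ι) (h2 : (2 : F) ≠ 0) {H : Subgroup (GL (ι ⊕ ι) F)}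
    (hH : H ≤ specialLinear (ι ⊕ ι) F)
    (hbd : ∀ a b : GL ι F, bd (a, b) ∈ specialLinear (ι ⊕ ι) F → bd (a, b) ∈ H) (hsw : sw ∈ H)
    {g : GL (ι ⊕ ι) F} (hg : g ∈ H) (hne : g * sg * g⁻¹ ≠ sg) (hne' : g * sg * g⁻¹ ≠ -(sg : GL (ι ⊕ ι) F)) :
    specialLinear (ι ⊕ ι) F ≤ H := by
  classical
  let E : ι ⊕ ι ≃ Fin 2 × Fin (Fintype.card ι) :=
    (Equiv.sumCongr (Fintype.equivFin ι) (Fintype.equivFin ι)).trans
      ((Equiv.boolProdEquivSum _).symm.trans (Equiv.prodCongr finTwoEquiv.symm (Equiv.refl _)))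
  let φ : GL (ι ⊕ ι) F ≃* GL (Fin 2 × Fin (Fintype.card ι)) F :=
    Units.mapEquiv (Matrix.reindexAlgEquiv F F E).toMulEquiv
  have hφ : ∀ (g : GL (ι ⊕ ι) F) p r, mat (φ g) (E p) (E r) = mat g p r := fun g p r => by
    show (Matrix.reindexAlgEquiv F F E (mat g)) (E p) (E r) = _
    simp
  have hdet : ∀ g : GL (ι ⊕ ι) F, (mat (φ g)).det = (mat g).det := fun g => by
    show (Matrix.reindexAlgEquiv F F E (mat g)).det = _
    exact Matrix.det_reindexAlgEquiv F F E _
  have hSL : ∀ g : GL (ι ⊕ ι) F, g ∈ specialLinear (ι ⊕ ι) F ↔ (mat g).det = 1 := fun g =>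
    CfsgLib.Aschbacher.mem_specialLinear_iff
  have hl : ∀ i, (E (Sum.inl i)).1 = 0 := fun i => by simp [E, finTwoEquiv]
  have hr : ∀ i, (E (Sum.inr i)).1 = 1 := fun i => by simp [E, finTwoEquiv]
  have comm_of : ∀ g : GL (ι ⊕ ι) F, (∀ i j, mat g (Sum.inl i) (Sum.inr j) = 0) →
      (∀ i j, mat g (Sum.inr i) (Sum.inl j) = 0) → g * sg = sg * g := fun g h1 h2' => by
    refine Units.ext ?_
    have e1 : (mat g).toBlocks₁₂ = 0 := Matrix.ext h1
    have e2 : (mat g).toBlocks₂₁ = 0 := Matrix.ext h2'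
    rw [Units.val_mul, Units.val_mul, sg, bd_val, ← fromBlocks_toBlocks (mat g), e1, e2, fromBlocks_multiply,
      fromBlocks_multiply]
    simp
  have cases' : ∀ g : GL (ι ⊕ ι) F, CfsgLib.MaxSub.LinDecomp.BlockMono (φ g) →
      ∃ a b, g = bd (a, b) ∨ g = bd (a, b) * sw := by
    rintro g ⟨σ, hσ⟩
    have z : ∀ p r, (E p).1 ≠ σ (E r).1 → mat g p r = 0 := fun p r h => by
      by_contra hz
      exact h (hσ _ _ (by rw [hφ]; exact hz))
    rcases (by decide : ∀ σ : Equiv.Perm (Fin 2), σ 0 = 0 ∧ σ 1 = 1 ∨ σ 0 = 1 ∧ σ 1 = 0) σ with ⟨s0, s1⟩ | ⟨s0, s1⟩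
    · obtain ⟨a, b, e⟩ := exists_bd_of_comm h2 (comm_of g (fun i j => z _ _ (by rw [hl, hr, s1]; decide))
        (fun i j => z _ _ (by rw [hr, hl, s0]; decide)))
      exact ⟨a, b, Or.inl e⟩
    · obtain ⟨a, b, e⟩ := exists_bd_of_comm (g := g * sw) h2 (comm_of _
        (fun i j => by
          simp only [Units.val_mul, sw, Matrix.mul_apply, Fintype.sum_sum_type, fromBlocks_apply₁₂,
            fromBlocks_apply₂₂, Matrix.zero_apply, Matrix.one_apply, mul_zero, mul_ite, mul_one,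
            Finset.sum_const_zero, Finset.sum_ite_eq', Finset.mem_univ, if_true, add_zero]
          exact z _ _ (by rw [hl, hl, s0]; decide))
        (fun i j => by
          simp only [Units.val_mul, sw, Matrix.mul_apply, Fintype.sum_sum_type, fromBlocks_apply₁₁,
            fromBlocks_apply₂₁, Matrix.zero_apply, Matrix.one_apply, mul_zero, mul_ite, mul_one,
            Finset.sum_const_zero, Finset.sum_ite_eq', Finset.mem_univ, if_true, zero_add]
          exact z _ _ (by rw [hr, hr, s1]; decide)))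
      exact ⟨a, b, Or.inr (by rw [← e, mul_assoc, sw_sq, mul_one])⟩
  intro x hx
  have hmem : φ x ∈ H.map φ.toMonoidHom := by
    refine CfsgLib.MaxSub.specialLinear_le_of_forall_tv (M := H.map φ.toMonoidHom)
      (CfsgLib.MaxSub.LinDecomp.tv_mem_of_not_blockMono (by omega) (by omega) (by omega) ?_ ?_
        (g := φ g) ⟨g, hg, rfl⟩ ?_) ?_
    · intro y hy hy1
      obtain ⟨y, rfl⟩ := φ.surjective y
      refine ⟨y, ?_, rfl⟩
      have hyS : y ∈ specialLinear (ι ⊕ ι) F := (hSL y).2 (by rwa [hdet] at hy1)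
      obtain ⟨a, b, rfl | rfl⟩ := cases' y hy
      · exact hbd a b hyS
      · refine H.mul_mem (hbd a b ?_) hsw
        have := mul_mem hyS (inv_mem (hH hsw))
        rwa [mul_inv_cancel_right] at this
    · rintro _ ⟨y, hy, rfl⟩
      exact (hdet y).trans ((hSL y).1 (hH hy))
    · intro h
      obtain ⟨a, b, rfl | rfl⟩ := cases' g h
      · exact hne (by rw [← sg_comm_bd, mul_inv_cancel_right])
      · refine hne' ?_
        have e : sw * sg * (sw : GL (ι ⊕ ι) F)⁻¹ = -(sg : GL (ι ⊕ ι) F) := by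
          rw [sg, sw_conj, ← bd_neg, neg_neg]
        rw [show bd (a, b) * sw * sg * (bd (a, b) * sw)⁻¹ = bd (a, b) * (sw * sg * sw⁻¹) * (bd (a, b))⁻¹ by group,
          e, mul_neg, neg_mul, ← sg_comm_bd, mul_inv_cancel_right]
    · exact CfsgLib.Aschbacher.mem_specialLinear_iff.2 ((hdet x).trans ((hSL x).1 hx))
  obtain ⟨y, hy, hye⟩ := hmem
  exact φ.injective hye ▸ hy

end CfsgLib.SympType
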