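import Cfsg.Agent.SympType.Select

/-!
# The centraliser of a diagonal involution of `R` in an overgroup

`R ≤ GL (ι ⊕ ι)` contains `diag (1, -1)` and the swap; if the diagonal blocks of `H` normalise the small group
`{a : diag (a, a) ∈ R}` and there are enough elements `diag (δ, δ)` in `H`, the block-diagonal part of `H`
normalises `R`.
-/

set_option autoImplicit false
set_option linter.unusedSectionVars false

namespace CfsgLib.SympType

open Matrix Cfsg.Geo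
open scoped commutatorElement

local notation:max "mat" => Units.val

variable {ι : Type} [Fintype ι] [DecidableEq ι] {F : Type*} [Field F]

/-- Block-diagonal elements. -/
noncomputable def bd : GL ι F × GL ι F →* GL (ι ⊕ ι) F where
  toFun p := ⟨fromBlocks (mat p.1) 0 0 (mat p.2), fromBlocks (mat p.1⁻¹) 0 0 (mat p.2⁻¹),
    by simp [fromBlocks_multiply], by simp [fromBlocks_multiply]⟩
  map_one' := Units.ext (by simp)
  map_mul' p q := Units.ext (by simp [fromBlocks_multiply])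

theorem bd_val (a b : GL ι F) : mat (bd (a, b)) = fromBlocks (mat a) 0 0 (mat b) := rfl

theorem bd_mul (a b c d : GL ι F) : bd (a, b) * bd (c, d) = bd (a * c, b * d) := (map_mul bd _ _).symm

theorem bd_inv (a b : GL ι F) : (bd (a, b))⁻¹ = bd (a⁻¹, b⁻¹) := (map_inv bd _).symm

theorem bd_injective : Function.Injective (bd (ι := ι) (F := F)) := fun p q h => by
  have h' := fromBlocks_inj.1 (congrArg Units.val h)
  exact Prod.ext (Units.ext h'.1) (Units.ext h'.2.2.2)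

theorem bd_inj {a b c d : GL ι F} : bd (a, b) = bd (c, d) ↔ a = c ∧ b = d :=
  ⟨fun h => Prod.mk.injEq .. |>.mp (bd_injective h), fun ⟨h1, h2⟩ => by rw [h1, h2]⟩

theorem bd_neg (a b : GL ι F) : bd (-a, -b) = -bd (a, b) :=
  Units.ext (by simp [bd_val, fromBlocks_neg])

theorem bd_commutator (a b c d : GL ι F) : ⁅bd (a, b), bd (c, d)⁆ = bd (⁅a, c⁆, ⁅b, d⁆) := by
  simp only [commutatorElement_def, bd_mul, bd_inv]

/-- The involution `diag (1, -1)`. -/
noncomputable def sg : GL (ι ⊕ ι) F := bd (1, -1)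

/-- The swap. -/
noncomputable def sw : GL (ι ⊕ ι) F :=
  ⟨fromBlocks 0 1 1 0, fromBlocks 0 1 1 0, by simp [fromBlocks_multiply], by simp [fromBlocks_multiply]⟩

theorem sw_sq : (sw : GL (ι ⊕ ι) F) * sw = 1 := Units.ext (by simp [sw, fromBlocks_multiply])

theorem sw_inv : (sw : GL (ι ⊕ ι) F)⁻¹ = sw := inv_eq_of_mul_eq_one_right sw_sq

theorem sw_bd (a b : GL ι F) : sw * bd (a, b) = bd (b, a) * sw :=
  Units.ext (by simp [sw, bd_val, fromBlocks_multiply])

theorem sw_conj (a b : GL ι F) : sw * bd (a, b) * sw⁻¹ = bd (b, a) := by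
  rw [sw_bd, mul_inv_cancel_right]

theorem bd_sw_commutator (a b : GL ι F) : ⁅bd (a, b), sw⁆ = bd (a * b⁻¹, b * a⁻¹) := by
  rw [commutatorElement_def, bd_inv, mul_assoc (bd (a, b)), sw_bd, ← mul_assoc, bd_mul, mul_assoc, sw_inv, sw_sq,
    mul_one]

theorem sg_comm_bd (a b : GL ι F) : sg * bd (a, b) = bd (a, b) * sg := by
  simp [sg, bd_mul]

theorem exists_bd_of_comm (h2 : (2 : F) ≠ 0) {g : GL (ι ⊕ ι) F} (h : g * sg = sg * g) : ∃ a b, g = bd (a, b) := by
  obtain ⟨h', hh'⟩ : ∃ h', h' = g⁻¹ := ⟨_, rfl⟩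
  have hc : h' * sg = sg * h' := by rw [hh']; exact (Commute.inv_left (h : Commute g sg)).eq
  have off : ∀ {x : GL (ι ⊕ ι) F}, x * sg = sg * x → (mat x).toBlocks₁₂ = 0 ∧ (mat x).toBlocks₂₁ = 0 := by
    intro x hx
    have e := congrArg Units.val hx
    rw [Units.val_mul, Units.val_mul, sg, bd_val, ← fromBlocks_toBlocks (mat x), fromBlocks_multiply,
      fromBlocks_multiply, fromBlocks_inj] at e
    simp only [Units.val_one, Units.val_neg, Matrix.mul_zero, Matrix.zero_mul, add_zero, zero_add, Matrix.mul_one,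
      Matrix.one_mul, Matrix.mul_neg, Matrix.neg_mul] at e
    refine ⟨?_, ?_⟩
    · have e' := e.2.1
      rw [neg_eq_iff_add_eq_zero, ← two_smul F] at e'
      exact (smul_eq_zero.1 e').resolve_left h2
    · have e' := e.2.2.1
      rw [eq_neg_iff_add_eq_zero, ← two_smul F] at e'
      exact (smul_eq_zero.1 e').resolve_left h2
  obtain ⟨g12, g21⟩ := off h
  obtain ⟨i12, i21⟩ := off hc
  have key : ∀ {x y : GL (ι ⊕ ι) F}, x * y = 1 → (mat x).toBlocks₁₂ = 0 → (mat y).toBlocks₁₂ = 0 →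
      (mat x).toBlocks₂₁ = 0 → (mat y).toBlocks₂₁ = 0 →
      (mat x).toBlocks₁₁ * (mat y).toBlocks₁₁ = 1 ∧ (mat x).toBlocks₂₂ * (mat y).toBlocks₂₂ = 1 := by
    intro x y hxy a b c d
    have e := congrArg Units.val hxy
    rw [Units.val_mul, Units.val_one, ← fromBlocks_toBlocks (mat x), ← fromBlocks_toBlocks (mat y), a, b, c, d,
      fromBlocks_multiply, ← fromBlocks_one, fromBlocks_inj] at e
    simpa using And.intro e.1 e.2.2.2
  have k1 := key (show g * h' = 1 by rw [hh', mul_inv_cancel]) g12 i12 g21 i21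
  have k2 := key (show h' * g = 1 by rw [hh', inv_mul_cancel]) i12 g12 i21 g21
  refine ⟨⟨_, _, k1.1, k2.1⟩, ⟨_, _, k1.2, k2.2⟩, Units.ext ?_⟩
  rw [bd_val]
  conv_lhs => rw [← fromBlocks_toBlocks (mat g), g12, g21]

theorem neg_scalar {c : GL ι F} (hc : c ∈ scalars ι F) : -c ∈ scalars ι F := by
  rw [← neg_one_mul]
  exact mul_mem neg_one_mem_scalars hc

theorem commutatorElement_scalar_left {c : GL ι F} (hc : c ∈ scalars ι F) (x : GL ι F) : ⁅c, x⁆ = 1 :=
  commutatorElement_eq_one_iff_mul_comm.2 (scalar_comm hc x)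

/-- The small group. -/
noncomputable def small (R : Subgroup (GL (ι ⊕ ι) F)) : Subgroup (GL ι F) :=
  R.comap (bd.comp ((MonoidHom.id _).prod (MonoidHom.id _)))

theorem mem_small {R : Subgroup (GL (ι ⊕ ι) F)} {a : GL ι F} : a ∈ small R ↔ bd (a, a) ∈ R := Iff.rfl

variable [Nonempty ι]

/-- `R` has the diagonal involution and the swap. -/
structure Split (R : Subgroup (GL (ι ⊕ ι) F)) : Prop where
  data : Data R
  sg_mem : sg ∈ R
  sw_mem : sw ∈ R

variable {R : Subgroup (GL (ι ⊕ ι) F)} (S : Split R)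
include S

theorem Split.comm_cases {x : GL (ι ⊕ ι) F} (hx : x ∈ R) (h : x * sg = sg * x) :
    ∃ a ∈ small R, x = bd (a, a) ∨ x = bd (a, -a) := by
  obtain ⟨a, b, rfl⟩ := exists_bd_of_comm S.data.two h
  have hab : b = a ∨ b = -a := by
    rcases S.data.comm _ hx _ S.sw_mem with e | e
    · left
      rw [sw_bd, mul_left_inj, bd_inj] at e
      exact e.2
    · right
      rw [sw_bd, ← neg_mul, mul_left_inj, ← bd_neg, bd_inj] at e
      exact e.2
  rcases hab with rfl | rfl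
  · exact ⟨b, hx, Or.inl rfl⟩
  · refine ⟨a, ?_, Or.inr rfl⟩
    rw [mem_small, show bd (a, a) = bd (a, -a) * sg by simp [sg, bd_mul]]
    exact R.mul_mem hx S.sg_mem

theorem Split.sign_mem {a : GL ι F} (ha : a ∈ small R) : bd (a, -a) ∈ R := by
  rw [show bd (a, -a) = bd (a, a) * sg by simp [sg, bd_mul]]
  exact R.mul_mem ha S.sg_mem

theorem Split.decompose {x : GL (ι ⊕ ι) F} (hx : x ∈ R) :
    ∃ a ∈ small R, x = bd (a, a) ∨ x = bd (a, -a) ∨ x = bd (a, a) * sw ∨ x = bd (a, -a) * sw := by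
  have hsgsw : (sg : GL (ι ⊕ ι) F) * sw = -(sw * sg) := by
    rw [sg, sw_bd, ← neg_mul, ← bd_neg, neg_neg]
  rcases S.data.comm x hx _ S.sg_mem with e | e
  · obtain ⟨a, ha, h | h⟩ := S.comm_cases hx e
    exacts [⟨a, ha, Or.inl h⟩, ⟨a, ha, Or.inr (Or.inl h)⟩]
  · obtain ⟨a, ha, h | h⟩ := S.comm_cases (R.mul_mem hx S.sw_mem) (by
      rw [mul_assoc, show (sw : GL (ι ⊕ ι) F) * sg = -(sg * sw) by rw [hsgsw, neg_neg], mul_neg, ← mul_assoc, e,
        neg_mul, neg_neg, mul_assoc])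
    · exact ⟨a, ha, Or.inr (Or.inr (Or.inl (by rw [← h, mul_assoc, sw_sq, mul_one])))⟩
    · exact ⟨a, ha, Or.inr (Or.inr (Or.inr (by rw [← h, mul_assoc, sw_sq, mul_one])))⟩

/-- Criterion for normalising `R`. -/
theorem Split.mem_normalizer [Finite F] {g : GL (ι ⊕ ι) F} (h0 : ∀ a ∈ small R, g * bd (a, a) * g⁻¹ ∈ R)
    (h1 : g * sg * g⁻¹ ∈ R) (h2 : g * sw * g⁻¹ ∈ R) : g ∈ subgroupNormalizer R := by
  have hle : R.map (MulAut.conj g).toMonoidHom ≤ R := by
    rintro _ ⟨x, hx, rfl⟩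
    have hm : ∀ u v, g * u * g⁻¹ ∈ R → g * v * g⁻¹ ∈ R → g * (u * v) * g⁻¹ ∈ R := fun u v hu hv => by
      rw [show g * (u * v) * g⁻¹ = g * u * g⁻¹ * (g * v * g⁻¹) by group]; exact R.mul_mem hu hv
    have hs : ∀ a ∈ small R, g * bd (a, -a) * g⁻¹ ∈ R := fun a ha => by
      rw [show bd (a, -a) = bd (a, a) * sg by simp [sg, bd_mul]]; exact hm _ _ (h0 a ha) h1
    show g * x * g⁻¹ ∈ R
    obtain ⟨a, ha, rfl | rfl | rfl | rfl⟩ := S.decompose hx
    exacts [h0 a ha, hs a ha, hm _ _ (h0 a ha) h2, hm _ _ (hs a ha) h2]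
  have heq : R.map (MulAut.conj g).toMonoidHom = R := Subgroup.eq_of_le_of_card_ge hle
    (le_of_eq (Nat.card_congr (R.equivMapOfInjective _ (MulAut.conj g).injective).toEquiv))
  refine Subgroup.mem_normalizer_iff.2 fun x => ⟨fun hx => hle ⟨x, hx, rfl⟩, fun hx => ?_⟩
  rw [← heq] at hx
  obtain ⟨y, hy, hye⟩ := hx
  simp at hye
  rwa [← hye]

theorem Split.small_data : Data (small R) where
  two := S.data.two
  neg := by rw [mem_small, bd_neg, show bd ((1 : GL ι F), (1 : GL ι F)) = 1 from map_one bd]; exact S.data.neg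
  sq x hx := by
    rcases S.data.sq _ (mem_small.1 hx) with e | e
    · left; rw [bd_mul, ← map_one bd] at e; exact congrArg Prod.fst (bd_injective e)
    · right
      rw [bd_mul, ← map_one bd, ← Prod.mk_one_one, ← bd_neg, bd_inj] at e
      exact e.1
  comm x hx y hy := by
    rcases S.data.comm _ (mem_small.1 hx) _ (mem_small.1 hy) with e | e
    · left; rw [bd_mul, bd_mul, bd_inj] at e; exact e.1
    · right; rw [bd_mul, bd_mul, ← bd_neg, bd_inj] at e; exact e.1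
  abs := by
    have hblock : ∀ (s : GL ι F), mat (bd (s, s)) = fromBlocks (mat s) 0 0 (mat s) := fun s => rfl
    refine ⟨fun U hU => ?_, fun M hM => ?_⟩
    · let U2 : Submodule F (ι ⊕ ι → F) :=
        U.comap (LinearMap.funLeft F F Sum.inl) ⊓ U.comap (LinearMap.funLeft F F Sum.inr)
      have hmem : ∀ v : ι ⊕ ι → F, v ∈ U2 ↔ v ∘ Sum.inl ∈ U ∧ v ∘ Sum.inr ∈ U := fun v => Iff.rfl
      have hR : ∀ s ∈ matrixSet R, U2.map (Matrix.toLin' s) ≤ U2 := by
        rintro _ ⟨x, hx, rfl⟩ _ ⟨v, hv, rfl⟩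
        obtain ⟨hv1, hv2⟩ := (hmem v).1 hv
        have hsm : ∀ (a : GL ι F), a ∈ small R → ∀ w ∈ U, mat a *ᵥ w ∈ U := fun a ha w hw => by
          have := hU (mat a) ⟨a, ha, rfl⟩ ⟨w, hw, rfl⟩
          rwa [Matrix.toLin'_apply] at this
        rw [hmem, Matrix.toLin'_apply]
        obtain ⟨a, ha, rfl | rfl | rfl | rfl⟩ := S.decompose hx <;>
          simp [bd_val, sw, fromBlocks_multiply, fromBlocks_mulVec, hsm a ha _ hv1, hsm a ha _ hv2,
            Matrix.neg_mulVec, U.neg_mem_iff]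
      rcases S.data.abs.1 U2 hR with h | h
      · left
        rw [eq_bot_iff] at h ⊢
        intro v hv
        have hm : Sum.elim v 0 ∈ U2 := (hmem _).2 ⟨by simpa using hv, by simp⟩
        have := congrArg (fun f : ι ⊕ ι → F => f ∘ Sum.inl) ((Submodule.mem_bot F).1 (h hm))
        simpa using this
      · right
        rw [eq_top_iff] at h ⊢
        intro v _
        have := ((hmem (Sum.elim v 0)).1 (h trivial)).1
        simpa using this
    · obtain ⟨c, hc⟩ := S.data.abs.2 (fromBlocks M 0 0 M) (by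
        rintro _ ⟨x, hx, rfl⟩
        have hsm : ∀ a ∈ small R, M * mat a = mat a * M := fun a ha => hM _ ⟨a, ha, rfl⟩
        obtain ⟨a, ha, rfl | rfl | rfl | rfl⟩ := S.decompose hx <;>
          simp [bd_val, sw, fromBlocks_multiply, hsm a ha])
      refine ⟨c, ?_⟩
      rw [← fromBlocks_one, fromBlocks_smul] at hc
      exact (fromBlocks_inj.1 hc).1

omit S

/-- The hypotheses for the centraliser of `diag (1, -1)`. -/
structure CentData (R H : Subgroup (GL (ι ⊕ ι) F)) : Prop where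
  split : Split R
  le : R ≤ H
  proj : ∀ a b : GL ι F, bd (a, b) ∈ H → a ∈ subgroupNormalizer (small R)
  right_mem : ∀ r ∈ small R, bd (1, r) ∈ H
  trans : ∀ r ∈ small R, r ∉ scalars ι F → r * r = 1 →
    ∃ m ∈ subgroupNormalizer R ⊓ H,
      m * bd (r, r) * m⁻¹ = sg ∨ m * bd (r, r) * m⁻¹ = -(sg : GL (ι ⊕ ι) F)

variable {H : Subgroup (GL (ι ⊕ ι) F)} (C : CentData R H)
include C

theorem CentData.proj₂ {a b : GL ι F} (h : bd (a, b) ∈ H) :
    a ∈ subgroupNormalizer (small R) ∧ b ∈ subgroupNormalizer (small R) := by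
  refine ⟨C.proj a b h, C.proj b a ?_⟩
  rw [← sw_conj]
  exact H.mul_mem (H.mul_mem (C.le C.split.sw_mem) h) (H.inv_mem (C.le C.split.sw_mem))

theorem CentData.double {g : GL (ι ⊕ ι) F} (hg : g ∈ H) (hgt : g * sg = sg * g) {x₁ x₂ : GL (ι ⊕ ι) F}
    (h₁ : x₁ ∈ R) (h₁t : x₁ * sg = sg * x₁) (h₂ : x₂ ∈ R) (h₂t : x₂ * sg = sg * x₂) :
    ⁅⁅g, x₁⁆, x₂⁆ = 1 ∨ ⁅⁅g, x₁⁆, x₂⁆ = -1 ∨ ⁅⁅g, x₁⁆, x₂⁆ = sg ∨ ⁅⁅g, x₁⁆, x₂⁆ = -(sg : GL (ι ⊕ ι) F) := by
  have D' := C.split.small_data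
  obtain ⟨A, B, rfl⟩ := exists_bd_of_comm C.split.data.two hgt
  obtain ⟨hA, hB⟩ := C.proj₂ hg
  obtain ⟨a, ha, hx₁⟩ := C.split.comm_cases h₁ h₁t
  obtain ⟨c, hc, hx₂⟩ := C.split.comm_cases h₂ h₂t
  obtain ⟨a', b', hx₁', ha', hb'⟩ : ∃ a' b', x₁ = bd (a', b') ∧ a' ∈ small R ∧ b' ∈ small R := by
    rcases hx₁ with h | h
    · exact ⟨a, a, h, ha, ha⟩
    · exact ⟨a, -a, h, ha, by rw [← neg_one_mul]; exact (small R).mul_mem D'.neg ha⟩
  obtain ⟨c', d', hx₂', hc', hd'⟩ : ∃ c' d', x₂ = bd (c', d') ∧ c' ∈ small R ∧ d' ∈ small R := by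
    rcases hx₂ with h | h
    · exact ⟨c, c, h, hc, hc⟩
    · exact ⟨c, -c, h, hc, by rw [← neg_one_mul]; exact (small R).mul_mem D'.neg hc⟩
  have sgn : ∀ {u v : GL ι F}, u ∈ small R → v ∈ small R → ⁅u, v⁆ = 1 ∨ ⁅u, v⁆ = -1 := fun {u v} hu hv => by
    rcases D'.comm u hu v hv with e | e
    · exact Or.inl (commutatorElement_eq_one_iff_mul_comm.2 e)
    · right
      rw [commutatorElement_def, e, mul_assoc, ← _root_.mul_inv_rev, neg_mul, mul_inv_cancel]
  have hcomm : ∀ {u v : GL ι F}, u ∈ subgroupNormalizer (small R) → v ∈ small R → ⁅u, v⁆ ∈ small R :=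
    fun {u v} hu hv => (small R).mul_mem ((Subgroup.mem_normalizer_iff.1 hu v).1 hv) ((small R).inv_mem hv)
  rw [hx₁', hx₂', bd_commutator, bd_commutator]
  rcases sgn (hcomm hA ha') hc' with e₁ | e₁ <;> rcases sgn (hcomm hB hb') hd' with e₂ | e₂ <;> rw [e₁, e₂]
  · exact Or.inl (map_one bd)
  · exact Or.inr (Or.inr (Or.inl rfl))
  · exact Or.inr (Or.inr (Or.inr (by rw [sg, ← bd_neg, neg_neg])))
  · exact Or.inr (Or.inl (by rw [bd_neg]; exact congrArg _ (map_one bd)))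

/-- The transferred double commutator. -/
theorem CentData.double' {g : GL (ι ⊕ ι) F} (hg : g ∈ H) {r : GL ι F} (hr : r ∈ small R) (hns : r ∉ scalars ι F)
    (hr2 : r * r = 1) (hgr : g * bd (r, r) = bd (r, r) * g) {x₁ x₂ : GL (ι ⊕ ι) F}
    (h₁ : x₁ ∈ R) (h₁t : x₁ * bd (r, r) = bd (r, r) * x₁) (h₂ : x₂ ∈ R) (h₂t : x₂ * bd (r, r) = bd (r, r) * x₂) :
    ⁅⁅g, x₁⁆, x₂⁆ = 1 ∨ ⁅⁅g, x₁⁆, x₂⁆ = -1 ∨ ⁅⁅g, x₁⁆, x₂⁆ = bd (r, r) ∨ ⁅⁅g, x₁⁆, x₂⁆ = -bd (r, r) := by
  obtain ⟨m, hm, hms⟩ := C.trans r hr hns hr2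
  obtain ⟨φ, hφ⟩ : ∃ φ : GL (ι ⊕ ι) F ≃* GL (ι ⊕ ι) F, φ = MulAut.conj m := ⟨_, rfl⟩
  have hφx : ∀ x, φ x = m * x * m⁻¹ := fun x => by rw [hφ]; rfl
  have hneg : ∀ x, φ (-x) = -φ x := fun x => by rw [hφx, hφx, mul_neg, neg_mul]
  have hR : ∀ {x}, x ∈ R → φ x ∈ R := fun {x} hx => by
    rw [hφx]; exact (Subgroup.mem_normalizer_iff.1 hm.1 x).1 hx
  have hcom : ∀ {x}, x * bd (r, r) = bd (r, r) * x → φ x * sg = sg * φ x := fun {x} hx => by
    have e := congrArg φ hx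
    rw [map_mul, map_mul, hφx (bd (r, r))] at e
    rcases hms with h | h <;> rw [h] at e
    · exact e
    · rwa [mul_neg, neg_mul, neg_inj] at e
  have hgm : φ g ∈ H := by rw [hφx]; exact H.mul_mem (H.mul_mem hm.2 hg) (H.inv_mem hm.2)
  have hd := C.double hgm (hcom hgr) (hR h₁) (hcom h₁t) (hR h₂) (hcom h₂t)
  rw [← map_commutatorElement, ← map_commutatorElement] at hd
  have hone : φ (-1) = -1 := by rw [hneg, map_one]
  have hpm : ∀ {y}, φ y = sg → y = bd (r, r) ∨ y = -bd (r, r) := fun {y} hy => by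
    rcases hms with h | h
    · exact Or.inl (φ.injective (by rw [hy, hφx, h]))
    · exact Or.inr (φ.injective (by rw [hy, hneg, hφx, h, neg_neg]))
  rcases hd with e | e | e | e
  · exact Or.inl (φ.injective (e.trans (map_one φ).symm))
  · exact Or.inr (Or.inl (φ.injective (e.trans hone.symm)))
  · exact Or.inr (Or.inr (hpm e))
  · rcases hpm (y := -⁅⁅g, x₁⁆, x₂⁆) (by rw [hneg, e, neg_neg]) with h | h
    · exact Or.inr (Or.inr (Or.inr (neg_eq_iff_eq_neg.1 h)))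
    · exact Or.inr (Or.inr (Or.inl (neg_inj.1 h)))

/-- No element `diag (c, n)` with scalar `c` fixes `r` and moves a class orthogonal to `r` by a class other
than that of `r`. -/
theorem CentData.key {c n : GL ι F} (hg : bd (c, n) ∈ H) (hc : c ∈ scalars ι F) {r x : GL ι F} (hr : r ∈ small R)
    (hns : r ∉ scalars ι F) (hr2 : r * r = 1) (hnr : n * r = r * n) (hx : x ∈ small R) (hxr : x * r = r * x) :
    ⁅n, x⁆ ∈ scalars ι F ∨ r * ⁅n, x⁆ ∈ scalars ι F := by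
  have hd := C.double' hg hr hns hr2 (by rw [bd_mul, bd_mul, hnr, scalar_comm hc r]) (x₁ := bd (x, x)) hx
    (by rw [bd_mul, bd_mul, hxr]) (x₂ := sw) C.split.sw_mem (sw_bd r r)
  rw [bd_commutator, commutatorElement_scalar_left hc, bd_sw_commutator, one_mul, inv_one, mul_one] at hd
  rcases hd with e | e | e | e
  · rw [← map_one bd, ← Prod.mk_one_one, bd_inj] at e
    exact Or.inl (e.2 ▸ one_mem _)
  · rw [← map_one bd, ← Prod.mk_one_one, ← bd_neg, bd_inj] at e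
    exact Or.inl (e.2 ▸ neg_one_mem_scalars)
  · rw [bd_inj] at e
    exact Or.inr (by rw [e.2, hr2]; exact one_mem _)
  · rw [← bd_neg, bd_inj] at e
    exact Or.inr (by rw [e.2, mul_neg, hr2]; exact neg_one_mem_scalars)

end CfsgLib.SympType
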