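import Cfsg.Agent.SympType.Blocks

/-!
# Block-diagonal elements of `H` normalise `R` when `R` contains a fourth root of unity
-/

set_option autoImplicit false
set_option linter.unusedSectionVars false

namespace CfsgLib.SympType

open Matrix Cfsg.Geo
open scoped commutatorElement

local notation:max "mat" => Units.val

variable {ι : Type} [Fintype ι] [DecidableEq ι] {F : Type*} [Field F] [Nonempty ι]
  {R : Subgroup (GL ι F)} (D : Data R)
include D

/-- A class fixed up to scalars is fixed up to sign. -/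
theorem Data.sign_of_conj {n x y s : GL ι F} (hx : x ∈ R) (hy : y ∈ R) (hyx : y * y = x * x) (hs : s ∈ scalars ι F)
    (h : n * x * n⁻¹ = s * y) : n * x * n⁻¹ = y ∨ n * x * n⁻¹ = -y := by
  have e : n * (x * x) * n⁻¹ = s * s * (x * x) := by
    rw [show n * (x * x) * n⁻¹ = n * x * n⁻¹ * (n * x * n⁻¹) by group, h, ← hyx, mul_assoc s y, ← mul_assoc y s,
      ← scalar_comm hs y]
    group
  have hss : s * s = 1 := by
    have e' : n * (x * x) * n⁻¹ = x * x := by rcases D.sq x hx with e1 | e1 <;> rw [e1] <;> simp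
    exact mul_eq_right.1 (e.symm.trans e')
  obtain ⟨c, hc⟩ := (mem_scalars_iff s).1 hs
  have hc2 : (c : F) * c = 1 := by
    have := congrArg (fun u : GL ι F => mat u (Classical.arbitrary ι) (Classical.arbitrary ι)) hss
    simpa [hc, smul_smul] using this
  rcases mul_self_eq_one_iff.1 hc2 with hc' | hc'
  · exact Or.inl (by rw [h, show s = 1 from Units.ext (by rw [hc, hc']; simp), one_mul])
  · exact Or.inr (by rw [h, show s = -1 from Units.ext (by rw [hc, hc']; simp), neg_one_mul])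

theorem Data.rootify {j : GL ι F} (hj : j ∈ R) (hjs : j ∈ scalars ι F) (hj2 : j * j = -1) {x : GL ι F} (hx : x ∈ R) :
    (∃ s ∈ scalars ι F, s * x ∈ R ∧ s * x * (s * x) = -1) ∧
      ∃ s ∈ scalars ι F, s * x ∈ R ∧ s * x * (s * x) = 1 := by
  have e : j * x * (j * x) = -(x * x) := by
    rw [mul_assoc, ← mul_assoc x, ← scalar_comm hjs x, ← mul_assoc, ← mul_assoc, hj2, neg_one_mul, neg_mul]
  rcases D.sq x hx with h | h
  · exact ⟨⟨j, hjs, R.mul_mem hj hx, by rw [e, h]⟩, 1, one_mem _, by simpa, by simpa⟩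
  · exact ⟨⟨1, one_mem _, by simpa, by simpa⟩, j, hjs, R.mul_mem hj hx, by rw [e, h, neg_neg]⟩

theorem Data.exists_not_scalar (h3 : 3 ≤ Fintype.card ι) {u w : GL ι F} (hu : u ∈ R) (hw : w ∈ R)
    (huw : bit u w = 1) : ∃ r ∈ R, r ∉ scalars ι F ∧ bit r u = 0 ∧ bit r w = 0 := by
  classical
  by_contra h
  push Not at h
  have two : ∀ c : ZMod 2, c = 0 ∨ c = 1 := by decide
  have hle : Submodule.span F (matrixSet R) ≤
      Submodule.span F (↑({mat (1 : GL ι F), mat u⁻¹, mat w⁻¹, mat (u * w)⁻¹} : Finset (Matrix ι ι F))) := by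
    rw [Submodule.span_le]
    rintro _ ⟨x, hx, rfl⟩
    have hwu : bit w u = 1 := by rw [bit_comm]; exact huw
    obtain ⟨p, hp, hpS, e⟩ : ∃ p ∈ R, mat p⁻¹ ∈ ({mat (1 : GL ι F), mat u⁻¹, mat w⁻¹, mat (u * w)⁻¹} :
        Finset (Matrix ι ι F)) ∧ bit (x * p) u = 0 ∧ bit (x * p) w = 0 := by
      rcases two (bit x u) with h1 | h1 <;> rcases two (bit x w) with h2 | h2
      · exact ⟨1, R.one_mem, by simp, by simpa using h1, by simpa using h2⟩
      · exact ⟨u, hu, by simp, by rw [D.bit_mul hx hu hu, h1, bit_self, add_zero],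
          by rw [D.bit_mul hx hu hw, h2, huw]; rfl⟩
      · exact ⟨w, hw, by simp, by rw [D.bit_mul hx hw hu, h1, hwu]; rfl,
          by rw [D.bit_mul hx hw hw, h2, bit_self, add_zero]⟩
      · have huw' := R.mul_mem hu hw
        exact ⟨u * w, huw', by simp, by rw [D.bit_mul hx huw' hu, h1, D.bit_mul hu hw hu, bit_self, hwu]; rfl,
          by rw [D.bit_mul hx huw' hw, h2, D.bit_mul hu hw hw, bit_self, huw]; rfl⟩
    obtain ⟨c, hc⟩ := (mem_scalars_iff _).1 (by
      by_contra hns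
      exact h _ (R.mul_mem hx hp) hns e.1 e.2)
    show mat x ∈ _
    rw [show x = x * p * p⁻¹ by group, Units.val_mul, hc, Matrix.smul_mul, one_mul]
    exact Submodule.smul_mem _ _ (Submodule.subset_span hpS)
  rw [CfsgLib.Aschbacher.span_eq_top_of_absIrred D.abs, top_le_iff] at hle
  have hc := finrank_span_finset_le_card (R := F)
    ({mat (1 : GL ι F), mat u⁻¹, mat w⁻¹, mat (u * w)⁻¹} : Finset (Matrix ι ι F))
  rw [Set.finrank, hle, finrank_top, Module.finrank_matrix, Module.finrank_self, mul_one] at hc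
  have := hc.trans Finset.card_le_four
  nlinarith

omit D

variable {R₂ H : Subgroup (GL (ι ⊕ ι) F)} (C : CentData R₂ H)

/-- A scalar square root of `-1` in the small group, and the diagonal transvections. -/
structure Linear (R₂ H : Subgroup (GL (ι ⊕ ι) F)) : Prop where
  three : 3 ≤ Fintype.card ι
  four : ∃ j ∈ small R₂, j ∈ scalars ι F ∧ j * j = -1
  delta : ∀ v ∈ small R₂, v * v = -1 → ∃ δ t : GL ι F, mat t = 1 + mat v ∧ (∃ s ∈ scalars ι F, δ = s * t) ∧
    bd (δ, δ) ∈ H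

variable (L : Linear R₂ H)
include C L

theorem CentData.same_root {a b : GL ι F} (hg : bd (a, b) ∈ H) {v : GL ι F} (hv : v ∈ small R₂)
    (hv2 : v * v = -1) (hvns : v ∉ scalars ι F) :
    (a * v * a⁻¹)⁻¹ * (b * v * b⁻¹) ∈ scalars ι F := by
  have D := C.split.small_data
  obtain ⟨ha, hb⟩ := C.proj₂ hg
  obtain ⟨j, hj, hjs, hj2⟩ := L.four
  obtain ⟨w, hw⟩ : ∃ w, w = a * v * a⁻¹ := ⟨_, rfl⟩
  obtain ⟨u, hu⟩ : ∃ u, u = b * v * b⁻¹ := ⟨_, rfl⟩
  rw [← hw, ← hu]
  have hwR : w ∈ small R₂ := hw ▸ (Subgroup.mem_normalizer_iff.1 ha v).1 hv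
  have huR : u ∈ small R₂ := hu ▸ (Subgroup.mem_normalizer_iff.1 hb v).1 hv
  have hcc : ∀ g : GL ι F, g * v * g⁻¹ * (g * v * g⁻¹) = -1 := fun g => by
    rw [show g * v * g⁻¹ * (g * v * g⁻¹) = g * (v * v) * g⁻¹ by group, hv2]; simp
  have hw2 : w * w = -1 := hw ▸ hcc a
  have hu2 : u * u = -1 := hu ▸ hcc b
  have hns : ∀ g : GL ι F, g * v * g⁻¹ ∉ scalars ι F := fun g h => hvns (by
    have e : g⁻¹ * (g * v * g⁻¹) * g = v := by group
    rw [← scalar_comm h g⁻¹, inv_mul_cancel_right] at e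
    rw [← e]; exact h)
  have hwns : w ∉ scalars ι F := hw ▸ hns a
  have huns : u ∉ scalars ι F := hu ▸ hns b
  by_contra huw
  obtain ⟨δv, t, ht, ⟨s, hs, hδv⟩, hδvH⟩ := L.delta v hv hv2
  obtain ⟨δw, tw, htw, ⟨s', hs', hδw⟩, hδwH⟩ := L.delta w hwR hw2
  obtain ⟨tu, htu⟩ := D.exists_tv hu2
  obtain ⟨n, hn⟩ : ∃ n, n = tu * tw⁻¹ := ⟨_, rfl⟩
  obtain ⟨c, hc, hcn⟩ : ∃ c ∈ scalars ι F, bd (c, c * n) ∈ H := by
    refine ⟨s * s'⁻¹, mul_mem hs (inv_mem hs'), ?_⟩
    have h := H.mul_mem (H.mul_mem (H.mul_mem hg hδvH) (H.inv_mem hg)) (H.inv_mem hδwH)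
    rw [bd_inv, bd_inv, bd_mul, bd_mul, bd_mul] at h
    have key : ∀ (p q : GL ι F), p * δv * p⁻¹ * δw⁻¹ = s * s'⁻¹ * (p * t * p⁻¹ * q⁻¹) * (q * tw⁻¹) := fun p q => by
      rw [hδv, hδw, _root_.mul_inv_rev, ← mul_assoc p s t, ← scalar_comm hs p, ← scalar_comm (inv_mem hs') tw⁻¹,
        show s * p * t * p⁻¹ * (s'⁻¹ * tw⁻¹) = s * (p * t * p⁻¹ * s'⁻¹) * tw⁻¹ by group,
        ← scalar_comm (inv_mem hs') (p * t * p⁻¹)]
      group
    rw [key a tw, tv_conj ht hw.symm htw, key b tu, tv_conj ht hu.symm htu] at h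
    simpa [hn] using h
  have hcomm : ∀ {r : GL ι F}, r * u = u * r → r * w = w * r → c * n * r = r * (c * n) := fun {r} e1 e2 => by
    have k1 : tu * r = r * tu := tv_comm htu e1.symm
    have k2 : tw⁻¹ * r = r * tw⁻¹ := (Commute.inv_left (tv_comm htw e2.symm : Commute tw r)).eq
    rw [hn, ← mul_assoc r c, ← scalar_comm hc r]
    simp only [mul_assoc]
    rw [k2, ← mul_assoc tu, k1, mul_assoc]
  have hmove : ∀ {x : GL ι F}, w * x = -(x * w) → c * n * x * (c * n)⁻¹ = tu * (-(w * x)) * tu⁻¹ := fun {x} e => by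
    have e' : w * (w * x) = -(w * x * w) := by rw [mul_assoc w x w, ← mul_neg, ← e]
    have k : tw * (-(w * x)) * tw⁻¹ = x := by
      rw [mul_neg, neg_mul, tv_anti htw hw2 e', mul_inv_cancel_right, ← mul_assoc, hw2, neg_one_mul, neg_neg]
    have k' : tw⁻¹ * x * tw = -(w * x) := by
      conv_lhs => rw [← k]
      group
    rw [show c * n * x * (c * n)⁻¹ = c * (n * x * n⁻¹) * c⁻¹ by group, scalar_comm hc, mul_inv_cancel_right, hn,
      show tu * tw⁻¹ * x * (tu * tw⁻¹)⁻¹ = tu * (tw⁻¹ * x * tw) * tu⁻¹ by group, k']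
  have hanti : ∀ {x y : GL ι F}, x ∈ small R₂ → y ∈ small R₂ → bit x y = 1 → x * y = -(y * x) :=
    fun hx hy h => (D.bit_eq_one hx hy).1 h
  rcases (by decide : ∀ e : ZMod 2, e = 0 ∨ e = 1) (bit u w) with hb0 | hb1
  · obtain ⟨x, hx, -, -, hwx, hux, -, -⟩ := D.exists_bits hwR huR hwns huns huw
    obtain ⟨-, sr, hsr, hrR, hr2⟩ := D.rootify hj hjs hj2 huR
    have hru : sr * u * u = u * (sr * u) := by rw [← mul_assoc u, ← scalar_comm hsr u]
    have hrw : sr * u * w = w * (sr * u) := by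
      rw [mul_assoc, bit_eq_zero.1 hb0, ← mul_assoc, scalar_comm hsr w, mul_assoc]
    have hxr : x * (sr * u) = sr * u * x := by
      rw [← mul_assoc, ← scalar_comm hsr x, mul_assoc, ← bit_eq_zero.1 hux, mul_assoc]
    have hxns : sr * u ∉ scalars ι F := fun h => huns (by
      have := mul_mem (inv_mem hsr) h
      rwa [inv_mul_cancel_left] at this)
    have hwx' := hanti hwR hx hwx
    have e : ⁅c * n, x⁆ = -w := by
      have e2 : u * (-(w * x)) = -(w * x) * u := by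
        rw [mul_neg, neg_mul, ← mul_assoc, bit_eq_zero.1 hb0, mul_assoc, bit_eq_zero.1 hux, mul_assoc]
      rw [commutatorElement_def, hmove hwx', tv_comm htu e2, mul_inv_cancel_right, neg_mul, mul_inv_cancel_right]
    rcases C.key hcn hc hrR hxns hr2 (hcomm hru hrw) hx hxr with h | h <;> rw [e] at h
    · exact hwns (by simpa using mul_mem neg_one_mem_scalars h)
    · refine huw ?_
      have h' := mul_mem (inv_mem hsr) (neg_scalar h)
      rw [← mul_neg, neg_neg, mul_assoc, inv_mul_cancel_left] at h'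
      have h'' : u * w * (w * w)⁻¹ ∈ scalars ι F :=
        mul_mem h' (inv_mem (hw2 ▸ neg_one_mem_scalars : w * w ∈ scalars ι F))
      rw [show u * w * (w * w)⁻¹ = u * w⁻¹ by group] at h''
      rw [show w⁻¹ * u = w⁻¹ * (u * w⁻¹) * w by group, ← scalar_comm h'' w⁻¹, inv_mul_cancel_right]
      exact h''
  · obtain ⟨r₀, hr₀, hr₀ns, hr₀u, hr₀w⟩ := D.exists_not_scalar L.three huR hwR hb1
    obtain ⟨-, sr, hsr, hrR, hr2⟩ := D.rootify hj hjs hj2 hr₀
    have hc1 : ∀ {y : GL ι F}, bit r₀ y = 0 → sr * r₀ * y = y * (sr * r₀) := fun {y} h => by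
      rw [mul_assoc, bit_eq_zero.1 h, ← mul_assoc, scalar_comm hsr y, mul_assoc]
    have hxns : sr * r₀ ∉ scalars ι F := fun h => hr₀ns (by
      have := mul_mem (inv_mem hsr) h
      rwa [inv_mul_cancel_left] at this)
    have huw' := hanti huR hwR hb1
    have e : ⁅c * n, w⁆ = u := by
      have hk : tw⁻¹ * w * tw = w := by rw [mul_assoc, ← tv_comm htw (rfl : w * w = w * w), inv_mul_cancel_left]
      rw [commutatorElement_def, show c * n * w * (c * n)⁻¹ = c * (n * w * n⁻¹) * c⁻¹ by group, scalar_comm hc,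
        mul_inv_cancel_right, hn, show tu * tw⁻¹ * w * (tu * tw⁻¹)⁻¹ = tu * (tw⁻¹ * w * tw) * tu⁻¹ by group, hk,
        tv_anti htu hu2 huw', mul_inv_cancel_right, mul_inv_cancel_right]
    rcases C.key hcn hc hrR hxns hr2 (hcomm (hc1 hr₀u) (hc1 hr₀w)) hwR (hc1 hr₀w).symm with h | h <;> rw [e] at h
    · exact huns h
    · have h' := scalar_comm h w
      rw [mul_assoc, huw', mul_neg, ← mul_assoc, hc1 hr₀w, mul_assoc] at h'
      exact ne_neg (C.split.data.two) _ h'.symm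

/-- The action of a block-diagonal element on the small classes is the same in both blocks. -/
theorem CentData.same {a b : GL ι F} (hg : bd (a, b) ∈ H) {x : GL ι F} (hx : x ∈ small R₂) :
    b * x * b⁻¹ = a * x * a⁻¹ ∨ b * x * b⁻¹ = -(a * x * a⁻¹) := by
  have D := C.split.small_data
  obtain ⟨ha, hb⟩ := C.proj₂ hg
  obtain ⟨j, hj, hjs, hj2⟩ := L.four
  have hA := (Subgroup.mem_normalizer_iff.1 ha x).1 hx
  have hB := (Subgroup.mem_normalizer_iff.1 hb x).1 hx
  obtain ⟨k, hk, hkx⟩ : ∃ k ∈ scalars ι F, b * x * b⁻¹ = k * (a * x * a⁻¹) := by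
    by_cases hxs : x ∈ scalars ι F
    · refine ⟨1, one_mem _, ?_⟩
      rw [one_mul, ← scalar_comm hxs b, ← scalar_comm hxs a, mul_inv_cancel_right, mul_inv_cancel_right]
    obtain ⟨⟨s, hs, hsx, hsx2⟩, -⟩ := D.rootify hj hjs hj2 hx
    have hns : s * x ∉ scalars ι F := fun h => hxs (by
      have := mul_mem (inv_mem hs) h
      rwa [inv_mul_cancel_left] at this)
    have h := C.same_root L hg hsx hsx2 hns
    have e : ∀ g : GL ι F, g * (s * x) * g⁻¹ = s * (g * x * g⁻¹) := fun g => by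
      rw [← mul_assoc g, ← scalar_comm hs g]; group
    rw [e, e, _root_.mul_inv_rev, show (a * x * a⁻¹)⁻¹ * s⁻¹ * (s * (b * x * b⁻¹)) =
      (a * x * a⁻¹)⁻¹ * (b * x * b⁻¹) by group] at h
    exact ⟨_, h, by rw [scalar_comm h (a * x * a⁻¹), mul_inv_cancel_left]⟩
  have hsq : a * x * a⁻¹ * (a * x * a⁻¹) = x * x := by
    rw [show a * x * a⁻¹ * (a * x * a⁻¹) = a * (x * x) * a⁻¹ by group]
    rcases D.sq x hx with e | e <;> rw [e] <;> simp
  exact D.sign_of_conj hx hA hsq hk hkx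

/-- Classes of involutions of the small group are conjugate by diagonal elements of `H`. -/
theorem CentData.trans_small {r r₂ : GL ι F} (hr : r ∈ small R₂) (hr₂ : r₂ ∈ small R₂) (hns : r ∉ scalars ι F)
    (hns₂ : r₂ ∉ scalars ι F) (h1 : r * r = 1) (h2 : r₂ * r₂ = 1) :
    ∃ m, bd (m, m) ∈ H ∧ m ∈ subgroupNormalizer (small R₂) ∧ m * r₂ * m⁻¹ = r := by
  have D := C.split.small_data
  obtain ⟨j, hj, hjs, hj2⟩ := L.four
  have hroot : ∀ {y : GL ι F}, y ∈ small R₂ → y * y = 1 → j * y ∈ small R₂ ∧ j * y * (j * y) = -1 := fun {y} hy e =>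
    ⟨(small R₂).mul_mem hj hy, by
      rw [mul_assoc, ← mul_assoc y, ← scalar_comm hjs y, ← mul_assoc, ← mul_assoc, hj2, neg_one_mul, neg_mul, e]⟩
  have step : ∀ {p q : GL ι F}, p ∈ small R₂ → q ∈ small R₂ → p * p = -1 → q * q = -1 → bit p q = 1 →
      ∃ m, bd (m, m) ∈ H ∧ m * p * m⁻¹ = q := by
    intro p q hp hq hp2 hq2 hpq
    have e1 : p * q = -(q * p) := (D.bit_eq_one hp hq).1 hpq
    have e1' : q * p = -(p * q) := by rw [e1, neg_neg]
    obtain ⟨δp, tp, htp, ⟨sp, hsp, hδp⟩, hδpH⟩ := L.delta p hp hp2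
    obtain ⟨δq, tq, htq, ⟨sq, hsq, hδq⟩, hδqH⟩ := L.delta q hq hq2
    refine ⟨δp * δq, by rw [← bd_mul]; exact H.mul_mem hδpH hδqH, ?_⟩
    have conj : ∀ {s t z : GL ι F}, s ∈ scalars ι F → s * t * z * (s * t)⁻¹ = t * z * t⁻¹ := fun {s t z} hs => by
      rw [show s * t * z * (s * t)⁻¹ = s * (t * z * t⁻¹) * s⁻¹ by group, scalar_comm hs, mul_inv_cancel_right]
    have hanti : p * (q * p) = -(q * p * p) := by rw [← mul_assoc, e1, neg_mul]
    rw [show δp * δq * p * (δp * δq)⁻¹ = δp * (δq * p * δq⁻¹) * δp⁻¹ by group, hδp, hδq, conj hsq,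
      tv_anti htq hq2 e1', mul_inv_cancel_right, conj hsp, tv_anti htp hp2 hanti, mul_inv_cancel_right, ← mul_assoc,
      e1, neg_mul, mul_assoc, hp2, mul_neg, mul_one, neg_neg]
  obtain ⟨m, hmH, s, hs, hms⟩ : ∃ m, bd (m, m) ∈ H ∧ ∃ s ∈ scalars ι F, m * r₂ * m⁻¹ = s * r := by
    by_cases hcl : r⁻¹ * r₂ ∈ scalars ι F
    · exact ⟨1, by rw [show bd ((1 : GL ι F), (1 : GL ι F)) = 1 from map_one bd]; exact H.one_mem, _, hcl, by
        rw [scalar_comm hcl r]; group⟩
    obtain ⟨hp, hp2⟩ := hroot hr₂ h2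
    obtain ⟨hq, hq2⟩ := hroot hr h1
    have hstrip : ∀ {m : GL ι F}, m * (j * r₂) * m⁻¹ = j * r → m * r₂ * m⁻¹ = 1 * r := fun {m} e => by
      rw [← mul_assoc m, ← scalar_comm hjs m, show j * m * r₂ * m⁻¹ = j * (m * r₂ * m⁻¹) by group] at e
      rw [one_mul]; exact mul_left_cancel e
    have hjb : bit (j * r₂) (j * r) = bit r₂ r := by
      rw [bit_scalar_left hjs, bit_comm, bit_scalar_left hjs, bit_comm]
    rcases (by decide : ∀ e : ZMod 2, e = 0 ∨ e = 1) (bit r₂ r) with h | h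
    · obtain ⟨ua, hua, ub, hub, b1, b2, b3, b4⟩ := D.exists_bits hr hr₂ hns hns₂ hcl
      obtain ⟨⟨sc, hsc, hc, hc2⟩, -⟩ := D.rootify hj hjs hj2 ((small R₂).mul_mem hua hub)
      have hb : ∀ y, bit (sc * (ua * ub)) (j * y) = bit (ua * ub) y := fun y => by
        rw [bit_scalar_left hsc, bit_comm, bit_scalar_left hjs, bit_comm]
      obtain ⟨m₁, hm₁, e₁⟩ := step hp hc hp2 hc2 (by
        rw [bit_comm, hb, D.bit_mul hua hub hr₂, bit_comm ua, bit_comm ub, b2, b4, zero_add])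
      obtain ⟨m₂, hm₂, e₂⟩ := step hc hq hc2 hq2 (by
        rw [hb, D.bit_mul hua hub hr, bit_comm ua, bit_comm ub, b1, b3, add_zero])
      exact ⟨m₂ * m₁, by rw [← bd_mul]; exact H.mul_mem hm₂ hm₁, 1, one_mem _, hstrip (by
        rw [show m₂ * m₁ * (j * r₂) * (m₂ * m₁)⁻¹ = m₂ * (m₁ * (j * r₂) * m₁⁻¹) * m₂⁻¹ by group, e₁, e₂])⟩
    · obtain ⟨m, hm, e⟩ := step hp hq hp2 hq2 (hjb.trans h)
      exact ⟨m, hm, 1, one_mem _, hstrip e⟩
  have hn : ∀ {k : GL ι F}, bd (k, k) ∈ H → k ∈ subgroupNormalizer (small R₂) := fun h => (C.proj₂ h).1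
  rcases D.sign_of_conj hr₂ hr (h1.trans h2.symm) hs hms with e | e
  · exact ⟨m, hmH, hn hmH, e⟩
  · obtain ⟨y, hy, hry⟩ := D.exists_anti hr hns
    have hH : bd (y * m, y * m) ∈ H := by rw [← bd_mul]; exact H.mul_mem (C.le hy) hmH
    refine ⟨y * m, hH, hn hH, ?_⟩
    rw [show y * m * r₂ * (y * m)⁻¹ = y * (m * r₂ * m⁻¹) * y⁻¹ by group, e, mul_neg, neg_mul,
      show y * r = -(r * y) by rw [hry, neg_neg], neg_mul, neg_neg, mul_inv_cancel_right]

/-- The block-diagonal part of `H` normalises `R₂`. -/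
theorem CentData.bd_mem [Finite F] {a b : GL ι F} (hg : bd (a, b) ∈ H) : bd (a, b) ∈ subgroupNormalizer R₂ := by
  have S := C.split
  have D := S.small_data
  obtain ⟨ha, hb⟩ := C.proj₂ hg
  obtain ⟨j, hj, hjs, hj2⟩ := L.four
  obtain ⟨r₀, hr₀, hr₀s⟩ := D.inner (n := a⁻¹ * b) fun x hx => by
    rcases C.same L hg hx with e | e
    · left
      rw [mul_inv_eq_iff_eq_mul] at e
      rw [mul_assoc, e]; group
    · right
      rw [mul_inv_eq_iff_eq_mul, neg_mul] at e
      rw [mul_assoc, e, mul_neg]; group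
  obtain ⟨s₀, hs₀, hb'⟩ : ∃ s₀ ∈ scalars ι F, b = a * r₀ * s₀ := ⟨_, hr₀s, by group⟩
  -- an involution of the small group
  obtain ⟨x, hx, hxns⟩ : ∃ x ∈ small R₂, x ∉ scalars ι F := by
    by_contra h
    push Not at h
    have hle : Submodule.span F (matrixSet (small R₂)) ≤ Submodule.span F {(1 : Matrix ι ι F)} := by
      rw [Submodule.span_le]
      rintro _ ⟨g, hg, rfl⟩
      obtain ⟨c, hc⟩ := (mem_scalars_iff g).1 (h g hg)
      show mat g ∈ _
      rw [hc]
      exact Submodule.smul_mem _ _ (Submodule.mem_span_singleton_self _)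
    rw [CfsgLib.Aschbacher.span_eq_top_of_absIrred D.abs, top_le_iff] at hle
    have h1 : Module.finrank F ↥(Submodule.span F {(1 : Matrix ι ι F)}) = 1 := finrank_span_singleton one_ne_zero
    rw [hle, finrank_top, Module.finrank_matrix, Module.finrank_self, mul_one] at h1
    nlinarith [L.three]
  obtain ⟨-, sx, hsx, hr, hr2⟩ := D.rootify hj hjs hj2 hx
  have hrns : sx * x ∉ scalars ι F := fun h => hxns (by
    have := mul_mem (inv_mem hsx) h
    rwa [inv_mul_cancel_left] at this)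
  obtain ⟨r, hrdef⟩ : ∃ r, r = sx * x := ⟨_, rfl⟩
  rw [← hrdef] at hr hr2 hrns
  have hA2 : a * r * a⁻¹ * (a * r * a⁻¹) = 1 := by
    rw [show a * r * a⁻¹ * (a * r * a⁻¹) = a * (r * r) * a⁻¹ by group, hr2, mul_one, mul_inv_cancel]
  have hAns : a * r * a⁻¹ ∉ scalars ι F := fun h => hrns (by
    rw [show r = a⁻¹ * (a * r * a⁻¹) * a by group, ← scalar_comm h a⁻¹, inv_mul_cancel_right]; exact h)
  obtain ⟨m, hm, -, hmr⟩ := C.trans_small L hr ((Subgroup.mem_normalizer_iff.1 ha r).1 hr) hrns hAns hr2 hA2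
  -- modify to centralise `diag (r, r)`
  have hg' : bd (m * a, m * a * s₀) ∈ H := by
    have h := H.mul_mem (H.mul_mem hm hg) (C.right_mem r₀⁻¹ ((small R₂).inv_mem hr₀))
    rw [bd_mul, bd_mul, mul_one, hb', show m * (a * r₀ * s₀) * r₀⁻¹ = m * a * (r₀ * s₀ * r₀⁻¹) by group,
      ← scalar_comm hs₀ r₀, mul_inv_cancel_right] at h
    exact h
  have hfix : m * a * r = r * (m * a) := by
    rw [← mul_inv_eq_iff_eq_mul, show m * a * r * (m * a)⁻¹ = m * (a * r * a⁻¹) * m⁻¹ by group, hmr]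
  have hfix' : m * a * s₀ * r = r * (m * a * s₀) := by
    rw [← scalar_comm hs₀ (m * a), mul_assoc, hfix, ← mul_assoc, scalar_comm hs₀ r, mul_assoc]
  have hs0sq : s₀ * s₀ = 1 ∨ s₀ * s₀ = -1 := by
    have hd := C.double' hg' hr hrns hr2 (by
      rw [bd_mul, bd_mul, hfix, hfix'])
      (x₁ := sw) S.sw_mem (sw_bd r r) (x₂ := sw) S.sw_mem (sw_bd r r)
    rw [bd_sw_commutator, bd_sw_commutator, show m * a * (m * a * s₀)⁻¹ = (m * a) * s₀⁻¹ * (m * a)⁻¹ by group,
      ← scalar_comm (inv_mem hs₀), mul_inv_cancel_right, ← scalar_comm hs₀ (m * a), mul_inv_cancel_right,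
      inv_inv] at hd
    rcases hd with e | e | e | e
    · rw [← map_one bd, ← Prod.mk_one_one, bd_inj] at e; exact Or.inl e.2
    · rw [← map_one bd, ← Prod.mk_one_one, ← bd_neg, bd_inj] at e; exact Or.inr e.2
    · rw [bd_inj] at e; exact absurd (e.2 ▸ mul_mem hs₀ hs₀) hrns
    · rw [← bd_neg, bd_inj] at e
      have h := neg_scalar (mul_mem hs₀ hs₀)
      rw [e.2, neg_neg] at h
      exact absurd h hrns
  have hsel : bd (s₀⁻¹, s₀) ∈ R₂ := by
    obtain ⟨c, hc⟩ := (mem_scalars_iff s₀).1 hs₀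
    obtain ⟨cj, hcj⟩ := (mem_scalars_iff j).1 hjs
    have val : ∀ {p q : GL ι F} {c d : F}, mat p = c • 1 → mat q = d • 1 → c = d → p = q :=
      fun h1 h2 h => Units.ext (by rw [h1, h2, h])
    rcases hs0sq with e | e
    · rw [inv_eq_of_mul_eq_one_right e]
      have hc2 : (c : F) * c = 1 := by
        have := congrArg (fun u : GL ι F => mat u (Classical.arbitrary ι) (Classical.arbitrary ι)) e
        simpa [hc, smul_smul] using this
      refine (?_ : s₀ ∈ small R₂)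
      rcases mul_self_eq_one_iff.1 hc2 with h | h
      · rw [val hc (q := 1) (by simp) h]; exact one_mem _
      · rw [val hc (q := -1) (by simp) h]; exact D.neg
    · rw [show s₀⁻¹ = -s₀ from inv_eq_of_mul_eq_one_right (by rw [mul_neg, e, neg_neg])]
      have hs : s₀ ∈ small R₂ := by
        have hc2 : (c : F) * c = -1 := by
          have := congrArg (fun u : GL ι F => mat u (Classical.arbitrary ι) (Classical.arbitrary ι)) e
          simpa [hc, smul_smul] using this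
        have hj2' : (cj : F) * cj = -1 := by
          have := congrArg (fun u : GL ι F => mat u (Classical.arbitrary ι) (Classical.arbitrary ι)) hj2
          simpa [hcj, smul_smul] using this
        rcases mul_self_eq_mul_self_iff.1 (hc2.trans hj2'.symm) with h | h
        · rw [val hc hcj h]; exact hj
        · rw [val hc (q := -j) (d := -(cj : F)) (by rw [Units.val_neg, hcj, neg_smul]) h, ← neg_one_mul]
          exact (small R₂).mul_mem D.neg hj
      rw [← neg_neg s₀, neg_neg (-s₀)]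
      have := S.sign_mem ((small R₂).mul_mem D.neg hs)
      rw [neg_one_mul, neg_neg] at this
      simpa using this
  refine S.mem_normalizer (fun y hy => ?_) ?_ ?_
  · rw [bd_inv, bd_mul, bd_mul]
    have hA := (Subgroup.mem_normalizer_iff.1 ha y).1 hy
    rcases C.same L hg hy with e | e <;> rw [e]
    · exact hA
    · exact S.sign_mem hA
  · rw [← sg_comm_bd, mul_inv_cancel_right]; exact S.sg_mem
  · obtain ⟨r₁, hr₁, hr₁e⟩ : ∃ r₁ ∈ small R₂, r₁ = a * r₀ * a⁻¹ :=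
      ⟨_, (Subgroup.mem_normalizer_iff.1 ha r₀).1 hr₀, rfl⟩
    have hba : b * a⁻¹ = s₀ * r₁ := by rw [hb', hr₁e, ← scalar_comm hs₀ (a * r₀)]; group
    have e : bd (a, b) * sw * (bd (a, b))⁻¹ = bd (s₀⁻¹, s₀) * bd (r₁⁻¹, r₁) * sw := by
      rw [bd_inv, mul_assoc, sw_bd, ← mul_assoc, bd_mul, bd_mul,
        show a * b⁻¹ = (b * a⁻¹)⁻¹ by group, hba, _root_.mul_inv_rev, ← scalar_comm (inv_mem hs₀)]
    rw [e]
    refine R₂.mul_mem (R₂.mul_mem hsel ?_) S.sw_mem
    rcases D.sq r₁ hr₁ with h | h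
    · rw [inv_eq_of_mul_eq_one_right h]; exact hr₁
    · rw [inv_eq_of_mul_eq_one_right (show r₁ * -r₁ = 1 by rw [mul_neg, h, neg_neg]),
        show bd (-r₁, r₁) = -bd (r₁, -r₁) by rw [← bd_neg, neg_neg], ← neg_one_mul]
      exact R₂.mul_mem S.data.neg (S.sign_mem hr₁)

end CfsgLib.SympType
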