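import Cfsg.Agent.SympType.Normaliser
import Cfsg.Agent.SympType.Controlled
import Cfsg.Agent.SympType.BlockMax
import Cfsg.Agent.Linear.Perfect

/-!
# Doubling: maximality of normalisers of symplectic type `2`-groups

If the normaliser of the small group is maximal in `G₁ ⊓ SL`, the normaliser of `R` is maximal in `G₂ ⊓ SL`.
-/

set_option autoImplicit false
set_option linter.unusedSectionVars false

namespace CfsgLib.SympType

open Matrix Cfsg.Geo
open scoped commutatorElement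

local notation:max "mat" => Units.val

variable {ι : Type} [Fintype ι] [DecidableEq ι] {F : Type*} [Field F]

theorem mem_sl {κ : Type} [Fintype κ] [DecidableEq κ] {g : GL κ F} :
    g ∈ specialLinear κ F ↔ (mat g).det = 1 :=
  CfsgLib.Aschbacher.mem_specialLinear_iff

theorem det_bd (a b : GL ι F) : (mat (bd (a, b))).det = (mat a).det * (mat b).det := by
  rw [bd_val, det_fromBlocks_zero₂₁]

theorem det_sw (h : Even (Fintype.card ι)) : (mat (sw : GL (ι ⊕ ι) F)).det = 1 := by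
  have e : mat (sw : GL (ι ⊕ ι) F) = fromBlocks 1 0 0 (-1) *
      (fromBlocks 1 1 0 1 * (fromBlocks 1 0 (-1) 1 * fromBlocks 1 1 0 1)) := by
    simp [sw, fromBlocks_multiply]
  rw [e, det_mul, det_mul, det_mul, det_fromBlocks_zero₂₁, det_fromBlocks_zero₂₁, det_fromBlocks_zero₁₂]
  simp [det_neg, h.neg_one_pow]

/-- A subgroup normalised by `SL` containing a non-scalar element of determinant one contains `SL`. -/
theorem specialLinear_le_of_normalized [Nonempty ι] (h3 : 3 ≤ Fintype.card ι) {K : Subgroup (GL ι F)}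
    (hn : ∀ h ∈ specialLinear ι F, ∀ k ∈ K, k ∈ specialLinear ι F → h * k * h⁻¹ ∈ K) {r : GL ι F} (hr : r ∈ K)
    (hrS : r ∈ specialLinear ι F) (hns : r ∉ scalars ι F) : specialLinear ι F ≤ K := by
  let f : Matrix.SpecialLinearGroup ι F →* GL ι F := Matrix.SpecialLinearGroup.toGL
  have hf : ∀ x, f x ∈ specialLinear ι F := fun x => mem_sl.2 x.2
  let K' := K.comap f
  haveI : K'.Normal := ⟨fun k hk h => by
    show f (h * k * h⁻¹) ∈ K
    rw [map_mul, map_mul, map_inv]
    exact hn _ (hf h) _ hk (hf k)⟩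
  obtain ⟨r', hr'⟩ : ∃ r', f r' = r := ⟨⟨mat r, mem_sl.1 hrS⟩, Units.ext rfl⟩
  haveI := CfsgLib.Linear.isSimpleGroup_PSL (F := F) h3
  let π := QuotientGroup.mk' (Subgroup.center (Matrix.SpecialLinearGroup ι F))
  have hπ : Function.Surjective π := QuotientGroup.mk'_surjective _
  rcases Subgroup.Normal.eq_bot_or_eq_top (Subgroup.Normal.map (inferInstance : K'.Normal) π hπ) with h | h
  · exfalso
    have : π r' ∈ (⊥ : Subgroup _) := h ▸ ⟨r', (by show f r' ∈ K; rw [hr']; exact hr), rfl⟩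
    rw [Subgroup.mem_bot, QuotientGroup.mk'_apply, QuotientGroup.eq_one_iff,
      Matrix.SpecialLinearGroup.mem_center_iff] at this
    obtain ⟨c, -, hc⟩ := this
    refine hns ((mem_scalars_iff r).2 ⟨Units.mk0 c ?_, ?_⟩)
    · rintro rfl
      rw [map_zero] at hc
      exact r.ne_zero (by rw [← hr']; exact hc.symm)
    · have e : mat r = (r' : Matrix ι ι F) := by rw [← hr']; rfl
      rw [Units.val_mk0, Matrix.smul_one_eq_diagonal, e]
      exact hc.symm.trans (Matrix.scalar_apply _)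
  · have hKZ : K' ⊔ Subgroup.center (Matrix.SpecialLinearGroup ι F) = ⊤ := by
      rw [← QuotientGroup.ker_mk' (Subgroup.center (Matrix.SpecialLinearGroup ι F)), ← Subgroup.comap_map_eq]
      show Subgroup.comap π (Subgroup.map π K') = ⊤
      rw [h, Subgroup.comap_top]
    have hcom : commutator (Matrix.SpecialLinearGroup ι F) ≤ K' := by
      rw [commutator_def, Subgroup.commutator_le]
      intro a _ b _
      have hdec : ∀ x : Matrix.SpecialLinearGroup ι F,
          ∃ k ∈ K', ∃ z ∈ Subgroup.center (Matrix.SpecialLinearGroup ι F), x = k * z := fun x => by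
        have hx : x ∈ K' ⊔ Subgroup.center (Matrix.SpecialLinearGroup ι F) := hKZ ▸ Subgroup.mem_top x
        rw [← SetLike.mem_coe, Subgroup.normal_mul, Set.mem_mul] at hx
        obtain ⟨k, hk, z, hz, e⟩ := hx
        exact ⟨k, hk, z, hz, e.symm⟩
      obtain ⟨k, hk, z, hz, rfl⟩ := hdec a
      obtain ⟨l, hl, w, hw, rfl⟩ := hdec b
      rw [Subgroup.mem_center_iff] at hz hw
      have e : ⁅k * z, l * w⁆ = ⁅k, l⁆ := by
        simp only [commutatorElement_def, _root_.mul_inv_rev]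
        calc k * z * (l * w) * (z⁻¹ * k⁻¹) * (w⁻¹ * l⁻¹)
            = k * (z * (l * w)) * (z⁻¹ * k⁻¹) * (w⁻¹ * l⁻¹) := by group
          _ = k * l * (w * k⁻¹) * (w⁻¹ * l⁻¹) := by rw [← hz]; group
          _ = k * l * k⁻¹ * l⁻¹ := by rw [← hw]; group
      rw [e, commutatorElement_def]
      exact K'.mul_mem (K'.mul_mem (K'.mul_mem hk hl) (K'.inv_mem hk)) (K'.inv_mem hl)
    rw [CfsgLib.Linear.commutator_SL_eq_top h3, top_le_iff] at hcom
    intro x hx
    obtain ⟨x', hx'⟩ : ∃ x' : Matrix.SpecialLinearGroup ι F, f x' = x := ⟨⟨mat x, mem_sl.1 hx⟩, Units.ext rfl⟩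
    have hmem : x' ∈ K' := hcom ▸ Subgroup.mem_top x'
    exact hx' ▸ hmem

variable [Nonempty ι] {R : Subgroup (GL (ι ⊕ ι) F)} {G₁ : Subgroup (GL ι F)} {G₂ : Subgroup (GL (ι ⊕ ι) F)}

/-- The data for doubling inside isometry groups `G₁`, `G₂`. -/
structure Doubling (R : Subgroup (GL (ι ⊕ ι) F)) (G₁ : Subgroup (GL ι F)) (G₂ : Subgroup (GL (ι ⊕ ι) F)) : Prop where
  split : Split R
  four : ∃ j ∈ small R, j ∈ scalars ι F ∧ j * j = -1
  dvd : 4 ∣ Fintype.card ι
  small_le : small R ≤ G₁ ⊓ specialLinear ι F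
  mem_bd : ∀ a b : GL ι F, bd (a, b) ∈ G₂ ↔ a ∈ G₁ ∧ b ∈ G₁
  sw_mem : sw ∈ G₂
  scaled : ∀ z ∈ R, z * z = -1 → ∀ t : GL (ι ⊕ ι) F, mat t = 1 + mat z →
    ∀ (c : F) (j s : GL (ι ⊕ ι) F), j ∈ R → c * c = -1 → mat j = c • 1 → mat s = (1 + c)⁻¹ • 1 → s * t ∈ G₂
  simple : ∀ K : Subgroup (GL ι F),
    (∀ h ∈ G₁ ⊓ specialLinear ι F, ∀ k ∈ K, k ∈ G₁ ⊓ specialLinear ι F → h * k * h⁻¹ ∈ K) →
    ∀ r ∈ K, r ∈ G₁ ⊓ specialLinear ι F → r ∉ scalars ι F → G₁ ⊓ specialLinear ι F ≤ K
  diag : ∀ r ∈ small R, r ∉ scalars ι F → r * r = 1 → ∀ a ∈ G₁, ∃ A ∈ G₁, ∃ B ∈ G₁,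
    (mat A).det = (mat a).det ∧ (mat A).det * (mat B).det = 1 ∧ A * r = r * A ∧ B * r = r * B ∧
      (1 - mat r) * (mat A - 1) = 0 ∧ (1 - mat r) * (mat B - 1) = 0
  blocks : ∀ H ≤ G₂ ⊓ specialLinear (ι ⊕ ι) F,
    (∀ a b : GL ι F, bd (a, b) ∈ G₂ ⊓ specialLinear (ι ⊕ ι) F → bd (a, b) ∈ H) → sw ∈ H →
    ∀ g ∈ H, g * sg * g⁻¹ ≠ sg → g * sg * g⁻¹ ≠ -(sg : GL (ι ⊕ ι) F) → G₂ ⊓ specialLinear (ι ⊕ ι) F ≤ H

variable (L : Doubling R G₁ G₂)
include L

theorem Doubling.four_le : 4 ≤ Fintype.card ι := Nat.le_of_dvd Fintype.card_pos L.dvd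

theorem Doubling.even : Even (Fintype.card ι) := by
  obtain ⟨k, hk⟩ := L.dvd
  exact ⟨2 * k, by omega⟩

theorem Doubling.eight : 8 ≤ Fintype.card (ι ⊕ ι) := by
  rw [Fintype.card_sum]; have := L.four_le; omega

theorem Doubling.det_small {a : GL ι F} (ha : a ∈ small R) : (mat a).det = 1 := mem_sl.1 (L.small_le ha).2

theorem Doubling.bd_mem_X {a b : GL ι F} (ha : a ∈ G₁) (hb : b ∈ G₁) (h : (mat a).det * (mat b).det = 1) :
    bd (a, b) ∈ G₂ ⊓ specialLinear (ι ⊕ ι) F :=
  ⟨(L.mem_bd a b).2 ⟨ha, hb⟩, mem_sl.2 (by rw [det_bd, h])⟩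

theorem Doubling.le_X : R ≤ G₂ ⊓ specialLinear (ι ⊕ ι) F := by
  intro x hx
  have hd : ∀ a ∈ small R, (mat a).det = 1 := fun a ha => L.det_small ha
  have hn : ∀ a ∈ small R, -a ∈ G₁ := fun a ha => by
    rw [← neg_one_mul]; exact G₁.mul_mem (L.small_le L.split.small_data.neg).1 (L.small_le ha).1
  have hdn : ∀ a ∈ small R, (mat a).det * (mat (-a)).det = 1 := fun a ha => by
    rw [Units.val_neg, det_neg, L.even.neg_one_pow, one_mul, hd a ha, mul_one]
  have hs : sw ∈ G₂ ⊓ specialLinear (ι ⊕ ι) F := ⟨L.sw_mem, mem_sl.2 (det_sw L.even)⟩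
  obtain ⟨a, ha, rfl | rfl | rfl | rfl⟩ := L.split.decompose hx
  · exact L.bd_mem_X (L.small_le ha).1 (L.small_le ha).1 (by rw [hd a ha, mul_one])
  · exact L.bd_mem_X (L.small_le ha).1 (hn a ha) (hdn a ha)
  · exact mul_mem (L.bd_mem_X (L.small_le ha).1 (L.small_le ha).1 (by rw [hd a ha, mul_one])) hs
  · exact mul_mem (L.bd_mem_X (L.small_le ha).1 (hn a ha) (hdn a ha)) hs

theorem Doubling.amb : Ambient (G₂ ⊓ specialLinear (ι ⊕ ι) F) R where
  le := L.le_X
  pairMem := by
    intro z hz z' hz' hz2 hz'2 hns hg t t' γ ht ht' hγ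
    have D := L.split.data
    refine ⟨?_, mem_sl.2 ?_⟩
    · obtain ⟨j, hj, hjs, hj2⟩ := L.four
      obtain ⟨c, hc⟩ := (mem_scalars_iff j).1 hjs
      have hc2 : (c : F) * c = -1 := by
        have := congrArg (fun u : GL ι F => mat u (Classical.arbitrary ι) (Classical.arbitrary ι)) hj2
        simpa [hc, smul_smul] using this
      have hJ : mat (bd (j, j)) = (c : F) • (1 : Matrix (ι ⊕ ι) (ι ⊕ ι) F) := by
        rw [bd_val, hc, ← fromBlocks_one, fromBlocks_smul, smul_zero]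
      have h1c : 1 + (c : F) ≠ 0 := fun h => D.two (by linear_combination hc2 - ((c : F) - 1) * h)
      obtain ⟨s, hsval⟩ : ∃ s : GL (ι ⊕ ι) F, mat s = (1 + (c : F))⁻¹ • (1 : Matrix (ι ⊕ ι) (ι ⊕ ι) F) :=
        ⟨Units.map (Matrix.scalar (ι ⊕ ι) : F →+* Matrix (ι ⊕ ι) (ι ⊕ ι) F).toMonoidHom
          (Units.mk0 _ (inv_ne_zero h1c)), by simp [Matrix.smul_one_eq_diagonal]⟩
      have e : γ = bd (j, j) * (s * t * (s * t')) := by
        refine Units.ext ?_
        rw [hγ, Units.val_mul, Units.val_mul, Units.val_mul, Units.val_mul, hJ, hsval]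
        simp only [Matrix.smul_mul, Matrix.mul_smul, one_mul, smul_smul]
        congr 1
        have h2c : (1 + (c : F)) * (1 + c) = 2 * c := by linear_combination hc2
        have := D.two
        field_simp
        linear_combination h2c
      rw [e]
      exact G₂.mul_mem (L.le_X (mem_small.1 hj)).1 (G₂.mul_mem (L.scaled z hz hz2 t ht c _ s hj hc2 hJ hsval)
        (L.scaled z' hz' hz'2 t' ht' c _ s hj hc2 hJ hsval))
    · have e : (mat t').det = (mat t).det := D.det_tv ht hz hns hg ht'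
      have h2 : (mat t).det * (mat t).det = (2 : F) ^ Fintype.card (ι ⊕ ι) := by
        rw [← det_mul, tv_sq ht hz2, det_smul, mem_sl.1 (L.le_X hz).2, mul_one]
      rw [hγ, det_smul, det_mul, e, h2, inv_pow, inv_mul_cancel₀ (pow_ne_zero _ D.two)]

/-- A scalar square root of `-1` in `R`. -/
theorem Doubling.four' : ∃ j ∈ R, j ∈ scalars (ι ⊕ ι) F ∧ j * j = -1 := by
  obtain ⟨j, hj, hjs, hj2⟩ := L.four
  obtain ⟨c, hc⟩ := (mem_scalars_iff j).1 hjs
  refine ⟨bd (j, j), hj, (mem_scalars_iff _).2 ⟨c, ?_⟩, ?_⟩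
  · rw [bd_val, hc, ← fromBlocks_one, fromBlocks_smul, smul_zero]
  · rw [bd_mul, hj2, bd_neg]; exact congrArg _ (map_one bd)

theorem Doubling.bd_scalar {s : GL ι F} (hs : s ∈ scalars ι F) : bd (s, s) ∈ scalars (ι ⊕ ι) F := by
  obtain ⟨c, hc⟩ := (mem_scalars_iff s).1 hs
  refine (mem_scalars_iff _).2 ⟨c, ?_⟩
  rw [bd_val, hc, ← fromBlocks_one, fromBlocks_smul, smul_zero]

/-- Fusion of classes. -/
theorem Doubling.fuse {v w g s : GL (ι ⊕ ι) F} (hv : v ∈ R) (hw : w ∈ R) (hns : v ∉ scalars (ι ⊕ ι) F)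
    (hs : s ∈ scalars (ι ⊕ ι) F) (h : g * v * g⁻¹ = s * w) :
    ∃ n ∈ subgroupNormalizer R ⊓ (G₂ ⊓ specialLinear (ι ⊕ ι) F), ∃ s' ∈ scalars (ι ⊕ ι) F, n * w * n⁻¹ = s' * v := by
  have D := L.split.data
  obtain ⟨j, hj, hjs, hj2⟩ := L.four'
  obtain ⟨⟨a, ha, haR, ha2⟩, -⟩ := D.rootify hj hjs hj2 hv
  obtain ⟨⟨b, hb, hbR, hb2⟩, -⟩ := D.rootify hj hjs hj2 hw
  have hwns : w ∉ scalars (ι ⊕ ι) F := fun hw' => hns (by
    rw [show v = g⁻¹ * (g * v * g⁻¹) * g by group, h, ← scalar_comm (mul_mem hs hw') g⁻¹, inv_mul_cancel_right]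
    exact mul_mem hs hw')
  have strip : ∀ {c x : GL (ι ⊕ ι) F}, c ∈ scalars (ι ⊕ ι) F → x ∉ scalars (ι ⊕ ι) F →
      c * x ∉ scalars (ι ⊕ ι) F := fun hc hx hcx => hx (by
    have := mul_mem (inv_mem hc) hcx
    rwa [inv_mul_cancel_left] at this)
  obtain ⟨n, hn, c, hc, hnc⟩ := D.trans_root L.eight L.amb hbR haR hb2 ha2 (strip hb hwns) (strip ha hns)
  refine ⟨n, hn, b⁻¹ * c * a, mul_mem (mul_mem (inv_mem hb) hc) ha, ?_⟩
  rw [← mul_assoc n b, ← scalar_comm hb n, show b * n * w * n⁻¹ = b * (n * w * n⁻¹) by group] at hnc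
  rw [show b⁻¹ * c * a * v = b⁻¹ * (c * (a * v)) by group, ← hnc, inv_mul_cancel_left]

/-- Non-scalar involutions are conjugate to `sg`. -/
theorem Doubling.conj_sg {x : GL (ι ⊕ ι) F} (hx : x ∈ R) (hns : x ∉ scalars (ι ⊕ ι) F) (hx2 : x * x = 1) :
    ∃ m ∈ subgroupNormalizer R ⊓ (G₂ ⊓ specialLinear (ι ⊕ ι) F),
      m * x * m⁻¹ = sg ∨ m * x * m⁻¹ = -(sg : GL (ι ⊕ ι) F) := by
  have D := L.split.data
  obtain ⟨j, hj, hjs, hj2⟩ := L.four'
  have hsgns : (sg : GL (ι ⊕ ι) F) ∉ scalars (ι ⊕ ι) F := fun h => by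
    have e := scalar_comm h sw
    rw [sg, sw_bd, mul_left_inj, bd_inj] at e
    exact ne_neg D.two _ e.1
  have hsg2 : (sg : GL (ι ⊕ ι) F) * sg = 1 := by
    rw [sg, bd_mul, one_mul, neg_mul_neg, one_mul]; exact map_one bd
  have sq' : ∀ {y : GL (ι ⊕ ι) F}, y * y = 1 → j * y * (j * y) = -1 := fun {y} e => by
    rw [mul_assoc, ← mul_assoc y, ← scalar_comm hjs y, ← mul_assoc, ← mul_assoc, hj2, neg_one_mul, neg_mul, e]
  have strip : ∀ {y : GL (ι ⊕ ι) F}, y ∉ scalars (ι ⊕ ι) F → j * y ∉ scalars (ι ⊕ ι) F := fun hy h => hy (by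
    have := mul_mem (inv_mem hjs) h
    rwa [inv_mul_cancel_left] at this)
  obtain ⟨m, hm, c, hc, hmc⟩ := D.trans_root L.eight L.amb (R.mul_mem hj hx) (R.mul_mem hj L.split.sg_mem)
    (sq' hx2) (sq' hsg2) (strip hns) (strip hsgns)
  rw [← mul_assoc m, ← scalar_comm hjs m, show j * m * x * m⁻¹ = j * (m * x * m⁻¹) by group, ← mul_assoc c,
    ← scalar_comm hjs c, mul_assoc j c] at hmc
  exact ⟨m, hm, D.sign_of_conj hx L.split.sg_mem (hsg2.trans hx2.symm) hc (mul_left_cancel hmc)⟩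

/-- The diagonal transvections. -/
theorem Doubling.delta {v : GL ι F} (hv : v ∈ small R) (hv2 : v * v = -1) :
    ∃ δ t : GL ι F, mat t = 1 + mat v ∧ (∃ s ∈ scalars ι F, δ = s * t) ∧
      bd (δ, δ) ∈ subgroupNormalizer R ⊓ (G₂ ⊓ specialLinear (ι ⊕ ι) F) := by
  have D' := L.split.small_data
  have D := L.split.data
  obtain ⟨t, ht⟩ := D'.exists_tv hv2
  obtain ⟨j, hjR, hjs, hj2⟩ := L.four
  obtain ⟨c, hc⟩ := (mem_scalars_iff j).1 hjs
  have hc2 : (c : F) * c = -1 := by
    have := congrArg (fun u : GL ι F => mat u (Classical.arbitrary ι) (Classical.arbitrary ι)) hj2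
    simpa [hc, smul_smul] using this
  have h1c : 1 + (c : F) ≠ 0 := fun h => D.two (by linear_combination hc2 - ((c : F) - 1) * h)
  obtain ⟨s, hs, hsval⟩ : ∃ s ∈ scalars ι F, mat s = (1 + (c : F))⁻¹ • (1 : Matrix ι ι F) := by
    refine ⟨Units.map (Matrix.scalar ι : F →+* Matrix ι ι F).toMonoidHom (Units.mk0 _ (inv_ne_zero h1c)),
      ⟨_, rfl⟩, ?_⟩
    show Matrix.scalar ι (1 + (c : F))⁻¹ = _
    rw [Matrix.scalar_apply, ← Matrix.smul_one_eq_diagonal]
  refine ⟨s * t, t, ht, ⟨s, hs, rfl⟩, ?_, ?_⟩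
  · rw [← bd_mul]
    refine mul_mem (scalar_mem_normalizer (L.bd_scalar hs) R) (D.tv_normalizer (z := bd (v, v)) ?_ hv ?_)
    · rw [bd_val, bd_val, ht, ← fromBlocks_one, fromBlocks_add, add_zero]
    · rw [bd_mul, hv2, bd_neg]; exact congrArg _ (map_one bd)
  · refine ⟨?_, mem_sl.2 ?_⟩
    · rw [← bd_mul]
      refine L.scaled (bd (v, v)) hv ?_ (bd (t, t)) ?_ c (bd (j, j)) (bd (s, s)) hjR hc2 ?_ ?_
      · rw [bd_mul, hv2, bd_neg]; exact congrArg _ (map_one bd)
      · rw [bd_val, bd_val, ht, ← fromBlocks_one, fromBlocks_add, add_zero]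
      · rw [bd_val, hc, ← fromBlocks_one, fromBlocks_smul, smul_zero]
      · rw [bd_val, hsval, ← fromBlocks_one, fromBlocks_smul, smul_zero]
    have hdt : (mat t).det * (mat t).det = (2 : F) ^ Fintype.card ι := by
      rw [← det_mul, tv_sq ht hv2, det_smul, L.det_small hv, mul_one]
    rw [det_bd, Units.val_mul, det_mul, hsval, det_smul, det_one, mul_one, mul_mul_mul_comm, hdt, ← mul_pow,
      ← mul_pow]
    have h2c : (1 + (c : F)) * (1 + c) = 2 * c := by linear_combination hc2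
    rw [← mul_inv, h2c, mul_inv, mul_comm (2 : F)⁻¹, mul_assoc, inv_mul_cancel₀ D.two, mul_one, inv_pow, inv_eq_one]
    obtain ⟨k, hk⟩ := L.dvd
    rw [hk, pow_mul, show (c : F) ^ 4 = (c * c) * (c * c) by ring, hc2, neg_mul_neg, one_mul, one_pow]

/-- Maximality by doubling. -/
theorem Doubling.isMaximalIn [Fintype F]
    (base : IsMaximalIn ((G₁ ⊓ specialLinear ι F)) (subgroupNormalizer (small R) ⊓ (G₁ ⊓ specialLinear ι F))) :
    IsMaximalIn ((G₂ ⊓ specialLinear (ι ⊕ ι) F)) (subgroupNormalizer R ⊓ (G₂ ⊓ specialLinear (ι ⊕ ι) F)) := by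
  classical
  have D := L.split.data
  have D' := L.split.small_data
  have S := L.split
  have small_of : ∀ {u : GL ι F}, (∀ y ∈ small R, u * y * u⁻¹ ∈ small R) → u ∈ subgroupNormalizer (small R) := by
    intro u hu
    have hle : (small R).map (MulAut.conj u).toMonoidHom ≤ small R := by
      rintro _ ⟨x, hx, rfl⟩; exact hu x hx
    have heq : (small R).map (MulAut.conj u).toMonoidHom = small R := Subgroup.eq_of_le_of_card_ge hle
      (le_of_eq (Nat.card_congr ((small R).equivMapOfInjective _ (MulAut.conj u).injective).toEquiv))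
    refine Subgroup.mem_normalizer_iff.2 fun x => ⟨hu x, fun hx => ?_⟩
    rw [← heq] at hx
    obtain ⟨y, hy, hye⟩ := hx
    simp at hye
    rwa [← hye]
  refine ⟨lt_of_le_of_ne inf_le_right fun he => ?_, fun H hlow hhigh => ?_⟩
  · obtain ⟨u, hu, huN⟩ := SetLike.exists_of_lt base.1
    have hmem : bd (u, 1) ∈ subgroupNormalizer R ⊓ (G₂ ⊓ specialLinear (ι ⊕ ι) F) := by
      rw [he]
      exact L.bd_mem_X hu.1 G₁.one_mem (by rw [mem_sl.1 hu.2, Units.val_one, det_one, mul_one])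
    refine huN ⟨small_of fun y hy => ?_, hu⟩
    have h := (Subgroup.mem_normalizer_iff.1 hmem.1 _).1 (mem_small.1 hy)
    rw [bd_inv, bd_mul, bd_mul, one_mul, inv_one, mul_one] at h
    obtain ⟨a, ha, e | e⟩ := S.comm_cases h (sg_comm_bd _ _).symm <;> rw [bd_inj] at e
    · rw [e.1]; exact ha
    · rw [e.1]; exact ha
  rw [or_iff_not_imp_right]
  intro hne
  refine le_antisymm ?_ hlow
  have hRH : R ≤ H := fun x hx => hlow ⟨Subgroup.le_normalizer hx, L.le_X hx⟩
  have hdiag : ∀ {a : GL ι F}, a ∈ subgroupNormalizer (small R) → a ∈ (G₁ ⊓ specialLinear ι F) → bd (a, a) ∈ H := by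
    intro a ha haS
    refine hlow ⟨S.mem_normalizer (fun y hy => ?_) ?_ ?_, ?_⟩
    · rw [bd_inv, bd_mul, bd_mul]; exact (Subgroup.mem_normalizer_iff.1 ha y).1 hy
    · rw [← sg_comm_bd, mul_inv_cancel_right]; exact S.sg_mem
    · rw [← sw_bd, mul_inv_cancel_right]; exact S.sw_mem
    · exact L.bd_mem_X haS.1 haS.1 (by rw [mem_sl.1 haS.2, mul_one])
  have hright : ∀ r ∈ small R, bd (1, r) ∈ H := by
    intro r hr
    refine hlow ⟨S.mem_normalizer (fun y hy => ?_) ?_ ?_, ?_⟩
    · rw [bd_inv, bd_mul, bd_mul, inv_one, one_mul, mul_one]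
      rcases D'.comm r hr y hy with e | e
      · rw [e, mul_inv_cancel_right]; exact hy
      · rw [e, neg_mul, mul_inv_cancel_right]; exact S.sign_mem hy
    · rw [← sg_comm_bd, mul_inv_cancel_right]; exact S.sg_mem
    · rw [bd_inv, mul_assoc, sw_bd, ← mul_assoc, bd_mul, inv_one, one_mul, mul_one]
      refine R.mul_mem ?_ S.sw_mem
      rcases D'.sq r hr with h | h
      · rw [inv_eq_of_mul_eq_one_right h]; exact hr
      · rw [inv_eq_of_mul_eq_one_right (show r * -r = 1 by rw [mul_neg, h, neg_neg]),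
          show bd (-r, r) = -bd (r, -r) by rw [← bd_neg, neg_neg], ← neg_one_mul]
        exact R.mul_mem D.neg (S.sign_mem hr)
    · exact L.bd_mem_X G₁.one_mem (L.small_le hr).1 (by rw [L.det_small hr, Units.val_one, det_one, mul_one])
  have hswap : ∀ {a b : GL ι F}, bd (a, b) ∈ H → bd (b, a) ∈ H := fun {a b} h => by
    rw [← sw_conj]; exact H.mul_mem (H.mul_mem (hRH S.sw_mem) h) (H.inv_mem (hRH S.sw_mem))
  let Xp : Subgroup (GL ι F) :=
    { carrier := {a | a ∈ (G₁ ⊓ specialLinear ι F) ∧ ∃ b, bd (a, b) ∈ H}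
      one_mem' := ⟨one_mem _, 1, by rw [show bd ((1 : GL ι F), (1 : GL ι F)) = 1 from map_one bd]; exact H.one_mem⟩
      mul_mem' := fun {a c} ⟨ha, b, hb⟩ ⟨hc, d, hd⟩ => ⟨mul_mem ha hc, b * d, by rw [← bd_mul]; exact H.mul_mem hb hd⟩
      inv_mem' := fun {a} ⟨ha, b, hb⟩ => ⟨inv_mem ha, b⁻¹, by rw [← bd_inv]; exact H.inv_mem hb⟩ }
  have hN'X : subgroupNormalizer (small R) ⊓ (G₁ ⊓ specialLinear ι F) ≤ Xp := fun a ha => ⟨ha.2, a, hdiag ha.1 ha.2⟩
  have hcard3 : 3 ≤ Fintype.card ι := by have := L.four_le; omega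
  rcases base.2 Xp hN'X (fun a ha => ha.1) with hX | hX
  swap
  · -- the blocks are full
    exfalso
    refine hne (le_antisymm hhigh ?_)
    let K : Subgroup (GL ι F) := H.comap (bd.comp ((1 : GL ι F →* GL ι F).prod (MonoidHom.id _)))
    have hK : ∀ {k}, k ∈ K ↔ bd (1, k) ∈ H := Iff.rfl
    obtain ⟨x, hx, hxns⟩ : ∃ x ∈ small R, x ∉ scalars ι F := by
      by_contra h
      push Not at h
      have hle : Submodule.span F (matrixSet (small R)) ≤ Submodule.span F {(1 : Matrix ι ι F)} := by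
        rw [Submodule.span_le]
        rintro _ ⟨g, hg, rfl⟩
        obtain ⟨c, hc⟩ := (mem_scalars_iff g).1 (h g hg)
        show mat g ∈ _
        rw [hc]
        exact Submodule.smul_mem _ _ (Submodule.mem_span_singleton_self _)
      rw [CfsgLib.Aschbacher.span_eq_top_of_absIrred D'.abs, top_le_iff] at hle
      have h1 : Module.finrank F ↥(Submodule.span F {(1 : Matrix ι ι F)}) = 1 := finrank_span_singleton one_ne_zero
      rw [hle, finrank_top, Module.finrank_matrix, Module.finrank_self, mul_one] at h1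
      nlinarith
    have hKS : (G₁ ⊓ specialLinear ι F) ≤ K := by
      refine L.simple K (fun h hh k hk _ => ?_) x (hright x hx) (L.small_le hx) hxns
      obtain ⟨-, b, hb⟩ : h ∈ Xp := hX ▸ hh
      have := H.mul_mem (H.mul_mem (hswap hb) (hK.1 hk)) (H.inv_mem (hswap hb))
      rw [bd_inv, bd_mul, bd_mul, mul_one, mul_inv_cancel] at this
      exact this
    have hpair : ∀ {a b : GL ι F}, a ∈ (G₁ ⊓ specialLinear ι F) → b ∈ (G₁ ⊓ specialLinear ι F) → bd (a, b) ∈ H :=
      fun {a b} ha hb => by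
        have := H.mul_mem (hswap (hK.1 (hKS ha))) (hK.1 (hKS hb))
        rwa [bd_mul, mul_one, one_mul] at this
    -- an involution of the small group, and the determinant
    obtain ⟨j, hj, hjs, hj2⟩ := L.four
    obtain ⟨-, sx, hsx, hrR, hr2⟩ := D'.rootify hj hjs hj2 hx
    obtain ⟨r, hr⟩ : ∃ r, r = sx * x := ⟨_, rfl⟩
    rw [← hr] at hrR hr2
    have hrns : r ∉ scalars ι F := fun h => hxns (by
      rw [hr] at h
      have := mul_mem (inv_mem hsx) h
      rwa [inv_mul_cancel_left] at this)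
    have hbns : bd (r, r) ∉ scalars (ι ⊕ ι) F := fun h => hrns (D'.scalar_of_comm fun y _ => by
      have := scalar_comm h (bd (y, y))
      rw [bd_mul, bd_mul, bd_inj] at this
      exact this.1)
    obtain ⟨m, hm, hms⟩ := L.conj_sg (mem_small.1 hrR) hbns (by rw [bd_mul, hr2]; exact map_one bd)
    have hdd : ∀ a ∈ G₁, ∃ A B : GL ι F, (mat A).det = (mat a).det ∧ bd (A, B) ∈ H := by
      intro a ha
      obtain ⟨A, hAG, B, hBG, hA2, hAB2, hAr, hBr, kA, kB⟩ := L.diag r hrR hrns hr2 a ha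
      refine ⟨A, B, hA2, ?_⟩
      obtain ⟨g, hg⟩ : ∃ g, g = bd (A, B) := ⟨_, rfl⟩
      have hgd : (mat g).det = 1 := by rw [hg, det_bd, hAB2]
      have hgr : g * bd (r, r) = bd (r, r) * g := by
        rw [hg, bd_mul, bd_mul, bd_inj]
        exact ⟨hAr, hBr⟩
      have hkill : (1 - mat (bd (r, r))) * (mat g - 1) = 0 := by
        rw [hg, bd_val, bd_val, ← fromBlocks_one]
        simp only [sub_eq_add_neg, fromBlocks_neg, fromBlocks_add, fromBlocks_multiply, neg_zero, add_zero,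
          Matrix.mul_zero, Matrix.zero_mul, zero_add]
        rw [sub_eq_add_neg, sub_eq_add_neg] at kA kB
        rw [kA, kB, fromBlocks_zero]
      obtain ⟨g', hg'⟩ : ∃ g', g' = m * g * m⁻¹ := ⟨_, rfl⟩
      have hgg : g' * sg = sg * g' := by
        have e : g' * (m * bd (r, r) * m⁻¹) = m * bd (r, r) * m⁻¹ * g' := by
          rw [hg', show m * g * m⁻¹ * (m * bd (r, r) * m⁻¹) = m * (g * bd (r, r)) * m⁻¹ by group, hgr]; group
        rcases hms with h | h <;> rw [h] at e
        · exact e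
        · rwa [mul_neg, neg_mul, neg_inj] at e
      obtain ⟨P, Q, hPQ⟩ := exists_bd_of_comm D.two hgg
      have hkill' : (1 - mat (m * bd (r, r) * m⁻¹)) * (mat g' - 1) = 0 := by
        have := congrArg (fun M => mat m * M * mat m⁻¹) hkill
        simp only [Matrix.mul_zero, Matrix.zero_mul] at this
        rw [← this, hg']
        simp only [Units.val_mul, sub_mul, mul_sub, one_mul, mul_one, Matrix.mul_assoc, Units.inv_mul_cancel_left,
          Units.mul_inv]
      have hdet' : (mat g').det = 1 := by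
        rw [hg', Units.val_mul, Units.val_mul, det_units_conj, hgd]
      have hzero : ∀ {M : Matrix ι ι F}, (1 + 1) * (M - 1) = (0 : Matrix ι ι F) → M = 1 := fun {M} h => by
        rw [add_mul, one_mul, ← two_smul F] at h
        exact sub_eq_zero.1 ((smul_eq_zero.1 h).resolve_left D.two)
      have hside : P = 1 ∨ Q = 1 := by
        rcases hms with h | h <;> rw [h, hPQ] at hkill'
        · rw [sg, bd_val, bd_val, ← fromBlocks_one] at hkill'
          simp only [sub_eq_add_neg, fromBlocks_neg, fromBlocks_add, fromBlocks_multiply, Units.val_one,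
            Units.val_neg, neg_neg, neg_zero, add_zero, Matrix.mul_zero, Matrix.zero_mul, zero_add,
            ← fromBlocks_zero, fromBlocks_inj] at hkill'
          exact Or.inr (Units.ext (hzero (by rw [sub_eq_add_neg]; exact hkill'.2.2.2)))
        · rw [sg, Units.val_neg, bd_val, bd_val, ← fromBlocks_one] at hkill'
          simp only [sub_eq_add_neg, fromBlocks_neg, fromBlocks_add, fromBlocks_multiply, Units.val_one,
            Units.val_neg, neg_neg, neg_zero, add_zero, Matrix.mul_zero, Matrix.zero_mul, zero_add,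
            ← fromBlocks_zero, fromBlocks_inj] at hkill'
          exact Or.inl (Units.ext (hzero (by rw [sub_eq_add_neg]; exact hkill'.1)))
      have hg'H : g' ∈ H := by
        have hgG : g' ∈ G₂ := by
          rw [hg', hg]
          exact G₂.mul_mem (G₂.mul_mem hm.2.1 ((L.mem_bd A B).2 ⟨hAG, hBG⟩)) (G₂.inv_mem hm.2.1)
        rw [hPQ, L.mem_bd] at hgG
        rw [hPQ, det_bd] at hdet'
        rw [hPQ]
        rcases hside with rfl | rfl
        · exact hpair (one_mem _) ⟨hgG.2, mem_sl.2 (by simpa using hdet')⟩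
        · exact hpair ⟨hgG.1, mem_sl.2 (by simpa using hdet')⟩ (one_mem _)
      have : m⁻¹ * g' * m⁻¹⁻¹ ∈ H := H.mul_mem (H.mul_mem (H.inv_mem (hlow hm)) hg'H) (H.inv_mem (H.inv_mem (hlow hm)))
      rwa [hg', show m⁻¹ * (m * g * m⁻¹) * m⁻¹⁻¹ = g by group, hg] at this
    have hfull : ∀ a b : GL ι F, bd (a, b) ∈ (G₂ ⊓ specialLinear (ι ⊕ ι) F) → bd (a, b) ∈ H := by
      intro a b hab
      obtain ⟨hab1, hab2⟩ := (L.mem_bd a b).1 hab.1
      obtain ⟨A, B, hAd, hAB⟩ := hdd a hab1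
      have hABd := mem_sl.1 (hhigh hAB).2
      rw [det_bd, hAd] at hABd
      obtain ⟨hA1, hB1⟩ := (L.mem_bd A B).1 (hhigh hAB).1
      replace hab := mem_sl.1 hab.2
      rw [det_bd] at hab
      have hq := hpair (a := A⁻¹ * a) (b := B⁻¹ * b) ⟨G₁.mul_mem (G₁.inv_mem hA1) hab1, mem_sl.2 ?_⟩
        ⟨G₁.mul_mem (G₁.inv_mem hB1) hab2, mem_sl.2 ?_⟩
      · have := H.mul_mem hAB hq
        rwa [bd_mul, mul_inv_cancel_left, mul_inv_cancel_left] at this
      · have := congrArg (fun u : GL ι F => (mat u).det) (mul_inv_cancel A)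
        simp only [Units.val_mul, det_mul, Units.val_one, det_one, hAd] at this
        rw [Units.val_mul, det_mul, mul_comm, this]
      · have := congrArg (fun u : GL ι F => (mat u).det) (mul_inv_cancel B)
        simp only [Units.val_mul, det_mul, Units.val_one, det_one] at this
        rw [Units.val_mul, det_mul]
        have hbB : (mat b).det = (mat B).det :=
          mul_left_cancel₀ ((Matrix.isUnit_iff_isUnit_det _).1 a.isUnit).ne_zero (hab.trans hABd.symm)
        rw [hbB, mul_comm, this]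
    have hm' : ∀ {x : GL (ι ⊕ ι) F}, m * x * m⁻¹ = m * bd (r, r) * m⁻¹ → x = bd (r, r) := fun h =>
      mul_left_cancel (mul_right_cancel h)
    have key : ∀ {e : GL (ι ⊕ ι) F}, e = sg ∨ e = -(sg : GL (ι ⊕ ι) F) → m⁻¹ * sg * m⁻¹⁻¹ ≠ e := by
      intro e he heq
      have h1 : m⁻¹ * sg * m⁻¹⁻¹ = bd (r, r) ∨ m⁻¹ * sg * m⁻¹⁻¹ = -bd (r, r) := by
        rcases hms with h | h
        · left; rw [← h]; group
        · right; rw [← neg_neg (sg : GL (ι ⊕ ι) F), ← h, mul_neg, neg_mul]; group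
      have hcases : bd (r, r) = sg ∨ bd (r, r) = -(sg : GL (ι ⊕ ι) F) := by
        rcases he with rfl | rfl <;> rcases h1 with h1 | h1 <;> rw [h1] at heq
        · exact Or.inl heq
        · exact Or.inr (neg_eq_iff_eq_neg.1 heq)
        · exact Or.inr heq
        · exact Or.inl (neg_inj.1 heq)
      rcases hcases with h | h
      · rw [sg, bd_inj] at h; exact ne_neg D'.two _ (h.1.symm.trans h.2)
      · rw [sg, ← bd_neg, neg_neg, bd_inj] at h; exact ne_neg D'.two _ (h.2.symm.trans h.1)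
    exact L.blocks H hhigh hfull (hRH S.sw_mem) _ (H.inv_mem (hlow hm))
      (key (Or.inl rfl)) (key (Or.inr rfl))
  -- the blocks are controlled
  have hXN : ∀ {a b : GL ι F}, bd (a, b) ∈ H → a ∈ (G₁ ⊓ specialLinear ι F) → a ∈ subgroupNormalizer (small R) :=
    fun {a b} h ha => ((hX ▸ (⟨ha, b, h⟩ : a ∈ Xp) : a ∈ subgroupNormalizer (small R) ⊓ (G₁ ⊓ specialLinear ι F))).1
  have hproj : ∀ a b : GL ι F, bd (a, b) ∈ H → a ∈ subgroupNormalizer (small R) := by
    intro a b hab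
    refine small_of fun y hy => ?_
    obtain ⟨j, hj, hjs, hj2⟩ := L.four
    -- the conjugate of the small group
    have hconjS : ∀ z ∈ small R, a * z * a⁻¹ ∈ subgroupNormalizer (small R) := fun z hz => by
      have h := H.mul_mem (H.mul_mem hab (hRH (mem_small.1 hz))) (H.inv_mem hab)
      rw [bd_inv, bd_mul, bd_mul] at h
      refine hXN h ⟨((L.mem_bd _ _).1 (hhigh h).1).1, mem_sl.2 ?_⟩
      rw [Units.val_mul, Units.val_mul, det_units_conj, L.det_small hz]
    obtain ⟨n, hn⟩ : ∃ n, n = a * y * a⁻¹ := ⟨_, rfl⟩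
    rw [← hn]
    have hnN : n ∈ subgroupNormalizer (small R) := hn ▸ hconjS y hy
    have hclass : ∀ v ∈ small R, v * v = -1 → v ∉ scalars ι F → v⁻¹ * (n * v * n⁻¹) ∈ scalars ι F := by
      intro v hv hv2 hvns
      by_contra hne'
      obtain ⟨δ, t, ht, ⟨s, hs, hδ⟩, hδH⟩ := L.delta hv hv2
      have hδN : δ ∈ subgroupNormalizer (small R) := by
        rw [hδ]; exact mul_mem (scalar_mem_normalizer hs _) (D'.tv_normalizer ht hv hv2)
      have hd : a⁻¹ * δ * a ∈ subgroupNormalizer (small R) := by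
        have h := H.mul_mem (H.mul_mem (H.mul_mem (H.inv_mem hab) (hlow hδH)) hab) (H.inv_mem (hlow hδH))
        rw [bd_inv, bd_inv, bd_mul, bd_mul, bd_mul] at h
        have h' := hXN h ⟨((L.mem_bd _ _).1 (hhigh h).1).1, mem_sl.2 (by
          rw [Units.val_mul, Units.val_mul, Units.val_mul, det_mul, det_units_conj', ← det_mul, ← Units.val_mul,
            mul_inv_cancel, Units.val_one, det_one])⟩
        simpa [mul_assoc] using mul_mem h' hδN
      obtain ⟨v', hv'⟩ : ∃ v', v' = n * v * n⁻¹ := ⟨_, rfl⟩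
      rw [← hv'] at hne'
      have hv'R : v' ∈ small R := hv' ▸ (Subgroup.mem_normalizer_iff.1 hnN v).1 hv
      have hv'2 : v' * v' = -1 := by
        rw [hv', show n * v * n⁻¹ * (n * v * n⁻¹) = n * (v * v) * n⁻¹ by group, hv2]; simp
      obtain ⟨t', ht'⟩ := D'.exists_tv hv'2
      -- the commutator lies in the conjugate group
      obtain ⟨z, hz, hnz⟩ : ∃ z ∈ small R, t' * t⁻¹ = a * z * a⁻¹ := by
        refine ⟨y * (a⁻¹ * δ * a * y⁻¹ * (a⁻¹ * δ * a)⁻¹),
          (small R).mul_mem hy ((Subgroup.mem_normalizer_iff.1 hd y⁻¹).1 ((small R).inv_mem hy)), ?_⟩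
        rw [← tv_conj ht hv'.symm ht']
        have e : n * δ * n⁻¹ * δ⁻¹ = n * t * n⁻¹ * t⁻¹ := by
          rw [hδ, _root_.mul_inv_rev, ← mul_assoc n, ← scalar_comm hs n,
            show s * n * t * n⁻¹ * (t⁻¹ * s⁻¹) = s * (n * t * n⁻¹ * t⁻¹) * s⁻¹ by group, scalar_comm hs,
            mul_inv_cancel_right]
        rw [← e, hn]
        group
      have hsq : t' * t⁻¹ * (t' * t⁻¹) ∈ scalars ι F := by
        rw [hnz, show a * z * a⁻¹ * (a * z * a⁻¹) = a * (z * z) * a⁻¹ by group]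
        rcases D'.sq z hz with e | e <;> rw [e]
        · simp [one_mem]
        · simpa using neg_one_mem_scalars
      rcases D'.comm v hv v' hv'R with e | e
      · -- commuting
        have htt : t' * t⁻¹ = t⁻¹ * t' := by
          have h1 : t * t' = t' * t := tv_comm ht (tv_comm ht' e.symm).symm
          exact (Commute.inv_left (h1 : Commute t t')).eq.symm
        obtain ⟨c, hc, hcv⟩ : ∃ c ∈ scalars ι F, t' * t' = c * (v' * v⁻¹ * (t * t)) := by
          refine ⟨1, one_mem _, Units.ext ?_⟩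
          have h2 : mat v⁻¹ * mat v = 1 := by rw [← Units.val_mul, inv_mul_cancel, Units.val_one]
          simp only [Units.val_mul, Units.val_one, one_mul]
          rw [tv_sq ht' hv'2, tv_sq ht hv2, Matrix.mul_smul, Matrix.mul_assoc, h2, Matrix.mul_one]
        rw [show t' * t⁻¹ * (t' * t⁻¹) = t' * (t⁻¹ * t') * t⁻¹ by group, ← htt,
          show t' * (t' * t⁻¹) * t⁻¹ = t' * t' * (t * t)⁻¹ by group, hcv, mul_assoc c, mul_inv_cancel_right] at hsq
        have h3 := mul_mem (inv_mem hc) hsq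
        rw [inv_mul_cancel_left] at h3
        refine hne' ?_
        rw [show v⁻¹ * v' = v⁻¹ * (v' * v⁻¹) * v by group, ← scalar_comm h3 v⁻¹, inv_mul_cancel_right]
        exact h3
      · -- anticommuting
        have e' : v' * v = -(v * v') := by rw [e, neg_neg]
        have hti : t⁻¹ * v' * t = -(v * v') := by
          have h1 : v * (-(v * v')) = -(-(v * v') * v) := by
            rw [mul_neg, neg_mul, neg_inj, mul_assoc, e', mul_neg, neg_neg]
          have k := tv_anti ht hv2 h1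
          rw [mul_neg, mul_neg, ← mul_assoc v, hv2, neg_one_mul, neg_neg] at k
          rw [mul_assoc, ← k, mul_neg, inv_mul_cancel_left]
        have h2 : v' * (-(v * v')) = -(-(v * v') * v') := by
          rw [mul_neg, neg_mul, neg_inj, ← mul_assoc, e', neg_mul]
        have k1 : t' * t⁻¹ * v' * (t' * t⁻¹)⁻¹ = -v := by
          rw [show t' * t⁻¹ * v' * (t' * t⁻¹)⁻¹ = t' * (t⁻¹ * v' * t) * t'⁻¹ by group, hti, tv_anti ht' hv'2 h2,
            mul_inv_cancel_right, mul_neg, ← mul_assoc, e', neg_mul, neg_neg, mul_assoc, hv'2, mul_neg, mul_one]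
        have k2 : t' * t⁻¹ * v * (t' * t⁻¹)⁻¹ = v' * v := by
          rw [show t' * t⁻¹ * v * (t' * t⁻¹)⁻¹ = t' * (t⁻¹ * v * t) * t'⁻¹ by group, mul_assoc t⁻¹,
            ← tv_comm ht (rfl : v * v = v * v), inv_mul_cancel_left, tv_anti ht' hv'2 e', mul_inv_cancel_right]
        have h4 := scalar_comm hsq v'
        have h5 : t' * t⁻¹ * (t' * t⁻¹) * v' * (t' * t⁻¹ * (t' * t⁻¹))⁻¹ = -(v' * v) := by
          rw [show t' * t⁻¹ * (t' * t⁻¹) * v' * (t' * t⁻¹ * (t' * t⁻¹))⁻¹ =
            t' * t⁻¹ * (t' * t⁻¹ * v' * (t' * t⁻¹)⁻¹) * (t' * t⁻¹)⁻¹ by group, k1, mul_neg, neg_mul, k2]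
        rw [h4, mul_inv_cancel_right, ← mul_neg] at h5
        refine hvns ?_
        have h6 : -v = 1 := mul_eq_left.1 h5.symm
        rw [neg_eq_iff_eq_neg] at h6
        rw [h6]; exact neg_one_mem_scalars
    obtain ⟨w, hw, hws⟩ := D'.inner (n := n) fun x hx => by
      have hnx := (Subgroup.mem_normalizer_iff.1 hnN x).1 hx
      obtain ⟨c, hc, hcx⟩ : ∃ c ∈ scalars ι F, n * x * n⁻¹ = c * x := by
        by_cases hxs : x ∈ scalars ι F
        · exact ⟨1, one_mem _, by rw [one_mul, ← scalar_comm hxs n, mul_inv_cancel_right]⟩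
        obtain ⟨⟨sx, hsx, hsxR, hsx2⟩, -⟩ := D'.rootify hj hjs hj2 hx
        have h := hclass _ hsxR hsx2 (fun h => hxs (by
          have := mul_mem (inv_mem hsx) h
          rwa [inv_mul_cancel_left] at this))
        rw [← mul_assoc n, ← scalar_comm hsx n, show sx * n * x * n⁻¹ = sx * (n * x * n⁻¹) by group, _root_.mul_inv_rev,
          show x⁻¹ * sx⁻¹ * (sx * (n * x * n⁻¹)) = x⁻¹ * (n * x * n⁻¹) by group] at h
        exact ⟨_, h, by rw [scalar_comm h x, mul_inv_cancel_left]⟩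
      rcases D'.sign_of_conj hx hx rfl hc hcx with e | e
      · exact Or.inl (mul_inv_eq_iff_eq_mul.1 e)
      · exact Or.inr (by rw [← neg_mul]; exact mul_inv_eq_iff_eq_mul.1 e)
    obtain ⟨c, hc, hnc⟩ : ∃ c ∈ scalars ι F, n = w * c := ⟨_, hws, by group⟩
    obtain ⟨k, hk⟩ := (mem_scalars_iff c).1 hc
    obtain ⟨kj, hkj⟩ := (mem_scalars_iff j).1 hjs
    have hn2 : n * n = 1 ∨ n * n = -1 := by
      rw [hn, show a * y * a⁻¹ * (a * y * a⁻¹) = a * (y * y) * a⁻¹ by group]
      rcases D'.sq y hy with e | e <;> rw [e] <;> simp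
    have hcc : c * c = 1 ∨ c * c = -1 := by
      have e : n * n = w * w * (c * c) := by
        rw [hnc, show w * c * (w * c) = w * (c * w) * c by group, scalar_comm hc w]; group
      rcases D'.sq w hw with e1 | e1 <;> rw [e1] at e
      · rw [one_mul] at e; rwa [e] at hn2
      · rw [neg_one_mul] at e; rw [e] at hn2
        rcases hn2 with e2 | e2
        · exact Or.inr (neg_eq_iff_eq_neg.1 e2)
        · exact Or.inl (neg_inj.1 e2)
    have hcS : c ∈ small R := by
      have val : ∀ {p q : GL ι F} {c d : F}, mat p = c • 1 → mat q = d • 1 → c = d → p = q :=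
        fun h1 h2 h => Units.ext (by rw [h1, h2, h])
      rcases hcc with e | e
      · have hk2 : (k : F) * k = 1 := by
          have := congrArg (fun u : GL ι F => mat u (Classical.arbitrary ι) (Classical.arbitrary ι)) e
          simpa [hk, smul_smul] using this
        rcases mul_self_eq_one_iff.1 hk2 with h | h
        · rw [val hk (q := 1) (by simp) h]; exact one_mem _
        · rw [val hk (q := -1) (by simp) h]; exact D'.neg
      · have hk2 : (k : F) * k = -1 := by
          have := congrArg (fun u : GL ι F => mat u (Classical.arbitrary ι) (Classical.arbitrary ι)) e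
          simpa [hk, smul_smul] using this
        have hj2' : (kj : F) * kj = -1 := by
          have := congrArg (fun u : GL ι F => mat u (Classical.arbitrary ι) (Classical.arbitrary ι)) hj2
          simpa [hkj, smul_smul] using this
        rcases mul_self_eq_mul_self_iff.1 (hk2.trans hj2'.symm) with h | h
        · rw [val hk hkj h]; exact hj
        · rw [val hk (q := -j) (d := -(kj : F)) (by rw [Units.val_neg, hkj, neg_smul]) h, ← neg_one_mul]
          exact (small R).mul_mem D'.neg hj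
    rw [hnc]
    exact (small R).mul_mem hw hcS
  have C : CentData R H :=
    { split := S
      le := hRH
      proj := hproj
      right_mem := hright
      trans := fun r hr hrns hr2 => by
        have hns : bd (r, r) ∉ scalars (ι ⊕ ι) F := fun h => hrns (D'.scalar_of_comm fun y _ => by
          have := scalar_comm h (bd (y, y))
          rw [bd_mul, bd_mul, bd_inj] at this
          exact this.1)
        obtain ⟨m, hm, h⟩ := L.conj_sg (mem_small.1 hr) hns (by rw [bd_mul, hr2]; exact map_one bd)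
        exact ⟨m, ⟨hm.1, hlow hm⟩, h⟩ }
  have LL : Linear R H :=
    { three := hcard3
      four := L.four
      delta := fun v hv hv2 => by
        obtain ⟨δ, t, h1, h2, h3⟩ := L.delta hv hv2
        exact ⟨δ, t, h1, h2, hlow h3⟩ }
  have O : Over ((G₂ ⊓ specialLinear (ι ⊕ ι) F)) H R :=
    { data := D
      amb := L.amb
      low := hlow
      high := hhigh
      eight := L.eight
      cent := fun g hg x hx hxns hgx => by
        obtain ⟨j, hj, hjs, hj2⟩ := L.four'
        obtain ⟨-, sx, hsx, hxR, hx2⟩ := D.rootify hj hjs hj2 hx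
        have hns : sx * x ∉ scalars (ι ⊕ ι) F := fun h => hxns (by
          have := mul_mem (inv_mem hsx) h
          rwa [inv_mul_cancel_left] at this)
        obtain ⟨m, hm, hms⟩ := L.conj_sg hxR hns hx2
        have hgx' : g * (sx * x) = sx * x * g := by
          rw [← mul_assoc, ← scalar_comm hsx g, mul_assoc, hgx, ← mul_assoc]
        have hgg : m * g * m⁻¹ * sg = sg * (m * g * m⁻¹) := by
          have e : m * g * m⁻¹ * (m * (sx * x) * m⁻¹) = m * (sx * x) * m⁻¹ * (m * g * m⁻¹) := by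
            rw [show m * g * m⁻¹ * (m * (sx * x) * m⁻¹) = m * (g * (sx * x)) * m⁻¹ by group, hgx']; group
          rcases hms with h | h <;> rw [h] at e
          · exact e
          · rwa [mul_neg, neg_mul, neg_inj] at e
        obtain ⟨a, b, hab⟩ := exists_bd_of_comm D.two hgg
        have hN : m * g * m⁻¹ ∈ subgroupNormalizer R := hab ▸ C.bd_mem LL
          (hab ▸ H.mul_mem (H.mul_mem (hlow hm) hg) (H.inv_mem (hlow hm)))
        have := mul_mem (mul_mem ((subgroupNormalizer R).inv_mem hm.1) hN) hm.1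
        rwa [show m⁻¹ * (m * g * m⁻¹) * m = g by group] at this
      fuse := fun g _ v hv w hw hns s hs h => L.fuse hv hw hns hs h }
  exact le_inf O.le_normalizer hhigh

end CfsgLib.SympType
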