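import Mathlib

/-!
# The dihedral engine for normalisers of an elementary abelian `W`

If the centralisers of the non-identity elements of `W` lie in `N`, no element outside `N` conjugates one of
them into `N`, and some involution of `N` has on `W` more fixed points than displacements, then `N` is everything.
-/

set_option autoImplicit false

namespace CfsgLib.SympType

variable {G : Type*} [Group G] [Finite G]

/-- The local hypotheses. -/
structure Setup (N W : Subgroup G) : Prop where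
  le : W ≤ N
  normal : ∀ n ∈ N, ∀ w ∈ W, n * w * n⁻¹ ∈ W
  comm : ∀ v ∈ W, ∀ w ∈ W, v * w = w * v
  sq : ∀ w ∈ W, w * w = 1
  self : ∀ n ∈ N, (∀ w ∈ W, n * w = w * n) → n ∈ W
  cent : ∀ w ∈ W, w ≠ 1 → ∀ g : G, g * w = w * g → g ∈ N
  closed : ∀ w ∈ W, w ≠ 1 → ∀ g : G, g * w * g⁻¹ ∈ N → g ∈ N

/-- The displacements of an element on `W`. -/
def disp (W : Subgroup G) (a : G) : Set G := {x | ∃ w ∈ W, x = a * w * a⁻¹ * w⁻¹}

variable {N W : Subgroup G} (S : Setup N W)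
include S

theorem Setup.disp_mem {a : G} (ha : a ∈ N) {x : G} (hx : x ∈ disp W a) : x ∈ W := by
  obtain ⟨w, hw, rfl⟩ := hx
  exact W.mul_mem (S.normal a ha w hw) (W.inv_mem hw)

theorem Setup.disp_commute {a : G} (ha : a ∈ N) (ha2 : a * a = 1) {x : G} (hx : x ∈ disp W a) :
    x * a = a * x := by
  have hxW := S.disp_mem ha hx
  obtain ⟨w, hw, rfl⟩ := hx
  have hai : a⁻¹ = a := inv_eq_of_mul_eq_one_right ha2
  have hwi : w⁻¹ = w := inv_eq_of_mul_eq_one_right (S.sq w hw)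
  have h1 : (a * w * a⁻¹ * w⁻¹)⁻¹ = a * w * a⁻¹ * w⁻¹ := inv_eq_of_mul_eq_one_right (S.sq _ hxW)
  rw [hai, hwi] at h1 ⊢
  rw [_root_.mul_inv_rev, _root_.mul_inv_rev, _root_.mul_inv_rev, hai, hwi] at h1
  calc a * w * a * w * a = a * (w * (a * (w * a))) := by simp only [mul_assoc]
    _ = a * (a * w * a * w) := by rw [← h1]

theorem Setup.exists_disp {a : G} (ha : a ∈ N) (haW : a ∉ W) : ∃ x ∈ disp W a, x ≠ 1 := by
  by_contra h
  push Not at h
  refine haW (S.self a ha fun w hw => ?_)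
  have h1 := h _ ⟨w, hw, rfl⟩
  rw [mul_inv_eq_one] at h1
  rw [← mul_inv_eq_iff_eq_mul]
  exact h1

/-- The dihedral chain. -/
theorem Setup.chain {e y : G} (heW : e ∈ W) (he1 : e ≠ 1) (hy2 : y * y = 1) (A : Subgroup G) (hAN : A ≤ N)
    (hAW : ∀ a ∈ A, a ∈ W → a = 1) (hAe : ∀ a ∈ A, a * e = e * a) (hAy : ∀ a ∈ A, a * y = y * a) :
    y ∈ N ∨ ∃ B : Subgroup G, A ≤ B ∧ B ≤ N ∧ (∀ a ∈ B, a ∈ W → a = 1) ∧ (∀ a ∈ B, a * e = e * a) ∧
      ∃ a ∈ B, ∃ h : G, (∀ b ∈ B, h * b = b * h) ∧ h * y * h⁻¹ = e * a := by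
  classical
  induction A using (inferInstance : WellFoundedGT (Subgroup G)).wf.induction with
  | _ A ih =>
  have he2 := S.sq e heW
  have hse : ∀ j : ℕ, e * (e * y) ^ j = ((e * y) ^ j)⁻¹ * e := fun j => by
    have hs : SemiconjBy e (e * y) (e * y)⁻¹ := by
      show e * (e * y) = (e * y)⁻¹ * e
      rw [_root_.mul_inv_rev, inv_eq_of_mul_eq_one_right he2, inv_eq_of_mul_eq_one_right hy2, ← mul_assoc, he2,
        one_mul, mul_assoc, he2, mul_one]
    have := hs.pow_right j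
    rwa [SemiconjBy, inv_pow] at this
  have hsy : ∀ j : ℕ, y * (e * y) ^ j = ((e * y) ^ j)⁻¹ * y := fun j => by
    have hs : SemiconjBy y (e * y) (e * y)⁻¹ := by
      show y * (e * y) = (e * y)⁻¹ * y
      rw [_root_.mul_inv_rev, inv_eq_of_mul_eq_one_right he2, inv_eq_of_mul_eq_one_right hy2, mul_assoc y e y]
    have := hs.pow_right j
    rwa [SemiconjBy, inv_pow] at this
  have hcomA : ∀ j : ℕ, ∀ a ∈ A, (e * y) ^ j * a = a * (e * y) ^ j := fun j a ha =>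
    ((Commute.mul_left ((hAe a ha).symm : Commute e a) ((hAy a ha).symm : Commute y a)).pow_left j).eq
  have hex : ∃ m : ℕ, 0 < m ∧ (e * y) ^ m ∈ A :=
    ⟨orderOf (e * y), orderOf_pos _, by rw [pow_orderOf_eq_one]; exact A.one_mem⟩
  obtain ⟨m, hm⟩ : ∃ m, m = Nat.find hex := ⟨_, rfl⟩
  obtain ⟨hm0, hmA⟩ : 0 < m ∧ (e * y) ^ m ∈ A := hm ▸ Nat.find_spec hex
  rcases Nat.even_or_odd' m with ⟨j, rfl | rfl⟩
  · obtain ⟨c, hc⟩ : ∃ c, c = (e * y) ^ j := ⟨_, rfl⟩
    have hj : c ∉ A := fun h => Nat.find_min hex (hm ▸ (by omega : j < 2 * j)) ⟨by omega, hc ▸ h⟩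
    have hcc : c * c = (e * y) ^ (2 * j) := by rw [hc, ← pow_add, two_mul]
    rw [← hcc] at hmA
    have hce : c * e * c⁻¹ = c * c * e := by
      have h' := hse j
      rw [← hc] at h'
      rw [mul_assoc, mul_assoc]
      congr 1
      rw [mul_inv_eq_iff_eq_mul, mul_assoc, h', ← mul_assoc, mul_inv_cancel, one_mul]
    have hcN : c ∈ N := S.closed e heW he1 c (hce ▸ N.mul_mem (hAN hmA) (S.le heW))
    have hcc1 : c * c = 1 := hAW _ hmA (by
      have := W.mul_mem (S.normal c hcN e heW) (W.inv_mem heW)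
      rwa [hce, mul_inv_cancel_right] at this)
    have hcinv : c⁻¹ = c := inv_eq_of_mul_eq_one_right hcc1
    have hce' : c * e = e * c := by rw [← mul_inv_eq_iff_eq_mul, hce, hcc1, one_mul]
    have hcy : c * y = y * c := by
      have h' := hsy j
      rw [← hc, hcinv] at h'
      exact h'.symm
    obtain ⟨A', hA'⟩ : ∃ A' : Subgroup G, A' = Subgroup.closure (insert c (A : Set G)) := ⟨_, rfl⟩
    have hmem : ∀ P : G → Prop, P c → (∀ a ∈ A, P a) → P 1 → (∀ u v, P u → P v → P (u * v)) →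
        (∀ u, P u → P u⁻¹) → ∀ a ∈ A', P a := by
      intro P hPc hPA h1 hmul hinv a ha
      rw [hA'] at ha
      induction ha using Subgroup.closure_induction with
      | mem x hx =>
        rcases Set.mem_insert_iff.1 hx with rfl | hx
        exacts [hPc, hPA x hx]
      | one => exact h1
      | mul u v _ _ hu hv => exact hmul u v hu hv
      | inv u _ hu => exact hinv u hu
    have hlt : A < A' := by
      refine lt_of_le_of_ne (hA' ▸ fun a ha => Subgroup.subset_closure (Set.mem_insert_of_mem _ ha)) fun h => hj ?_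
      rw [h, hA']
      exact Subgroup.subset_closure (Set.mem_insert _ _)
    have hN' : A' ≤ N := hmem (· ∈ N) hcN hAN N.one_mem (fun _ _ => N.mul_mem) (fun _ => N.inv_mem)
    have hcom : ∀ z : G, c * z = z * c → (∀ a ∈ A, a * z = z * a) → ∀ a ∈ A', a * z = z * a :=
      fun z hz hAz => hmem (fun a => a * z = z * a) hz hAz (by simp)
        (fun u v hu hv => (Commute.mul_left (hu : Commute u z) hv).eq) (fun u hu => (Commute.inv_left (hu : Commute u z)).eq)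
    by_cases hbad : ∀ a ∈ A', a ∈ W → a = 1
    · rcases ih A' hlt hN' hbad (hcom e hce' hAe) (hcom y hcy hAy) with h | ⟨B, hB, rest⟩
      · exact Or.inl h
      · exact Or.inr ⟨B, hlt.le.trans hB, rest⟩
    · push Not at hbad
      obtain ⟨r, hrA, hrW, hr1⟩ := hbad
      exact Or.inl (S.cent r hrW hr1 y (hcom y hcy hAy r hrA).symm)
  · refine Or.inr ⟨A, le_rfl, hAN, hAW, hAe, (e * y) ^ (2 * j + 1), hmA, (e * y) ^ (j + 1), hcomA _, ?_⟩
    obtain ⟨h, hh⟩ : ∃ h, h = (e * y) ^ (j + 1) := ⟨_, rfl⟩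
    obtain ⟨a, ha⟩ : ∃ a, a = (e * y) ^ (2 * j + 1) := ⟨_, rfl⟩
    rw [← ha] at hmA
    rw [← hh, ← ha]
    have h' := hsy (j + 1)
    rw [← hh] at h'
    have h'' : y * h⁻¹ = h * y := by
      rw [mul_inv_eq_iff_eq_mul, mul_assoc, h', ← mul_assoc, mul_inv_cancel, one_mul]
    rw [mul_assoc, h'', ← mul_assoc, hh, ← pow_add, show j + 1 + (j + 1) = 2 * j + 1 + 1 by omega, pow_succ, ← ha,
      mul_assoc, mul_assoc e y y, hy2, mul_one, hAe a hmA]

omit [Finite G] in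
theorem Setup.zpowers_disjoint {a : G} (ha2 : a * a = 1) (haW : a ∉ W) :
    ∀ b ∈ Subgroup.zpowers a, b ∈ W → b = 1 := by
  intro b hb hbW
  obtain ⟨k, rfl⟩ := Subgroup.mem_zpowers_iff.1 hb
  rcases Int.even_or_odd' k with ⟨l, rfl | rfl⟩
  · rw [zpow_mul, zpow_two, ha2, one_zpow]
  · rw [zpow_add, zpow_mul, zpow_two, ha2, one_zpow, one_mul, zpow_one] at hbW
    exact absurd hbW haW

/-- An involution with a fixed point outside its displacements has its centraliser in `N`. -/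
theorem Setup.cent_of_fix {a x : G} (ha : a ∈ N) (ha2 : a * a = 1) (haW : a ∉ W) (hx : x ∈ W) (hxa : x * a = a * x)
    (hxd : x ∉ disp W a) (hx1 : x ≠ 1) {g : G} (hg : g * a = a * g) : g ∈ N := by
  obtain ⟨e, he, he1⟩ := S.exists_disp ha haW
  have heW := S.disp_mem ha he
  have hea := S.disp_commute ha ha2 he
  have hcomz : ∀ z : G, a * z = z * a → ∀ b ∈ Subgroup.zpowers a, b * z = z * b := fun z hz b hb => by
    obtain ⟨k, rfl⟩ := Subgroup.mem_zpowers_iff.1 hb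
    exact ((Commute.zpow_left (hz : Commute a z)) k).eq
  have hy : g * x * g⁻¹ * a = a * (g * x * g⁻¹) :=
    ((Commute.mul_left (Commute.mul_left (hg : Commute g a) hxa) (Commute.inv_left (hg : Commute g a)))).eq
  rcases S.chain (y := g * x * g⁻¹) heW he1 (by
      rw [show g * x * g⁻¹ * (g * x * g⁻¹) = g * (x * x) * g⁻¹ by group, S.sq x hx, mul_one, mul_inv_cancel])
      (Subgroup.zpowers a) (Subgroup.zpowers_le.2 ha) (Setup.zpowers_disjoint S ha2 haW) (hcomz e hea.symm)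
      (hcomz _ hy.symm) with h | ⟨B, hAB, hBN, hBW, -, a', ha', h, hh, heq⟩
  · exact S.closed x hx hx1 g h
  exfalso
  have hn : h * g * x * (h * g)⁻¹ = e * a' := by rw [← heq]; group
  have hnN : h * g ∈ N := S.closed x hx hx1 _ (hn ▸ N.mul_mem (S.le heW) (hBN ha'))
  have ha'1 : a' = 1 := hBW _ ha' (by
    have := W.mul_mem (W.inv_mem heW) (S.normal _ hnN x hx)
    rwa [hn, inv_mul_cancel_left] at this)
  rw [ha'1, mul_one] at hn
  have hna : Commute (h * g) a := Commute.mul_left (hh a (hAB (Subgroup.mem_zpowers a))) hg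
  obtain ⟨w, hw, hew⟩ := he
  refine hxd ⟨(h * g)⁻¹ * w * (h * g), ?_, ?_⟩
  · have := S.normal _ (N.inv_mem hnN) w hw
    rwa [inv_inv] at this
  have hx' : x = (h * g)⁻¹ * (a * w * a⁻¹ * w⁻¹) * (h * g) := by rw [← hew, ← hn]; group
  rw [hx']
  have h1 := hna.inv_left.eq
  have h2 := hna.inv_right.eq
  calc (h * g)⁻¹ * (a * w * a⁻¹ * w⁻¹) * (h * g)
      = ((h * g)⁻¹ * a) * w * (a⁻¹ * (h * g)) * ((h * g)⁻¹ * w⁻¹ * (h * g)) := by group
    _ = (a * (h * g)⁻¹) * w * ((h * g) * a⁻¹) * ((h * g)⁻¹ * w⁻¹ * (h * g)) := by rw [h1, h2]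
    _ = a * ((h * g)⁻¹ * w * (h * g)) * a⁻¹ * ((h * g)⁻¹ * w * (h * g))⁻¹ := by group

/-- No element off `N` conjugates such an involution into `N`. -/
theorem Setup.closed_of_fix {s x : G} (hs : s ∈ N) (hs2 : s * s = 1) (hsW : s ∉ W) (hx : x ∈ W)
    (hxs : x * s = s * x) (hxd : x ∉ disp W s) (hx1 : x ≠ 1) {g : G} (hg : g * s * g⁻¹ ∈ N) : g ∈ N := by
  obtain ⟨s', hs'⟩ : ∃ s', s' = g * s * g⁻¹ := ⟨_, rfl⟩
  rw [← hs'] at hg
  by_cases hs'W : s' ∈ W
  · have hs'1 : s' ≠ 1 := fun h => hsW (by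
      rw [show s = g⁻¹ * s' * g by rw [hs']; group, h, mul_one, inv_mul_cancel]
      exact W.one_mem)
    have := S.closed s' hs'W hs'1 g⁻¹ (by rw [show g⁻¹ * s' * g⁻¹⁻¹ = s by rw [hs']; group]; exact hs)
    simpa using N.inv_mem this
  have hs'2 : s' * s' = 1 := by
    rw [hs', show g * s * g⁻¹ * (g * s * g⁻¹) = g * (s * s) * g⁻¹ by group, hs2, mul_one, mul_inv_cancel]
  obtain ⟨e, he, he1⟩ := S.exists_disp hg hs'W
  have heW := S.disp_mem hg he
  have hcomz : ∀ z : G, s' * z = z * s' → ∀ b ∈ Subgroup.zpowers s', b * z = z * b := fun z hz b hb => by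
    obtain ⟨k, rfl⟩ := Subgroup.mem_zpowers_iff.1 hb
    exact ((Commute.zpow_left (hz : Commute s' z)) k).eq
  rcases S.chain (y := g * x * g⁻¹) heW he1 (by
      rw [show g * x * g⁻¹ * (g * x * g⁻¹) = g * (x * x) * g⁻¹ by group, S.sq x hx, mul_one, mul_inv_cancel])
      (Subgroup.zpowers s') (Subgroup.zpowers_le.2 hg) (Setup.zpowers_disjoint S hs'2 hs'W)
      (hcomz e (S.disp_commute hg hs'2 he).symm) (hcomz _ (by
        rw [hs', show g * s * g⁻¹ * (g * x * g⁻¹) = g * (s * x) * g⁻¹ by group, ← hxs]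
        group)) with h | ⟨B, hAB, hBN, hBW, -, a', ha', h, hh, heq⟩
  · exact S.closed x hx hx1 g h
  exfalso
  obtain ⟨n, hndef⟩ : ∃ n, n = h * g := ⟨_, rfl⟩
  have hn : n * x * n⁻¹ = e * a' := by rw [← heq, hndef]; group
  have hnN : n ∈ N := S.closed x hx hx1 n (hn ▸ N.mul_mem (S.le heW) (hBN ha'))
  have ha'1 : a' = 1 := hBW _ ha' (by
    have := W.mul_mem (W.inv_mem heW) (S.normal _ hnN x hx)
    rwa [hn, inv_mul_cancel_left] at this)
  rw [ha'1, mul_one] at hn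
  have hns : n * s * n⁻¹ = s' := by
    rw [hndef, show h * g * s * (h * g)⁻¹ = h * s' * h⁻¹ by rw [hs']; group, hh s' (hAB (Subgroup.mem_zpowers s')),
      mul_inv_cancel_right]
  obtain ⟨w, hw, hew⟩ := he
  refine hxd ⟨n⁻¹ * w * n, ?_, ?_⟩
  · have := S.normal _ (N.inv_mem hnN) w hw
    rwa [inv_inv] at this
  rw [show x = n⁻¹ * (n * x * n⁻¹) * n by group, hn, hew, ← hns]
  group

/-- `N` is the whole group. -/
theorem Setup.mem {s x : G} (hs : s ∈ N) (hs2 : s * s = 1) (hsW : s ∉ W) (hx : x ∈ W) (hxs : x * s = s * x)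
    (hxd : x ∉ disp W s) (hx1 : x ≠ 1) (g : G) : g ∈ N := by
  obtain ⟨e, he, he1⟩ := S.exists_disp hs hsW
  have heW := S.disp_mem hs he
  rcases S.chain (y := g * s * g⁻¹) heW he1 (by
      rw [show g * s * g⁻¹ * (g * s * g⁻¹) = g * (s * s) * g⁻¹ by group, hs2, mul_one, mul_inv_cancel])
      ⊥ bot_le (fun a ha _ => Subgroup.mem_bot.1 ha) (fun a ha => by simp [Subgroup.mem_bot.1 ha])
      (fun a ha => by simp [Subgroup.mem_bot.1 ha]) with h | ⟨B, -, hBN, hBW, hBe, a, ha, h, hh, heq⟩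
  · exact S.closed_of_fix hs hs2 hsW hx hxs hxd hx1 h
  obtain ⟨n, hndef⟩ : ∃ n, n = h * g := ⟨_, rfl⟩
  have hn : n * s * n⁻¹ = e * a := by rw [← heq, hndef]; group
  have hnN : n ∈ N := S.closed_of_fix hs hs2 hsW hx hxs hxd hx1 (hn ▸ N.mul_mem (S.le heW) (hBN ha))
  have ha' : a = e * (n * s * n⁻¹) := by rw [hn, ← mul_assoc, S.sq e heW, one_mul]
  have hxW : n * x * n⁻¹ ∈ W := S.normal n hnN x hx
  have hexW : e * (n * x * n⁻¹) = n * x * n⁻¹ * e := S.comm e heW _ hxW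
  have ha2 : a * a = 1 := by
    have h1 : (e * a) * (e * a) = 1 := by
      rw [← hn, show n * s * n⁻¹ * (n * s * n⁻¹) = n * (s * s) * n⁻¹ by group, hs2, mul_one, mul_inv_cancel]
    rw [mul_assoc, ← mul_assoc a e a, hBe a ha, mul_assoc e a a, ← mul_assoc, S.sq e heW, one_mul] at h1
    exact h1
  have haW : a ∉ W := fun h' => hsW (by
    have h3 : n⁻¹ * (e * a) * n⁻¹⁻¹ ∈ W := S.normal _ (N.inv_mem hnN) _ (W.mul_mem heW h')
    rwa [← hn, show n⁻¹ * (n * s * n⁻¹) * n⁻¹⁻¹ = s by group] at h3)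
  have hfix : n * x * n⁻¹ * a = a * (n * x * n⁻¹) := by
    rw [ha', ← mul_assoc, ← hexW, mul_assoc, mul_assoc e (n * s * n⁻¹) (n * x * n⁻¹)]
    congr 1
    rw [show n * x * n⁻¹ * (n * s * n⁻¹) = n * (x * s) * n⁻¹ by group, hxs]
    group
  have hnd : n * x * n⁻¹ ∉ disp W a := by
    rintro ⟨w, hw, hxw⟩
    obtain ⟨v, hv, hvw⟩ : ∃ v ∈ W, w = n * v * n⁻¹ := ⟨n⁻¹ * w * n, by
      have := S.normal _ (N.inv_mem hnN) w hw
      rwa [inv_inv] at this, by group⟩
    refine hxd ⟨v, hv, ?_⟩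
    have h3 : n * s * n⁻¹ * w * (n * s * n⁻¹)⁻¹ ∈ W :=
      S.normal _ (N.mul_mem (N.mul_mem hnN hs) (N.inv_mem hnN)) w hw
    have h4 : a * w * a⁻¹ = n * s * n⁻¹ * w * (n * s * n⁻¹)⁻¹ := by
      rw [ha', show e * (n * s * n⁻¹) * w * (e * (n * s * n⁻¹))⁻¹ =
        e * (n * s * n⁻¹ * w * (n * s * n⁻¹)⁻¹) * e⁻¹ by group, S.comm e heW _ h3, mul_inv_cancel_right]
    rw [h4, hvw] at hxw
    rw [show x = n⁻¹ * (n * x * n⁻¹) * n by group, hxw]
    group
  have hx1' : n * x * n⁻¹ ≠ 1 := fun h' => hx1 (by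
    rw [show x = n⁻¹ * (n * x * n⁻¹) * n by group, h', mul_one, inv_mul_cancel])
  have hhN : h ∈ N := S.cent_of_fix (hBN ha) ha2 haW hxW hfix hnd hx1' (hh a ha)
  rw [show g = h⁻¹ * n by rw [hndef]; group]
  exact N.mul_mem (N.inv_mem hhN) hnN

end CfsgLib.SympType
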