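import Cfsg.Agent.SympType.Basic

/-!
# Choices of elements in a group of symplectic type, and transitivity on square roots of `-1`
-/

set_option autoImplicit false
set_option linter.unusedSectionVars false

namespace CfsgLib.SympType

open Matrix Cfsg.Geo

local notation:max "mat" => Units.val

variable {ι : Type} [Fintype ι] [DecidableEq ι] {F : Type*} [Field F]

/-- What is used of the ambient group. -/
structure Ambient (X R : Subgroup (GL ι F)) : Prop where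
  le : R ≤ X
  pairMem : ∀ z ∈ R, ∀ z' ∈ R, z * z = -1 → z' * z' = -1 → z ∉ scalars ι F →
    (∃ g : GL ι F, g * z * g⁻¹ = z' ∨ g * z * g⁻¹ = -z') → ∀ t t' γ : GL ι F, mat t = 1 + mat z →
      mat t' = 1 + mat z' → mat γ = (2 : F)⁻¹ • (mat t * mat t') → γ ∈ X

variable [Nonempty ι] {R : Subgroup (GL ι F)} (D : Data R)
include D

theorem Data.exists_half (u : GL ι F) :
    ∃ γ : GL ι F, mat γ = (2 : F)⁻¹ • mat u ∧ ∃ s ∈ scalars ι F, γ = s * u := by
  obtain ⟨s, hs⟩ : ∃ s : GL ι F, s = Units.map (Matrix.scalar ι : F →+* Matrix ι ι F).toMonoidHom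
    (Units.mk0 (2 : F)⁻¹ (inv_ne_zero D.two)) := ⟨_, rfl⟩
  refine ⟨s * u, ?_, s, hs ▸ ⟨_, rfl⟩, rfl⟩
  rw [Units.val_mul, hs]
  show Matrix.scalar ι (2 : F)⁻¹ * _ = _
  rw [Matrix.scalar_apply, ← Matrix.smul_one_eq_diagonal, Matrix.smul_mul, one_mul]

theorem Data.mem_scalar_mul {x : GL ι F} (hx : x ∈ R) {y : GL ι F} (hy : y ∈ R)
    (h : ∀ w ∈ R, bit x w = bit y w) : x⁻¹ * y ∈ scalars ι F := by
  refine D.scalar_of_bit fun w hw => ?_
  have e := D.bit_mul hx (R.mul_mem (R.inv_mem hx) hy) hw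
  rw [mul_inv_cancel_left, h w hw] at e
  exact (left_eq_add.1 e)

theorem Data.exists_bit_one {x : GL ι F} (hns : x ∉ scalars ι F) : ∃ y ∈ R, bit x y = 1 := by
  by_contra h
  push Not at h
  exact hns (D.scalar_of_bit fun y hy => ((by decide : ∀ a : ZMod 2, a ≠ 1 → a = 0) _ (h y hy)))

/-- Two classes have independent bits. -/
theorem Data.exists_bits {a b : GL ι F} (ha : a ∈ R) (hb : b ∈ R) (hna : a ∉ scalars ι F)
    (hnb : b ∉ scalars ι F) (hab : a⁻¹ * b ∉ scalars ι F) :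
    ∃ ua ∈ R, ∃ ub ∈ R, bit a ua = 1 ∧ bit b ua = 0 ∧ bit a ub = 0 ∧ bit b ub = 1 := by
  obtain ⟨w, hw, hw'⟩ : ∃ w ∈ R, bit a w ≠ bit b w := by
    by_contra h
    push Not at h
    exact hab (D.mem_scalar_mul ha hb h)
  obtain ⟨u, hu, hau⟩ := D.exists_bit_one hna
  obtain ⟨v, hv, hbv⟩ := D.exists_bit_one hnb
  have radd : ∀ z ∈ R, ∀ x ∈ R, ∀ y ∈ R, bit z (x * y) = bit z x + bit z y := fun z hz x hx y hy => by
    rw [bit_comm z, D.bit_mul hx hy hz, bit_comm x, bit_comm y]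
  have two : ∀ e : ZMod 2, e = 0 ∨ e = 1 := by decide
  rcases two (bit a w) with h1 | h1 <;> rcases two (bit b w) with h2 | h2
  · exact absurd (h1.trans h2.symm) hw'
  · rcases two (bit b u) with h3 | h3
    · exact ⟨u, hu, w, hw, hau, h3, h1, h2⟩
    · exact ⟨u * w, R.mul_mem hu hw, w, hw, by rw [radd a ha u hu w hw, hau, h1, add_zero],
        by rw [radd b hb u hu w hw, h2, h3]; rfl, h1, h2⟩
  · rcases two (bit a v) with h3 | h3
    · exact ⟨w, hw, v, hv, h1, h2, h3, hbv⟩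
    · exact ⟨w, hw, v * w, R.mul_mem hv hw, h1, h2, by rw [radd a ha v hv w hw, h3, h1]; rfl,
        by rw [radd b hb v hv w hw, hbv, h2, add_zero]⟩
  · exact absurd (h1.trans h2.symm) hw'

/-- The centraliser of two classes is not commutative. -/
theorem Data.exists_orth_anti (h8 : 8 ≤ Fintype.card ι) {a b : GL ι F} (ha : a ∈ R) (hb : b ∈ R)
    (hna : a ∉ scalars ι F) (hnb : b ∉ scalars ι F) (hab : a⁻¹ * b ∉ scalars ι F) :
    ∃ o ∈ R, ∃ o' ∈ R, bit o a = 0 ∧ bit o b = 0 ∧ bit o' a = 0 ∧ bit o' b = 0 ∧ bit o o' = 1 := by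
  classical
  obtain ⟨ua, hua, ub, hub, h1, h2, h3, h4⟩ := D.exists_bits ha hb hna hnb hab
  by_contra h
  push Not at h
  have hO : ∀ o ∈ R, ∀ o' ∈ R, bit o a = 0 → bit o b = 0 → bit o' a = 0 → bit o' b = 0 → bit o o' = 0 :=
    fun o ho o' ho' e1 e2 e3 e4 => (by decide : ∀ c : ZMod 2, c ≠ 1 → c = 0) _ (h o ho o' ho' e1 e2 e3 e4)
  let P : GL ι F → ZMod 2 × ZMod 2 × ZMod 2 × ZMod 2 := fun x => (bit x a, bit x b, bit x ua, bit x ub)
  have hker : ∀ x ∈ R, P x = (0, 0, 0, 0) → x ∈ scalars ι F := by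
    intro x hx hP
    simp only [P, Prod.mk.injEq] at hP
    obtain ⟨e1, e2, e3, e4⟩ := hP
    refine D.scalar_of_bit fun y hy => ?_
    have radd : ∀ p ∈ R, ∀ q ∈ R, bit x (p * q) = bit x p + bit x q := fun p hp q hq => by
      rw [bit_comm x, D.bit_mul hp hq hx, bit_comm p, bit_comm q]
    obtain ⟨y₁, hy₁, hy1a, hy1b, hxy⟩ : ∃ y₁ ∈ R, bit y₁ a = 0 ∧ bit y₁ b = bit y b ∧ bit x y = bit x y₁ := by
      rcases (by decide : ∀ c : ZMod 2, c = 0 ∨ c = 1) (bit y a) with e | e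
      · exact ⟨y, hy, e, rfl, rfl⟩
      · exact ⟨y * ua, R.mul_mem hy hua, by rw [D.bit_mul hy hua ha, e, bit_comm ua, h1]; rfl,
          by rw [D.bit_mul hy hua hb, bit_comm ua, h2, add_zero], by rw [radd y hy ua hua, e3, add_zero]⟩
    rw [hxy]
    rcases (by decide : ∀ c : ZMod 2, c = 0 ∨ c = 1) (bit y₁ b) with e | e
    · exact hO x hx y₁ hy₁ e1 e2 hy1a e
    · have := hO x hx (y₁ * ub) (R.mul_mem hy₁ hub) e1 e2
        (by rw [D.bit_mul hy₁ hub ha, hy1a, bit_comm ub, h3, add_zero])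
        (by rw [D.bit_mul hy₁ hub hb, e, bit_comm ub, h4]; rfl)
      rwa [radd y₁ hy₁ ub hub, e4, add_zero] at this
  have hrep : ∀ c, ∃ y : GL ι F, ∀ x ∈ R, P x = c → ∃ s : F, mat x = s • mat y := by
    intro c
    by_cases hc : ∃ y ∈ R, P y = c
    · obtain ⟨y, hy, hyc⟩ := hc
      refine ⟨y, fun x hx hxc => ?_⟩
      have hs : x * y⁻¹ ∈ scalars ι F := hker _ (R.mul_mem hx (R.inv_mem hy)) (by
        have e : ∀ z ∈ R, bit (x * y⁻¹) z = bit x z + bit y z := fun z hz => by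
          have e' := D.bit_mul (R.mul_mem hx (R.inv_mem hy)) hy hz
          rw [inv_mul_cancel_right] at e'
          rw [e', add_assoc, (by decide : ∀ c : ZMod 2, c + c = 0), add_zero]
        have hxy := hxc.trans hyc.symm
        simp only [P, Prod.mk.injEq] at hxy ⊢
        refine ⟨?_, ?_, ?_, ?_⟩ <;>
        · rw [e _ (by first | exact ha | exact hb | exact hua | exact hub)]
          first
            | rw [hxy.1] | rw [hxy.2.1] | rw [hxy.2.2.1] | rw [hxy.2.2.2]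
          exact (by decide : ∀ c : ZMod 2, c + c = 0) _)
      obtain ⟨s, hs'⟩ := (mem_scalars_iff _).1 hs
      refine ⟨s, ?_⟩
      rw [show x = x * y⁻¹ * y by group, Units.val_mul, hs', Matrix.smul_mul, one_mul]
    · exact ⟨1, fun x hx hxc => absurd ⟨x, hx, hxc⟩ hc⟩
  choose y hy using hrep
  have hspan : Submodule.span F (matrixSet R) ≤ Submodule.span F (Set.range fun c => mat (y c)) := by
    rw [Submodule.span_le]
    rintro _ ⟨x, hx, rfl⟩
    obtain ⟨s, hs⟩ := hy (P x) x hx rfl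
    show mat x ∈ _
    rw [hs]
    exact Submodule.smul_mem _ _ (Submodule.subset_span ⟨P x, rfl⟩)
  rw [CfsgLib.Aschbacher.span_eq_top_of_absIrred D.abs, top_le_iff] at hspan
  have hle := finrank_range_le_card (R := F) fun c => mat (y c)
  rw [Set.finrank, hspan, finrank_top, Module.finrank_matrix, Module.finrank_self, mul_one] at hle
  simp only [Fintype.card_prod, ZMod.card] at hle
  nlinarith

/-- A square root of `-1` anticommuting with two classes. -/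
theorem Data.exists_root_anti (h8 : 8 ≤ Fintype.card ι) {a b : GL ι F} (ha : a ∈ R) (hb : b ∈ R)
    (hna : a ∉ scalars ι F) (hnb : b ∉ scalars ι F) (hab : a⁻¹ * b ∉ scalars ι F) :
    ∃ c ∈ R, c * c = -1 ∧ bit c a = 1 ∧ bit c b = 1 := by
  obtain ⟨ua, hua, ub, hub, h1, h2, h3, h4⟩ := D.exists_bits ha hb hna hnb hab
  obtain ⟨o, ho, o', ho', e1, e2, e3, e4, e5⟩ := D.exists_orth_anti h8 ha hb hna hnb hab
  have hc := R.mul_mem hua hub
  obtain ⟨c₀, hc₀, hca, hcb⟩ : ∃ c ∈ R, bit c a = 1 ∧ bit c b = 1 :=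
    ⟨_, hc, by rw [D.bit_mul hua hub ha, bit_comm ua, bit_comm ub, h1, h3, add_zero],
      by rw [D.bit_mul hua hub hb, bit_comm ua, bit_comm ub, h2, h4, zero_add]⟩
  by_contra hall
  push Not at hall
  have hplus : ∀ w ∈ R, bit w a = 0 → bit w b = 0 → (c₀ * w) * (c₀ * w) = 1 := fun w hw f1 f2 =>
    (D.sq _ (R.mul_mem hc₀ hw)).resolve_right fun h =>
      hall _ (R.mul_mem hc₀ hw) h (by rw [D.bit_mul hc₀ hw ha, hca, f1, add_zero])
        (by rw [D.bit_mul hc₀ hw hb, hcb, f2, add_zero])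
  have hc2 : c₀ * c₀ = 1 := by simpa using hplus 1 R.one_mem (bit_eq_zero.2 (by simp)) (bit_eq_zero.2 (by simp))
  have hmove : ∀ w ∈ R, bit w a = 0 → bit w b = 0 → c₀ * w * c₀⁻¹ = w⁻¹ := fun w hw f1 f2 => by
    rw [inv_eq_of_mul_eq_one_right hc2]
    refine eq_inv_of_mul_eq_one_left ?_
    simpa [mul_assoc] using hplus w hw f1 f2
  have hoo : o * o' ∈ R := R.mul_mem ho ho'
  have k := hmove _ hoo (by rw [D.bit_mul ho ho' ha, e1, e3, add_zero]) (by rw [D.bit_mul ho ho' hb, e2, e4, add_zero])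
  have k1 := hmove o ho e1 e2
  have k2 := hmove o' ho' e3 e4
  rw [show c₀ * (o * o') * c₀⁻¹ = (c₀ * o * c₀⁻¹) * (c₀ * o' * c₀⁻¹) by group, k1, k2, _root_.mul_inv_rev] at k
  have k' : o' * o = o * o' := by
    simpa [mul_assoc] using congrArg (fun g : GL ι F => g⁻¹) k
  rw [bit_eq_zero.2 k'.symm] at e5
  exact zero_ne_one e5

/-- Pairs of transvections. -/
theorem Data.exists_pair {X : Subgroup (GL ι F)} (A : Ambient X R) {z z' : GL ι F} (hz : z ∈ R) (hz' : z' ∈ R)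
    (hz2 : z * z = -1) (hz'2 : z' * z' = -1) (hns : z ∉ scalars ι F)
    (hg : ∃ g : GL ι F, g * z * g⁻¹ = z' ∨ g * z * g⁻¹ = -z') :
    ∃ t t' γ : GL ι F, mat t = 1 + mat z ∧ mat t' = 1 + mat z' ∧ γ ∈ subgroupNormalizer R ⊓ X ∧
      ∃ s ∈ scalars ι F, γ = s * (t * t') := by
  obtain ⟨t, ht⟩ := D.exists_tv hz2
  obtain ⟨t', ht'⟩ := D.exists_tv hz'2
  obtain ⟨γ, hγ, s, hs, hγs⟩ := D.exists_half (t * t')
  rw [Units.val_mul] at hγ
  refine ⟨t, t', γ, ht, ht', ⟨?_, A.pairMem z hz z' hz' hz2 hz'2 hns hg t t' γ ht ht' hγ⟩, s, hs, hγs⟩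
  rw [hγs]
  exact mul_mem (scalar_mem_normalizer hs R) (mul_mem (D.tv_normalizer ht hz hz2) (D.tv_normalizer ht' hz' hz'2))

/-- Anticommuting square roots of `-1` are conjugate. -/
theorem Data.trans_anti {X : Subgroup (GL ι F)} (A : Ambient X R) {a b : GL ι F} (ha : a ∈ R) (hb : b ∈ R)
    (ha2 : a * a = -1) (hb2 : b * b = -1) (hns : a ∉ scalars ι F) (hab : bit a b = 1) :
    ∃ n ∈ subgroupNormalizer R ⊓ X, n * a * n⁻¹ = b := by
  have hab' : a * b = -(b * a) := (D.bit_eq_one ha hb).1 hab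
  have hba' : b * a = -(a * b) := by rw [hab', neg_neg]
  obtain ⟨t, ht⟩ := D.exists_tv ha2
  obtain ⟨t', ht'⟩ := D.exists_tv hb2
  have e1 : t' * a * t'⁻¹ = b * a := by rw [tv_anti ht' hb2 hba', mul_inv_cancel_right]
  have e2 : t * (b * a) * t⁻¹ = b := by
    have hanti : a * (b * a) = -(b * a * a) := by rw [← mul_assoc, hab', neg_mul]
    rw [tv_anti ht ha2 hanti, mul_inv_cancel_right, ← mul_assoc, hab', neg_mul, mul_assoc, ha2, mul_neg, mul_one,
      neg_neg]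
  have hconj : t * t' * a * (t * t')⁻¹ = b := by
    rw [show t * t' * a * (t * t')⁻¹ = t * (t' * a * t'⁻¹) * t⁻¹ by group, e1, e2]
  obtain ⟨t₁, t₂, γ, ht₁, ht₂, hγ, s, hs, hγs⟩ := D.exists_pair A ha hb ha2 hb2 hns ⟨_, Or.inl hconj⟩
  refine ⟨γ, hγ, ?_⟩
  rw [hγs, show t₁ = t from Units.ext (ht₁.trans ht.symm), show t₂ = t' from Units.ext (ht₂.trans ht'.symm),
    show s * (t * t') * a * (s * (t * t'))⁻¹ = s * (t * t' * a * (t * t')⁻¹) * s⁻¹ by group, hconj,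
    scalar_comm hs, mul_inv_cancel_right]

/-- Square roots of `-1` are conjugate up to scalars. -/
theorem Data.trans_root (h8 : 8 ≤ Fintype.card ι) {X : Subgroup (GL ι F)} (A : Ambient X R) {a b : GL ι F}
    (ha : a ∈ R) (hb : b ∈ R) (ha2 : a * a = -1) (hb2 : b * b = -1) (hna : a ∉ scalars ι F)
    (hnb : b ∉ scalars ι F) :
    ∃ n ∈ subgroupNormalizer R ⊓ X, ∃ s ∈ scalars ι F, n * a * n⁻¹ = s * b := by
  by_cases hs : a⁻¹ * b ∈ scalars ι F
  · refine ⟨1, one_mem _, (a⁻¹ * b)⁻¹, inv_mem hs, ?_⟩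
    rw [scalar_comm (inv_mem hs) b, _root_.mul_inv_rev, inv_inv, mul_inv_cancel_left]
    group
  rcases (by decide : ∀ c : ZMod 2, c = 0 ∨ c = 1) (bit a b) with h | h
  · obtain ⟨c, hc, hc2, hca, hcb⟩ := D.exists_root_anti h8 ha hb hna hnb hs
    have hnc : c ∉ scalars ι F := fun h' => by
      rw [bit_eq_zero.2 (scalar_comm h' a)] at hca
      exact zero_ne_one hca
    obtain ⟨n, hn, hna'⟩ := D.trans_anti A ha hc ha2 hc2 hna (by rwa [bit_comm])
    obtain ⟨m, hm, hmc⟩ := D.trans_anti A hc hb hc2 hb2 hnc hcb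
    exact ⟨m * n, mul_mem hm hn, 1, one_mem _, by
      rw [show m * n * a * (m * n)⁻¹ = m * (n * a * n⁻¹) * m⁻¹ by group, hna', hmc, one_mul]⟩
  · obtain ⟨n, hn, hna'⟩ := D.trans_anti A ha hb ha2 hb2 hna h
    exact ⟨n, hn, 1, one_mem _, by rw [hna', one_mul]⟩

end CfsgLib.SympType
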