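import Cfsg.Agent.SympType.Double
import Cfsg.Agent.SympType.Coords
import Cfsg.Agent.MaxSub.UnitaryDecomposition
import Cfsg.Agent.AutPSU.GU

/-!
# Doubling inside the unitary groups `GU_d` and `GU_{2d}`

`R ≤ GL (Fin d ⊕ Fin d)` is the inverse image of a group of isometries of the standard hermitian form on `F^(2d)`
under coordinates taken from an orthonormal basis of an eigen space.
-/

set_option autoImplicit false
set_option linter.unusedSectionVars false

namespace CfsgLib.SympType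

open Matrix Cfsg.Geo CfsgLib.MaxSub

local notation:max "mat" => Units.val

variable {F : Type*} [Field F] [Fintype F] {q n d : ℕ} {σ : F ≃+* F}

/-- An orthonormal frame in two orthogonal halves. -/
structure Frame (q : ℕ) (σ : F ≃+* F) (M : Matrix (Fin n) (Fin d ⊕ Fin d) F) (N : Matrix (Fin d ⊕ Fin d) (Fin n) F) :
    Prop where
  conj : ∀ a, σ a = a ^ q
  herm : IsUnitaryForm σ (Cfsg.hermForm n F q)
  hermd : IsUnitaryForm σ (Cfsg.hermForm d F q)
  card : Fintype.card F = q ^ 2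
  two : (2 : F) ≠ 0
  three : q % 4 = 3
  size : n = d + d
  four_dvd : 4 ∣ d
  pos : 0 < d
  adjoint : N = (M.map σ)ᵀ
  mul_one : M * N = 1
  one_mul : N * M = 1

variable {M : Matrix (Fin n) (Fin d ⊕ Fin d) F} {N : Matrix (Fin d ⊕ Fin d) (Fin n) F} (K : Frame q σ M N)
include K

/-- The coordinate isomorphism. -/
noncomputable def Frame.coord : GL (Fin d ⊕ Fin d) F ≃* GL (Fin n) F := coordEquiv M N K.mul_one K.one_mul

/-- The isometries in coordinates. -/
noncomputable def Frame.GU₂ : Subgroup (GL (Fin d ⊕ Fin d) F) := (Cfsg.GU n F q).comap K.coord.toMonoidHom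

theorem Frame.mem_GU₂ {g : GL (Fin d ⊕ Fin d) F} : g ∈ K.GU₂ ↔ K.coord g ∈ Cfsg.GU n F q := Iff.rfl

/-- The form in coordinates. -/
theorem Frame.herm_mulVec (u v : Fin d ⊕ Fin d → F) :
    Cfsg.hermForm n F q (M *ᵥ u) (M *ᵥ v) =
      Cfsg.hermForm d F q (u ∘ Sum.inl) (v ∘ Sum.inl) + Cfsg.hermForm d F q (u ∘ Sum.inr) (v ∘ Sum.inr) := by
  have h1 : Cfsg.hermForm n F q (M *ᵥ u) (M *ᵥ v) = (M *ᵥ u) ⬝ᵥ ((M.map σ) *ᵥ (σ ∘ v)) := by
    simp only [Cfsg.hermForm, dotProduct, ← K.conj]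
    refine Finset.sum_congr rfl fun i _ => ?_
    congr 1
    exact RingHom.map_mulVec (σ : F →+* F) M v i
  have h2 : Mᵀ * M.map σ = 1 := by
    have := congrArg Matrix.transpose K.one_mul
    rwa [transpose_mul, transpose_one, K.adjoint, transpose_transpose] at this
  have h3 : (M *ᵥ u) ⬝ᵥ ((M.map σ) *ᵥ (σ ∘ v)) = u ⬝ᵥ (σ ∘ v) := by
    rw [← vecMul_transpose, ← dotProduct_mulVec, mulVec_mulVec, h2, one_mulVec]
  rw [h1, h3]
  simp [Cfsg.hermForm, dotProduct, Fintype.sum_sum_type, K.conj]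

theorem Frame.mem_GU₂_iff {g : GL (Fin d ⊕ Fin d) F} :
    g ∈ K.GU₂ ↔ ∀ u v : Fin d ⊕ Fin d → F,
      Cfsg.hermForm d F q ((mat g *ᵥ u) ∘ Sum.inl) ((mat g *ᵥ v) ∘ Sum.inl) +
          Cfsg.hermForm d F q ((mat g *ᵥ u) ∘ Sum.inr) ((mat g *ᵥ v) ∘ Sum.inr) =
        Cfsg.hermForm d F q (u ∘ Sum.inl) (v ∘ Sum.inl) + Cfsg.hermForm d F q (u ∘ Sum.inr) (v ∘ Sum.inr) := by
  have key : ∀ u : Fin d ⊕ Fin d → F, mat (K.coord g) *ᵥ (M *ᵥ u) = M *ᵥ (mat g *ᵥ u) := fun u => by
    rw [Frame.coord, coordEquiv_val, mulVec_mulVec, mulVec_mulVec, Matrix.mul_assoc _ N, K.one_mul, Matrix.mul_one]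
  rw [K.mem_GU₂, mem_GU_iff_forall]
  constructor
  · intro h u v
    have := h (M *ᵥ u) (M *ᵥ v)
    rwa [key, key, K.herm_mulVec, K.herm_mulVec] at this
  · intro h u v
    have hu : M *ᵥ (N *ᵥ u) = u := by rw [mulVec_mulVec, K.mul_one, one_mulVec]
    have hv : M *ᵥ (N *ᵥ v) = v := by rw [mulVec_mulVec, K.mul_one, one_mulVec]
    rw [← hu, ← hv, key, key, K.herm_mulVec, K.herm_mulVec]
    exact h _ _

theorem Frame.bd_mem (a b : GL (Fin d) F) : bd (a, b) ∈ K.GU₂ ↔ a ∈ Cfsg.GU d F q ∧ b ∈ Cfsg.GU d F q := by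
  have hl : ∀ u : Fin d ⊕ Fin d → F, (mat (bd (a, b)) *ᵥ u) ∘ Sum.inl = mat a *ᵥ (u ∘ Sum.inl) := fun u => by
    rw [bd_val, fromBlocks_mulVec]; funext i; simp
  have hr : ∀ u : Fin d ⊕ Fin d → F, (mat (bd (a, b)) *ᵥ u) ∘ Sum.inr = mat b *ᵥ (u ∘ Sum.inr) := fun u => by
    rw [bd_val, fromBlocks_mulVec]; funext i; simp
  have hs := sesqForm_of_unitary K.hermd
  simp only [K.mem_GU₂_iff, hl, hr, mem_GU_iff_forall]
  constructor
  · intro h
    refine ⟨fun u v => ?_, fun u v => ?_⟩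
    · have := h (Sum.elim u 0) (Sum.elim v 0)
      simpa [hs.zero_left] using this
    · have := h (Sum.elim 0 u) (Sum.elim 0 v)
      simpa [hs.zero_left] using this
  · rintro ⟨ha, hb⟩ u v
    rw [ha, hb]

theorem Frame.sw_mem : sw ∈ K.GU₂ := by
  have hl : ∀ u : Fin d ⊕ Fin d → F, (mat (sw : GL (Fin d ⊕ Fin d) F) *ᵥ u) ∘ Sum.inl = u ∘ Sum.inr := fun u => by
    rw [sw]; funext i; simp [fromBlocks_mulVec]
  have hr : ∀ u : Fin d ⊕ Fin d → F, (mat (sw : GL (Fin d ⊕ Fin d) F) *ᵥ u) ∘ Sum.inr = u ∘ Sum.inl := fun u => by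
    rw [sw]; funext i; simp [fromBlocks_mulVec]
  rw [K.mem_GU₂_iff]
  intro u v
  rw [hl, hl, hr, hr, add_comm]

/-- `(1 + c)⁻¹ (1 + z)` is an isometry. -/
theorem Frame.scaled_mem {z t s : GL (Fin d ⊕ Fin d) F} (hz : z ∈ K.GU₂) (hz2 : z * z = -1)
    (ht : mat t = 1 + mat z) {c : F} (hc : c * c = -1) (hs : mat s = (1 + c)⁻¹ • 1) : s * t ∈ K.GU₂ := by
  obtain ⟨Z, hZ⟩ : ∃ Z, Z = mat (K.coord z) := ⟨_, rfl⟩
  have hv : mat (K.coord (s * t)) = (1 + c)⁻¹ • (1 + Z) := by
    rw [hZ, Frame.coord, coordEquiv_val, coordEquiv_val, Units.val_mul, ht, hs, Matrix.smul_mul, Matrix.one_mul,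
      Matrix.mul_smul, Matrix.smul_mul, Matrix.mul_add, Matrix.add_mul, Matrix.mul_one, K.mul_one]
  have hZ2 : ∀ v : Fin n → F, Z *ᵥ (Z *ᵥ v) = -v := fun v => by
    rw [hZ, mulVec_mulVec, ← Units.val_mul, ← map_mul, hz2, Frame.coord, neg_coordEquiv, map_one, Units.val_neg,
      Units.val_one, neg_mulVec, one_mulVec]
  have hiso : ∀ u v, Cfsg.hermForm n F q (Z *ᵥ u) (Z *ᵥ v) = Cfsg.hermForm n F q u v :=
    hZ ▸ mem_GU_iff_forall.1 (K.mem_GU₂.1 hz)
  have hsq := sesqForm_of_unitary K.herm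
  have hσc : σ c = -c := by
    obtain ⟨k, hk⟩ : ∃ k, q = 4 * k + 3 := ⟨q / 4, by have := K.three; omega⟩
    rw [K.conj, hk, pow_add, pow_mul, show c ^ 4 = (c * c) * (c * c) by ring, hc, neg_mul_neg, _root_.one_mul,
      one_pow, _root_.one_mul, show c ^ 3 = (c * c) * c by ring, hc, neg_one_mul]
  rw [K.mem_GU₂, mem_GU_iff_forall]
  intro u v
  have e : Cfsg.hermForm n F q (Z *ᵥ u) v = -Cfsg.hermForm n F q u (Z *ᵥ v) := by
    rw [← hiso u (Z *ᵥ v), hZ2, hsq.neg_right, neg_neg]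
  have h1c : 1 + c ≠ 0 := fun h => K.two (by linear_combination hc - (c - 1) * h)
  have h2c : 1 - c ≠ 0 := fun h => K.two (by linear_combination hc + (c + 1) * h)
  rw [hv, smul_mulVec, smul_mulVec, hsq.smul_left, hsq.smul_right, add_mulVec, add_mulVec, one_mulVec, one_mulVec,
    hsq.add_left, hsq.add_right, hsq.add_right, hiso, e, map_inv₀, map_add, map_one, hσc, ← sub_eq_add_neg]
  field_simp
  linear_combination (Cfsg.hermForm n F q u v) * hc

/-- The two eigen spaces form an orthogonal decomposition whose stabiliser is the block group with the swap. -/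
theorem Frame.blocks {H : Subgroup (GL (Fin d ⊕ Fin d) F)}
    (hH : H ≤ K.GU₂ ⊓ specialLinear (Fin d ⊕ Fin d) F)
    (hbd : ∀ a b : GL (Fin d) F, bd (a, b) ∈ K.GU₂ ⊓ specialLinear (Fin d ⊕ Fin d) F → bd (a, b) ∈ H)
    (hsw : sw ∈ H) {g : GL (Fin d ⊕ Fin d) F} (hg : g ∈ H) (hne : g * sg * g⁻¹ ≠ sg)
    (hne' : g * sg * g⁻¹ ≠ -(sg : GL (Fin d ⊕ Fin d) F)) : K.GU₂ ⊓ specialLinear (Fin d ⊕ Fin d) F ≤ H := by
  classical
  let V : Fin 2 → Submodule F (Fin d ⊕ Fin d → F) := fun p =>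
    if p = 0 then LinearMap.ker ((LinearMap.funLeft F F Sum.inr : (Fin d ⊕ Fin d → F) →ₗ[F] (Fin d → F)))
    else LinearMap.ker ((LinearMap.funLeft F F Sum.inl : (Fin d ⊕ Fin d → F) →ₗ[F] (Fin d → F)))
  let D : Fin 2 → Submodule F (Fin n → F) := fun p => (V p).map (Matrix.toLin' M)
  have hV0 : ∀ {u : Fin d ⊕ Fin d → F}, u ∈ V 0 ↔ u ∘ Sum.inr = 0 := by
    intro u; simp [V, LinearMap.funLeft]
  have hV1 : ∀ {u : Fin d ⊕ Fin d → F}, u ∈ V 1 ↔ u ∘ Sum.inl = 0 := by
    intro u; simp [V, LinearMap.funLeft]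
  have hN : ∀ u : Fin d ⊕ Fin d → F, N *ᵥ (M *ᵥ u) = u := fun u => by rw [mulVec_mulVec, K.one_mul, one_mulVec]
  have hMinj : Function.Injective (Matrix.toLin' M) := fun u v h => by
    rw [toLin'_apply, toLin'_apply] at h
    rw [← hN u, ← hN v, h]
  have hdim : ∀ p, Module.finrank F (D p) = d := by
    intro p
    show Module.finrank F ((V p).map (Matrix.toLin' M)) = d
    rw [← ((V p).equivMapOfInjective _ hMinj).finrank_eq]
    have key : ∀ f : Fin d → Fin d ⊕ Fin d, Function.Injective f →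
        Module.finrank F (LinearMap.ker (LinearMap.funLeft F F f)) = d := by
      intro f hf
      have h := LinearMap.finrank_range_add_finrank_ker (LinearMap.funLeft F F f)
      rw [LinearMap.range_eq_top.2 (LinearMap.funLeft_surjective_of_injective F F f hf), finrank_top,
        Module.finrank_fintype_fun_eq_card, Module.finrank_fintype_fun_eq_card, Fintype.card_sum, Fintype.card_fin] at h
      omega
    by_cases hp : p = 0
    · subst hp
      exact key _ Sum.inr_injective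
    · obtain rfl : p = 1 := by omega
      exact key _ Sum.inl_injective
  have hcompl : IsCompl (D 0) (D 1) := by
    refine IsCompl.of_eq ?_ ?_
    · rw [eq_bot_iff]
      rintro _ ⟨⟨a, ha, rfl⟩, b, hb, hab⟩
      have := hMinj hab
      subst this
      have e : b = 0 := by
        funext i
        rcases i with i | i
        · exact congrFun (hV1.1 hb) i
        · exact congrFun (hV0.1 ha) i
      rw [e, map_zero]; exact zero_mem _
    · rw [eq_top_iff]
      intro x _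
      have hx : M *ᵥ (N *ᵥ x) = x := by rw [mulVec_mulVec, K.mul_one, one_mulVec]
      rw [Submodule.mem_sup]
      refine ⟨_, ⟨Sum.elim ((N *ᵥ x) ∘ Sum.inl) 0, hV0.2 rfl, rfl⟩, _,
        ⟨Sum.elim 0 ((N *ᵥ x) ∘ Sum.inr), hV1.2 rfl, rfl⟩, ?_⟩
      rw [← map_add, toLin'_apply]
      conv_rhs => rw [← hx]
      congr 1
      funext i; rcases i with i | i <;> simp
  have hs4 := sesqForm_of_unitary K.hermd
  have hD : IsNondegenerateMDecomposition (Cfsg.hermForm n F q) d D := by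
    refine ⟨⟨le_rfl, K.pos, hdim, ?_, ?_⟩, fun p => ?_, fun i j hij => ?_⟩
    · rw [iSupIndep_pair (i := 0) (j := 1) (by decide) (fun p => by fin_cases p <;> simp)]
      exact hcompl.disjoint
    · refine top_le_iff.1 (hcompl.sup_eq_top ▸ sup_le (le_iSup D 0) (le_iSup D 1))
    · rintro _ ⟨u, hu, rfl⟩ hne0
      rw [toLin'_apply] at hne0 ⊢
      have hu0 : u ≠ 0 := fun h => hne0 (by rw [h, mulVec_zero])
      have split : ∀ (a : Fin d → F) (b : Fin d ⊕ Fin d → F), b ∈ V p → (Sum.elim a 0 : Fin d ⊕ Fin d → F) ∈ V p →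
          Cfsg.hermForm n F q (M *ᵥ Sum.elim a 0) (M *ᵥ b) = Cfsg.hermForm d F q a (b ∘ Sum.inl) := by
        intro a b _ _
        rw [K.herm_mulVec]
        simp [hs4.zero_left]
      have split' : ∀ (a : Fin d → F) (b : Fin d ⊕ Fin d → F),
          Cfsg.hermForm n F q (M *ᵥ Sum.elim 0 a) (M *ᵥ b) = Cfsg.hermForm d F q a (b ∘ Sum.inr) := by
        intro a b
        rw [K.herm_mulVec]
        simp [hs4.zero_left]
      obtain ⟨x, hx, hxu⟩ : ∃ x ∈ V p, Cfsg.hermForm n F q (M *ᵥ x) (M *ᵥ u) ≠ 0 := by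
        fin_cases p
        · have hne1 : u ∘ Sum.inl ≠ 0 := fun h => hu0 (by
            funext i; rcases i with i | i
            exacts [congrFun h i, congrFun (hV0.1 hu) i])
          obtain ⟨a, ha⟩ := hs4.exists_left_ne_zero hne1
          exact ⟨Sum.elim a 0, hV0.2 rfl, by rw [split a u hu (hV0.2 rfl)]; exact ha⟩
        · have hne1 : u ∘ Sum.inr ≠ 0 := fun h => hu0 (by
            funext i; rcases i with i | i
            exacts [congrFun (hV1.1 hu) i, congrFun h i])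
          obtain ⟨a, ha⟩ := hs4.exists_left_ne_zero hne1
          exact ⟨Sum.elim 0 a, hV1.2 rfl, by rw [split' a u]; exact ha⟩
      exact ⟨⟨_, ⟨x, hx, rfl⟩, hxu⟩, _, ⟨x, hx, rfl⟩, unitary_ne_symm K.herm hxu⟩
    · rintro _ ⟨a, ha, rfl⟩ _ ⟨b, hb, rfl⟩
      rw [toLin'_apply, toLin'_apply, K.herm_mulVec]
      fin_cases i <;> fin_cases j <;> first | exact absurd rfl hij | skip
      · rw [hV0.1 ha, hV1.1 hb, hs4.zero_right, hs4.zero_left, add_zero]
      · rw [hV1.1 ha, hV0.1 hb, hs4.zero_right, hs4.zero_left, add_zero]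
  -- elements fixing both members are block diagonal
  have hfix : ∀ h : GL (Fin d ⊕ Fin d) F, (∀ p, (D p).map (Matrix.toLin' (mat (K.coord h))) = D p) →
      ∃ a b, h = bd (a, b) := by
    intro h hh
    have hVp : ∀ p, ∀ u ∈ V p, mat h *ᵥ u ∈ V p := by
      intro p u hu
      have : Matrix.toLin' (mat (K.coord h)) (Matrix.toLin' M u) ∈ D p := hh p ▸ ⟨_, ⟨u, hu, rfl⟩, rfl⟩
      obtain ⟨w, hw, e⟩ := this
      rw [toLin'_apply, toLin'_apply, toLin'_apply, Frame.coord, coordEquiv_val, mulVec_mulVec, Matrix.mul_assoc _ N,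
        K.one_mul, Matrix.mul_one, ← mulVec_mulVec] at e
      have e' := congrArg (N *ᵥ ·) e
      simp only [hN] at e'
      exact e' ▸ hw
    refine exists_bd_of_comm K.two (Units.ext (Matrix.ext_iff_mulVec.2 fun u => ?_))
    obtain ⟨a, ha⟩ : ∃ a : Fin d ⊕ Fin d → F, a = Sum.elim (u ∘ Sum.inl) 0 := ⟨_, rfl⟩
    obtain ⟨b, hb⟩ : ∃ b : Fin d ⊕ Fin d → F, b = Sum.elim (0 : Fin d → F) (u ∘ Sum.inr) := ⟨_, rfl⟩
    have hu : u = a + b := by rw [ha, hb]; funext i; rcases i with i | i <;> simp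
    have h0 : ∀ {v}, v ∈ V 0 → mat (sg : GL (Fin d ⊕ Fin d) F) *ᵥ v = v := fun {v} hv => by
      have h' := hV0.1 hv
      rw [sg, bd_val, fromBlocks_mulVec]
      funext i; rcases i with i | i
      · simp
      · have h'' := congrFun h' i
        simp only [Function.comp_apply, Pi.zero_apply] at h''
        simp [h'', neg_mulVec]
    have h1 : ∀ {v}, v ∈ V 1 → mat (sg : GL (Fin d ⊕ Fin d) F) *ᵥ v = -v := fun {v} hv => by
      have h' := hV1.1 hv
      rw [sg, bd_val, fromBlocks_mulVec]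
      funext i; rcases i with i | i
      · have h'' := congrFun h' i
        simp only [Function.comp_apply, Pi.zero_apply] at h''
        simp [h'']
      · simp [neg_mulVec]
    have ha0 : a ∈ V 0 := hV0.2 (by rw [ha]; rfl)
    have hb1 : b ∈ V 1 := hV1.2 (by rw [hb]; rfl)
    simp only [Units.val_mul, ← mulVec_mulVec, hu, mulVec_add, h0 ha0, h1 hb1, h0 (hVp 0 a ha0), h1 (hVp 1 b hb1),
      mulVec_neg]
  have hswap : ∀ p, (D p).map (Matrix.toLin' (mat (K.coord sw))) = D (Equiv.swap 0 1 p) := by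
    intro p
    refine Submodule.eq_of_le_of_finrank_le ?_ ?_
    · rintro _ ⟨_, ⟨u, hu, rfl⟩, rfl⟩
      refine ⟨mat (sw : GL (Fin d ⊕ Fin d) F) *ᵥ u, ?_, ?_⟩
      · fin_cases p
        · rw [show (Equiv.swap (0 : Fin 2) 1) ((fun i => i) ⟨0, by norm_num⟩) = 1 from rfl]
          refine hV1.2 ?_
          have h' := hV0.1 hu
          funext i
          have h'' := congrFun h' i
          simp only [Function.comp_apply, Pi.zero_apply] at h''
          simp [sw, fromBlocks_mulVec, h'']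
        · rw [show (Equiv.swap (0 : Fin 2) 1) ((fun i => i) ⟨1, by norm_num⟩) = 0 from rfl]
          refine hV0.2 ?_
          have h' := hV1.1 hu
          funext i
          have h'' := congrFun h' i
          simp only [Function.comp_apply, Pi.zero_apply] at h''
          simp [sw, fromBlocks_mulVec, h'']
      · rw [toLin'_apply, toLin'_apply, toLin'_apply, Frame.coord, coordEquiv_val, mulVec_mulVec, mulVec_mulVec,
          Matrix.mul_assoc _ N, K.one_mul, Matrix.mul_one]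
    · rw [Matrix.toLin'_apply', UC.finrank_map_gl K.herm, hdim, hdim]
  have hstab : ∀ h : GL (Fin d ⊕ Fin d) F, K.coord h ∈ decompositionStabilizer D →
      ∃ a b, h = bd (a, b) ∨ h = sw * bd (a, b) := by
    rintro h ⟨π, hπ⟩
    rcases (by decide : ∀ π : Equiv.Perm (Fin 2), π = 1 ∨ π = Equiv.swap 0 1) π with rfl | rfl
    · obtain ⟨a, b, e⟩ := hfix h fun p => by rw [hπ p]; rfl
      exact ⟨a, b, Or.inl e⟩
    · obtain ⟨a, b, e⟩ := hfix (sw * h) fun p => by
        rw [map_mul, Units.val_mul, Matrix.toLin'_mul, Submodule.map_comp, hπ p, hswap, Equiv.swap_apply_self]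
      exact ⟨a, b, Or.inr (by rw [← e, ← mul_assoc, sw_sq, _root_.one_mul])⟩
  have hsl : ∀ h : GL (Fin d ⊕ Fin d) F, K.coord h ∈ specialLinear (Fin n) F ↔ h ∈ specialLinear _ F := fun h => by
    rw [← specialLinear_comap (hMN := K.mul_one) (hNM := K.one_mul), Subgroup.mem_comap]
    exact Iff.rfl
  have hX : ∀ h : GL (Fin d ⊕ Fin d) F, K.coord h ∈ Cfsg.GU n F q ⊓ specialLinear (Fin n) F ↔
      h ∈ K.GU₂ ⊓ specialLinear (Fin d ⊕ Fin d) F := fun h => and_congr Iff.rfl (hsl h)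
  obtain ⟨H', hH'⟩ : ∃ H', H' = H.map K.coord.toMonoidHom := ⟨_, rfl⟩
  have hmem : ∀ h, K.coord h ∈ H' ↔ h ∈ H := fun h => by
    rw [hH']
    exact ⟨fun ⟨h', hh', e⟩ => K.coord.injective e ▸ hh', fun hh => ⟨h, hh, rfl⟩⟩
  have hlow : decompositionStabilizer D ⊓ (Cfsg.GU n F q ⊓ specialLinear (Fin n) F) ≤ H' := by
    intro x hx
    obtain ⟨h, rfl⟩ := K.coord.surjective x
    rw [hmem]
    obtain ⟨a, b, rfl | rfl⟩ := hstab h hx.1
    · exact hbd a b ((hX _).1 hx.2)
    · refine H.mul_mem hsw (hbd a b ?_)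
      have := mul_mem (inv_mem (hH hsw)) ((hX _).1 hx.2)
      rwa [inv_mul_cancel_left] at this
  have hhigh : H' ≤ Cfsg.GU n F q ⊓ specialLinear (Fin n) F := by
    rw [hH']
    rintro _ ⟨h, hh, rfl⟩
    exact (hX h).2 (hH hh)
  have hd4 := Nat.le_of_dvd K.pos K.four_dvd
  rcases (UC.isMaximalIn_uDecomposition K.herm K.conj K.card (by have := K.size; omega) hD (by omega) (by omega)).2 H' hlow hhigh
    with e | e
  · exfalso
    have hgD : K.coord g ∈ decompositionStabilizer D := (e.le ((hmem g).2 hg)).1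
    obtain ⟨a, b, rfl | rfl⟩ := hstab g hgD
    · exact hne (by rw [← sg_comm_bd, mul_inv_cancel_right])
    · refine hne' ?_
      rw [mul_assoc sw, ← sg_comm_bd, _root_.mul_inv_rev, ← mul_assoc, mul_assoc sw (sg * bd (a, b)),
        mul_inv_cancel_right, sg, sw_conj, ← bd_neg, neg_neg]
  · exact fun h hh => (hmem h).1 (e.ge ((hX h).2 hh))

/-- The unitary doubling data. -/
theorem Frame.doubling {R : Subgroup (GL (Fin d ⊕ Fin d) F)} (S : Split R)
    (hR : R ≤ K.GU₂) (four : ∃ j ∈ small R, j ∈ scalars (Fin d) F ∧ j * j = -1)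
    (hsmall : small R ≤ specialLinear (Fin d) F) : Doubling R (Cfsg.GU d F q) K.GU₂ := by
  classical
  have hd4 := Nat.le_of_dvd K.pos K.four_dvd
  haveI : Nonempty (Fin d) := ⟨⟨0, K.pos⟩⟩
  have small_le : small R ≤ Cfsg.GU d F q ⊓ specialLinear (Fin d) F :=
    fun a ha => ⟨((K.bd_mem a a).1 (hR (mem_small.1 ha))).1, hsmall ha⟩
  refine
    { split := S, four := four, dvd := by simpa using K.four_dvd, small_le := small_le, mem_bd := K.bd_mem, sw_mem := K.sw_mem,
      scaled := fun z hz hz2 t ht c j s _ hc _ hs => K.scaled_mem (hR hz) hz2 ht hc hs,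
      simple := ?_, diag := ?_, blocks := fun H hH hbd hsw g hg h1 h2 => K.blocks hH hbd hsw hg h1 h2 }
  · intro L hn r hr hrS hns
    let f : ↥(Cfsg.SU d F q) →* GL (Fin d) F :=
      Matrix.SpecialLinearGroup.toGL.comp (Cfsg.SU d F q).subtype
    have hf : ∀ x, f x ∈ Cfsg.GU d F q ⊓ specialLinear (Fin d) F :=
      fun x => ⟨x.2, SympType.mem_sl.2 x.1.2⟩
    have hsurj : ∀ y ∈ Cfsg.GU d F q ⊓ specialLinear (Fin d) F, ∃ x, f x = y :=
      fun y hy => ⟨⟨⟨mat y, SympType.mem_sl.1 hy.2⟩, hy.1⟩, Units.ext rfl⟩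
    let L' := L.comap f
    haveI : L'.Normal := ⟨fun k hk h => by
      show f (h * k * h⁻¹) ∈ L
      rw [map_mul, map_mul, map_inv]
      exact hn _ (hf h) _ hk (hf k)⟩
    haveI := CfsgLib.Forms4.isSimpleGroup_PSU (F := F) K.card d (by omega) (by omega)
    let π := QuotientGroup.mk' (Subgroup.center ↥(Cfsg.SU d F q))
    have hπ : Function.Surjective π := QuotientGroup.mk'_surjective _
    rcases Subgroup.Normal.eq_bot_or_eq_top (Subgroup.Normal.map (inferInstance : L'.Normal) π hπ) with h | h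
    · exfalso
      obtain ⟨r', rfl⟩ := hsurj r hrS
      have hc : π r' ∈ (⊥ : Subgroup _) := h ▸ ⟨r', hr, rfl⟩
      rw [Subgroup.mem_bot, QuotientGroup.mk'_apply, QuotientGroup.eq_one_iff, Subgroup.mem_center_iff] at hc
      refine hns (S.small_data.scalar_of_comm fun y hy => ?_)
      obtain ⟨y', rfl⟩ := hsurj y (small_le hy)
      rw [← map_mul, ← map_mul, hc y']
    · have hLZ : L' ⊔ Subgroup.center ↥(Cfsg.SU d F q) = ⊤ := by
        rw [← QuotientGroup.ker_mk' (Subgroup.center ↥(Cfsg.SU d F q)), ← Subgroup.comap_map_eq]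
        show Subgroup.comap π (Subgroup.map π L') = ⊤
        rw [h, Subgroup.comap_top]
      have hcom : commutator ↥(Cfsg.SU d F q) ≤ L' := by
        refine (Subgroup.Normal.quotient_commutative_iff_commutator_le).1 ⟨⟨fun a b => ?_⟩⟩
        obtain ⟨a, rfl⟩ := QuotientGroup.mk'_surjective L' a
        obtain ⟨b, rfl⟩ := QuotientGroup.mk'_surjective L' b
        have hdec : ∀ x : ↥(Cfsg.SU d F q), ∃ z ∈ Subgroup.center ↥(Cfsg.SU d F q),
            QuotientGroup.mk' L' x = QuotientGroup.mk' L' z := fun x => by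
          have hx : x ∈ L' ⊔ Subgroup.center ↥(Cfsg.SU d F q) := hLZ ▸ Subgroup.mem_top x
          rw [← SetLike.mem_coe, Subgroup.normal_mul, Set.mem_mul] at hx
          obtain ⟨k, hk, z, hz, e⟩ := hx
          refine ⟨z, hz, ?_⟩
          rw [← e, map_mul, (QuotientGroup.eq_one_iff (N := L') k).2 hk |> fun h' =>
            (show QuotientGroup.mk' L' k = 1 from h'), _root_.one_mul]
        obtain ⟨z, hz, e⟩ := hdec a
        rw [e, ← map_mul, ← map_mul, Subgroup.mem_center_iff.1 hz b]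
      rw [CfsgLib.AutPSU.commutator_SU_eq_top K.card (by omega) (by omega), top_le_iff] at hcom
      intro y hy
      obtain ⟨y', rfl⟩ := hsurj y hy
      exact (hcom ▸ Subgroup.mem_top y' : y' ∈ L')
  · intro r hr hrns hr2 a ha
    have hrU := (small_le hr).1
    have hsq := sesqForm_of_unitary K.hermd
    have hiso := mem_GU_iff_forall.1 hrU
    obtain ⟨U, hU⟩ : ∃ U : Submodule F (Fin d → F), ∀ {v}, v ∈ U ↔ mat r *ᵥ v = v :=
      ⟨LinearMap.ker (Matrix.toLin' (mat r) - LinearMap.id), by simp [sub_eq_zero]⟩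
    have hrr : ∀ v : Fin d → F, mat r *ᵥ (mat r *ᵥ v) = v := fun v => by
      rw [mulVec_mulVec, ← Units.val_mul, hr2, Units.val_one, one_mulVec]
    have hadj : ∀ x v, Cfsg.hermForm d F q (mat r *ᵥ x) v = Cfsg.hermForm d F q x (mat r *ᵥ v) := fun x v => by
      rw [← hiso x (mat r *ᵥ v), hrr]
    have hne : U ≠ ⊥ := fun hbot => by
      refine hrns ((mem_scalars_iff r).2 ⟨-1, Matrix.ext_iff_mulVec.2 fun w => ?_⟩)
      rw [Units.val_neg, Units.val_one, neg_smul, one_smul, neg_mulVec, one_mulVec]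
      have : w + mat r *ᵥ w ∈ U := hU.2 (by rw [mulVec_add, hrr, add_comm])
      rw [hbot, Submodule.mem_bot] at this
      exact eq_neg_of_add_eq_zero_right this
    have hUnd : IsNondegenerateOn (Cfsg.hermForm d F q) U := fun w hw hw0 => by
      obtain ⟨x, hx⟩ := hsq.exists_left_ne_zero hw0
      have hxU : x + mat r *ᵥ x ∈ U := hU.2 (by rw [mulVec_add, hrr, add_comm])
      have e : Cfsg.hermForm d F q (x + mat r *ᵥ x) w ≠ 0 := by
        rw [hsq.add_left, hadj, hU.1 hw, ← two_mul]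
        exact mul_ne_zero K.two hx
      exact ⟨⟨_, hxU, e⟩, _, hxU, unitary_ne_symm K.hermd e⟩
    obtain ⟨v, hv, hvv⟩ := UC.exists_norm_one K.hermd hUnd hne
    have hrv := hU.1 hv
    obtain ⟨φ, hφ⟩ : ∃ φ, φ = leftVec (Cfsg.hermForm d F q) v := ⟨_, rfl⟩
    have hφx : ∀ x, φ ⬝ᵥ x = Cfsg.hermForm d F q x v := fun x => by
      rw [hφ]; exact hsq.dot_leftVec v x
    have hφv : φ ⬝ᵥ v = 1 := by rw [hφx, hvv]
    have hφr : φ ᵥ* mat r = φ := by
      refine dotProduct_eq _ _ fun x => ?_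
      rw [← dotProduct_mulVec, hφx, hφx, hadj, hrv]
    have hd : σ (mat a).det * (mat a).det = 1 := by
      have := congrArg Units.val (CfsgLib.AutPSU.mem_normOne.1 (CfsgLib.AutPSU.det_mem_normOne K.card ⟨a, ha⟩))
      rw [Units.val_pow_eq_pow_val, Units.val_one, Matrix.GeneralLinearGroup.val_det_apply, pow_succ, ← K.conj] at this
      exact this
    have hA : ∀ t₀ : F, σ t₀ * t₀ = 1 → ∃ A : GL (Fin d) F, mat A = 1 + vecMulVec ((t₀ - 1) • v) φ ∧
        (mat A).det = t₀ ∧ A ∈ Cfsg.GU d F q := by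
      intro t₀ hd
      have hd0 : t₀ ≠ 0 := fun h => by simp [h] at hd
      have hdet : (1 + vecMulVec ((t₀ - 1) • v) φ).det = t₀ := by
        rw [Matrix.vecMulVec_eq Unit, Matrix.det_one_add_replicateCol_mul_replicateRow, dotProduct_smul, hφv, smul_eq_mul,
          _root_.mul_one]
        ring
      refine ⟨Matrix.GeneralLinearGroup.mkOfDetNeZero _ (by rw [hdet]; exact hd0), rfl, hdet,
        mem_GU_iff_forall.2 fun x y => ?_⟩
      have hval : ∀ x, (1 + vecMulVec ((t₀ - 1) • v) φ) *ᵥ x = x + ((t₀ - 1) * Cfsg.hermForm d F q x v) • v := fun x => by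
        funext i
        simp [add_mulVec, smul_mulVec, vecMulVec_mulVec, hφx]
        ring
      show Cfsg.hermForm d F q ((1 + vecMulVec ((t₀ - 1) • v) φ) *ᵥ x) ((1 + vecMulVec ((t₀ - 1) • v) φ) *ᵥ y) = _
      rw [hval, hval]
      simp only [hsq.add_left, hsq.add_right, hsq.smul_left, hsq.smul_right, hvv, map_mul, map_sub, map_one]
      rw [K.hermd.herm v y]
      linear_combination (Cfsg.hermForm d F q x v * σ (Cfsg.hermForm d F q y v)) * hd
    obtain ⟨A, hA1, hA2, hA3⟩ := hA (mat a).det hd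
    obtain ⟨B, hB1, hB2, hB3⟩ := hA (mat a).det⁻¹ (by rw [map_inv₀, ← mul_inv, hd, inv_one])
    have hd0 : (mat a).det ≠ 0 := fun h => by simp [h] at hd
    refine ⟨A, hA3, B, hB3, hA2, by rw [hA2, hB2, mul_inv_cancel₀ hd0], Units.ext ?_, Units.ext ?_, ?_, ?_⟩
    · rw [Units.val_mul, Units.val_mul, hA1, add_mul, mul_add, _root_.one_mul, _root_.mul_one, mul_vecMulVec,
        vecMulVec_mul, mulVec_smul, hrv, hφr]
    · rw [Units.val_mul, Units.val_mul, hB1, add_mul, mul_add, _root_.one_mul, _root_.mul_one, mul_vecMulVec,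
        vecMulVec_mul, mulVec_smul, hrv, hφr]
    · rw [hA1, add_sub_cancel_left, Matrix.sub_mul, Matrix.one_mul, mul_vecMulVec, mulVec_smul, hrv, sub_self]
    · rw [hB1, add_sub_cancel_left, Matrix.sub_mul, Matrix.one_mul, mul_vecMulVec, mulVec_smul, hrv, sub_self]

end CfsgLib.SympType
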