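import Cfsg.Agent.SympType.UnitaryDouble
import Cfsg.Agent.SympType.LinearPow
import Cfsg.Agent.SUFour.Extraspecial

/-!
# Normalisers of symplectic type `2`-groups are maximal in `SU_{2^k}(p)`, `p ≡ 3 (mod 4)`

Induction on `k` by doubling, from the dimension four.
-/

set_option autoImplicit false
set_option linter.unusedSectionVars false

namespace CfsgLib.SympType

open Matrix Cfsg.Geo CfsgLib.MaxSub

local notation:max "mat" => Units.val

variable {F : Type*} [Field F] [Fintype F] {q n d : ℕ}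

/-- Orthonormal coordinates in which two anticommuting isometric involutions are `diag (1, -1)` and the swap. -/
theorem exists_unitary_frame {σ : F ≃+* F} (hσ : ∀ a, σ a = a ^ q) (hf : IsUnitaryForm σ (Cfsg.hermForm n F q))
    (hfd : IsUnitaryForm σ (Cfsg.hermForm d F q)) (hF : Fintype.card F = q ^ 2) (h2 : (2 : F) ≠ 0)
    (h3 : q % 4 = 3) (hn : n = d + d) (hd4 : 4 ∣ d) (hd0 : 0 < d) {x y : GL (Fin n) F} (hx : x ∈ Cfsg.GU n F q) (hy : y ∈ Cfsg.GU n F q)
    (hx2 : x * x = 1) (hy2 : y * y = 1) (hxy : x * y = -(y * x)) :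
    ∃ (M : Matrix (Fin n) (Fin d ⊕ Fin d) F) (N : Matrix (Fin d ⊕ Fin d) (Fin n) F) (K : Frame q σ M N),
      K.coord sg = x ∧ K.coord sw = y := by
  classical
  have hs := sesqForm_of_unitary hf
  have hxi := mem_GU_iff_forall.1 hx
  have hyi := mem_GU_iff_forall.1 hy
  have hxx : ∀ v : Fin n → F, mat x *ᵥ (mat x *ᵥ v) = v := fun v => by
    rw [mulVec_mulVec, ← Units.val_mul, hx2, Units.val_one, one_mulVec]
  have hyy : ∀ v : Fin n → F, mat y *ᵥ (mat y *ᵥ v) = v := fun v => by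
    rw [mulVec_mulVec, ← Units.val_mul, hy2, Units.val_one, one_mulVec]
  have hxyv : ∀ v : Fin n → F, mat x *ᵥ (mat y *ᵥ v) = -(mat y *ᵥ (mat x *ᵥ v)) := fun v => by
    rw [mulVec_mulVec, mulVec_mulVec, ← Units.val_mul, hxy, Units.val_neg, neg_mulVec, Units.val_mul]
  -- the eigen space of `1`
  obtain ⟨E, hE⟩ : ∃ E : Submodule F (Fin n → F), ∀ {v}, v ∈ E ↔ mat x *ᵥ v = v :=
    ⟨LinearMap.ker (Matrix.toLin' (mat x) - LinearMap.id), by simp [sub_eq_zero]⟩
  obtain ⟨E', hE'⟩ : ∃ E' : Submodule F (Fin n → F), ∀ {v}, v ∈ E' ↔ mat x *ᵥ v = -v :=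
    ⟨LinearMap.ker (Matrix.toLin' (mat x) + LinearMap.id), by simp [eq_neg_iff_add_eq_zero]⟩
  have horth : ∀ u ∈ E, ∀ v ∈ E', Cfsg.hermForm n F q u v = 0 := fun u hu v hv => by
    have h := hxi u v
    rw [hE.1 hu, hE'.1 hv, hs.neg_right, neg_eq_iff_add_eq_zero, ← two_mul] at h
    exact (mul_eq_zero.1 h).resolve_left h2
  have hsplit : ∀ v : Fin n → F, ∃ p ∈ E, ∃ r ∈ E', v = p + r := fun v =>
    ⟨(2 : F)⁻¹ • (v + mat x *ᵥ v), hE.2 (by rw [mulVec_smul, mulVec_add, hxx, add_comm]),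
      (2 : F)⁻¹ • (v - mat x *ᵥ v), hE'.2 (by rw [mulVec_smul, mulVec_sub, hxx, ← smul_neg, neg_sub]), by
        rw [← smul_add, add_add_sub_cancel, ← two_smul F v, smul_smul, inv_mul_cancel₀ h2, one_smul]⟩
  have hnd : IsNondegenerateOn (Cfsg.hermForm n F q) E := fun w hw hw0 => by
    obtain ⟨z, hz⟩ := hs.exists_left_ne_zero hw0
    obtain ⟨p, hp, r, hr, rfl⟩ := hsplit z
    rw [hs.add_left, unitary_orth_symm hf (horth w hw r hr), add_zero] at hz
    exact ⟨⟨p, hp, hz⟩, p, hp, unitary_ne_symm hf hz⟩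
  have hswap : ∀ {v}, v ∈ E → mat y *ᵥ v ∈ E' := fun {v} hv => hE'.2 (by rw [hxyv, hE.1 hv])
  have hswap' : ∀ {v}, v ∈ E' → mat y *ᵥ v ∈ E := fun {v} hv => hE.2 (by
    rw [hxyv, hE'.1 hv, mulVec_neg, neg_neg])
  have hdim : Module.finrank F E = d := by
    have hc : IsCompl E E' := by
      refine IsCompl.of_eq ?_ ?_
      · rw [eq_bot_iff]
        rintro v ⟨hv, hv'⟩
        have e := (hE.1 hv).symm.trans (hE'.1 hv')
        rw [eq_neg_iff_add_eq_zero, ← two_smul F v] at e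
        exact (smul_eq_zero.1 e).resolve_left h2
      · rw [eq_top_iff]
        intro v _
        obtain ⟨p, hp, r, hr, rfl⟩ := hsplit v
        exact Submodule.add_mem_sup hp hr
    have h := Submodule.finrank_add_eq_of_isCompl hc
    have e : E' = E.map (Matrix.toLin' (mat y)) := by
      refine le_antisymm (fun v hv => ⟨_, hswap' hv, by rw [toLin'_apply, hyy]⟩) ?_
      rintro _ ⟨v, hv, rfl⟩
      rw [toLin'_apply]; exact hswap hv
    rw [e, Matrix.toLin'_apply', UC.finrank_map_gl hf, Module.finrank_fin_fun] at h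
    omega
  obtain ⟨b, hb, hbb⟩ := UC.exists_frame hf hnd hdim
  obtain ⟨M, hM⟩ : ∃ M : Matrix (Fin n) (Fin d ⊕ Fin d) F, ∀ s,
      M *ᵥ Pi.single s 1 = Sum.elim b (fun i => mat y *ᵥ b i) s :=
    ⟨Matrix.of fun k s => Sum.elim b (fun i => mat y *ᵥ b i) s k, fun s => by
      funext k; simp⟩
  have hcol : ∀ s s', Cfsg.hermForm n F q (M *ᵥ Pi.single s 1) (M *ᵥ Pi.single s' 1) = if s = s' then 1 else 0 := by
    rintro (i | i) (j | j) <;> simp only [hM, Sum.elim_inl, Sum.elim_inr, Sum.inl.injEq, Sum.inr.injEq, reduceCtorEq,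
      if_false]
    · exact hbb i j
    · exact horth _ (hb i) _ (hswap (hb j))
    · exact unitary_orth_symm hf (horth _ (hb j) _ (hswap (hb i)))
    · rw [hyi, hbb]
  have hNM : (M.map σ)ᵀ * M = 1 := by
    refine Matrix.ext fun s s' => ?_
    rw [Matrix.one_apply]
    refine Eq.trans ?_ ((hcol s' s).trans (if_congr eq_comm rfl rfl))
    simp [Cfsg.hermForm, Matrix.mul_apply, hσ, mul_comm]
  have hMN : M * (M.map σ)ᵀ = 1 :=
    (Matrix.mul_eq_one_comm_of_equiv ((finSumFinEquiv (m := d) (n := d)).trans (finCongr hn.symm))).1 hNM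
  refine ⟨M, _, ⟨hσ, hf, hfd, hF, h2, h3, hn, hd4, hd0, rfl, hMN, hNM⟩, ?_⟩
  have key : ∀ (g : GL (Fin d ⊕ Fin d) F) (z : GL (Fin n) F), mat z * M = M * mat g →
      coordEquiv M _ hMN hNM g = z :=
    fun g z h => Units.ext (by rw [coordEquiv_val, ← h, Matrix.mul_assoc, hMN, Matrix.mul_one])
  refine ⟨key _ _ ?_, key _ _ ?_⟩
  · refine Matrix.ext_of_mulVec_single fun s => ?_
    rw [← mulVec_mulVec, ← mulVec_mulVec]
    rcases s with i | i
    · rw [hM, sg, bd_val, mulVec_single_one, Sum.elim_inl, hE.1 (hb i)]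
      conv_lhs => rw [← Sum.elim_inl b (fun i => mat y *ᵥ b i) i, ← hM]
      congr 1
      funext s; rcases s with j | j <;> simp [Matrix.one_apply, Pi.single_apply]
    · rw [hM, sg, bd_val, mulVec_single_one, Sum.elim_inr, hE'.1 (hswap (hb i))]
      conv_lhs => rw [← Sum.elim_inr b (fun i => mat y *ᵥ b i) i, ← hM, ← mulVec_neg]
      congr 1
      funext s; rcases s with j | j <;> simp [Matrix.one_apply, Pi.single_apply]
  · refine Matrix.ext_of_mulVec_single fun s => ?_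
    rw [← mulVec_mulVec, ← mulVec_mulVec]
    rcases s with i | i
    · rw [hM, Sum.elim_inl]
      conv_lhs => rw [← Sum.elim_inr b (fun i => mat y *ᵥ b i) i, ← hM]
      rw [sw]
      congr 1
      funext s; rcases s with j | j <;> simp [Matrix.one_apply, Pi.single_apply]
    · rw [hM, Sum.elim_inr, hyy]
      conv_lhs => rw [← Sum.elim_inl b (fun i => mat y *ᵥ b i) i, ← hM]
      rw [sw]
      congr 1
      funext s; rcases s with j | j <;> simp [Matrix.one_apply, Pi.single_apply]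

/-- Maximality in every dimension `2^k`, `k ≥ 2`, for data with a scalar square root of `-1`. -/
theorem isMaximalIn_su_pow_of_data (hF : Fintype.card F = q ^ 2) (hq : q.Prime) (hq4 : q % 4 = 3) :
    ∀ k, 2 ≤ k → ∀ (R : Subgroup (GL (Fin (2 ^ k)) F)), Data R → R ≤ Cfsg.GU (2 ^ k) F q →
      Nat.card R = 2 ^ (2 + 2 * k) → (∃ j ∈ R, j ∈ scalars (Fin (2 ^ k)) F ∧ j * j = -1) →
      IsMaximalIn (Cfsg.GU (2 ^ k) F q ⊓ specialLinear (Fin (2 ^ k)) F)
        (subgroupNormalizer R ⊓ (Cfsg.GU (2 ^ k) F q ⊓ specialLinear (Fin (2 ^ k)) F)) := by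
  classical
  obtain ⟨σ, hne, hinv, hσ⟩ := exists_conjEquiv hF
  intro k hk
  induction k, hk using Nat.le_induction with
  | base =>
    intro R D hRU hcard ⟨j, hj, hjs, hj2⟩
    obtain ⟨hsymp, hcen⟩ := D.symplecticType (by simp) hj hjs hj2
    exact CfsgLib.SUFour.isMaximalIn_extraspecial hF q (R : Subgroup (GL (Fin 4) F)) hq rfl hq4 hsymp D.abs hRU
      hcard hcen
  | succ k hk ih =>
    intro R D hRU hcard ⟨j, hj, hjs, hj2⟩
    have h1 : 1 < Fintype.card (Fin (2 ^ (k + 1))) := by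
      rw [Fintype.card_fin]; exact Nat.one_lt_two_pow (by omega)
    have h4 : 4 ∣ 2 ^ k := (pow_dvd_pow 2 hk : 2 ^ 2 ∣ 2 ^ k)
    obtain ⟨x, hx, y, hy, hx2, hy2, hxy⟩ := D.exists_involutions h1 hj hjs hj2
    obtain ⟨M, N, K, hsg, hsw⟩ := exists_unitary_frame (n := 2 ^ (k + 1)) (d := 2 ^ k) hσ
      (isUnitaryForm_hermForm hne hinv hσ) (isUnitaryForm_hermForm hne hinv hσ) hF D.two hq4
      (by rw [pow_succ]; omega) h4 (Nat.two_pow_pos k) (hRU hx) (hRU hy) hx2 hy2 hxy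
    obtain ⟨R₂, hR₂⟩ : ∃ R₂ : Subgroup (GL (Fin (2 ^ k) ⊕ Fin (2 ^ k)) F), R₂ = R.comap K.coord.toMonoidHom :=
      ⟨_, rfl⟩
    have S : Split R₂ := by
      subst hR₂
      refine ⟨D.comap, ?_, ?_⟩
      · show K.coord sg ∈ R
        rw [hsg]; exact hx
      · show K.coord sw ∈ R
        rw [hsw]; exact hy
    obtain ⟨i, hi, hi2⟩ : ∃ i, i ∈ R₂ ∧ K.coord i = j :=
      ⟨K.coord.symm j, by rw [hR₂, Subgroup.mem_comap]; simpa using hj, by simp⟩
    have his : i ∈ scalars _ F := S.data.scalar_of_comm fun z hz => K.coord.injective (by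
      rw [map_mul, map_mul, hi2]; exact scalar_comm hjs _)
    have hii : i * i = -1 := K.coord.injective (by
      rw [map_mul, hi2, hj2, Frame.coord, neg_coordEquiv, map_one])
    obtain ⟨j₀, hj₀, hj₀s, hj₀2⟩ := S.small_root hi his hii
    have hsmall : Nat.card (small R₂) = 2 ^ (2 + 2 * k) := by
      have h : Nat.card R = 4 * Nat.card (small R₂) := by
        rw [← S.card_eq, hR₂]
        exact (Nat.card_congr (K.coord.toEquiv.subtypeEquiv fun g => Iff.rfl)).symm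
      rw [hcard, show 2 + 2 * (k + 1) = 2 + (2 + 2 * k) by ring, pow_add] at h
      omega
    have hRle : R₂ ≤ K.GU₂ := hR₂ ▸ fun g hg => hRU hg
    have L := K.doubling S hRle ⟨j₀, hj₀, hj₀s, hj₀2⟩ fun a ha => CfsgLib.Aschbacher.mem_specialLinear_iff.2
      (S.small_data.det_eq_one hj₀ hj₀s hj₀2 (by rwa [Fintype.card_fin]) ha)
    refine isMaximalIn_of_comap K.coord ?_
    have e1 : (subgroupNormalizer R).comap K.coord.toMonoidHom = subgroupNormalizer R₂ := hR₂ ▸ normalizer_comap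
    have e2 : (specialLinear (Fin (2 ^ (k + 1))) F).comap K.coord.toMonoidHom =
        specialLinear (Fin (2 ^ k) ⊕ Fin (2 ^ k)) F := specialLinear_comap
    simp only [Subgroup.comap_inf, e1, e2]
    exact L.isMaximalIn (ih _ S.small_data (fun a ha => (L.small_le ha).1) hsmall ⟨j₀, hj₀, hj₀s, hj₀2⟩)

/-- The normaliser of `4 ∘ 2^{1+2k}` is maximal in `SU_{2^k}(p)`, `p ≡ 3 (mod 4)`. -/
theorem isMaximalIn_su_pow {k : ℕ} (hk : 2 ≤ k) (hF : Fintype.card F = q ^ 2) (hq : q.Prime) (hq4 : q % 4 = 3)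
    (R : Subgroup (GL (Fin (2 ^ k)) F)) (hsymp : IsSymplecticTypeGroup 2 R)
    (habs : ActsAbsolutelyIrreducibly (matrixSet R)) (hRU : R ≤ Cfsg.GU (2 ^ k) F q)
    (hcard : Nat.card R = 2 ^ (2 + 2 * k)) (hcen : Nat.card (Subgroup.center R) = 4) :
    IsMaximalIn (Cfsg.GU (2 ^ k) F q ⊓ specialLinear (Fin (2 ^ k)) F)
      (subgroupNormalizer R ⊓ (Cfsg.GU (2 ^ k) F q ⊓ specialLinear (Fin (2 ^ k)) F)) := by
  have : NeZero (2 ^ k) := ⟨(Nat.two_pow_pos k).ne'⟩
  have h2 : (2 : F) ≠ 0 := two_ne_zero_of_odd (by rw [hF]; exact (Nat.odd_iff.2 (by omega)).pow)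
  have D := Data.of_symplecticType h2 hsymp habs
  exact isMaximalIn_su_pow_of_data hF hq hq4 k hk R D hRU hcard (D.exists_root hcen)

end CfsgLib.SympType
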